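import Cfsg.Prelude.Def_CaseTheorems
import Cfsg.Agent.Lib.Solvable.CoprimeAction
import Cfsg.Agent.Lib.Solvable.Core

set_option autoImplicit false

/-!
Solvable groups without a p'-core have characteristic p, and this passes to centralizers of p-subgroups.
-/

namespace CfsgLib.Case

open Subgroup

variable {G : Type*} [Group G] [Finite G]

/-- In a solvable group with trivial p'-core the centralizer of the p-core lies in it. -/
theorem centralizer_pCore_le_of_solvable {p : ℕ} [Fact p.Prime] [Group.IsSolvable G]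
    (h : Cfsg.pPrimeCore p G = ⊥) :
    centralizer (Cfsg.pCore p G : Set G) ≤ Cfsg.pCore p G := by
  have hF : Cfsg.fittingSubgroup G ≤ Cfsg.pCore p G := by
    rw [CfsgLib.Solvable.fittingSubgroup_eq_iSup_pCore]
    refine iSup_le fun q => ?_
    obtain ⟨q, hq⟩ := q
    haveI : Fact q.Prime := ⟨(Nat.mem_primeFactors.1 hq).1⟩
    by_cases hqp : q = p
    · subst hqp
      exact le_rfl
    · obtain ⟨n, hn⟩ := CfsgLib.Solvable.card_pCore (p := q) (G := G)
      have h2 : (Nat.card (Cfsg.pCore q G)).Coprime p := by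
        rw [hn]
        exact ((Nat.coprime_primes Fact.out Fact.out).2 hqp).pow_left n
      show Cfsg.pCore q G ≤ _
      exact (CfsgLib.Solvable.le_pPrimeCore (CfsgLib.Solvable.pCore_normal q G) h2).trans
        (h ▸ bot_le)
  refine le_trans ?_ hF
  refine le_trans ?_ CfsgLib.Solvable.centralizer_fittingSubgroup_le
  exact centralizer_le hF

/-- If `L` is solvable with trivial p'-core and `W ≤ L` is a p-subgroup whose centralizer lies in
`L`, then `C_G(W)` normalises no nontrivial p'-subgroup of itself. -/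
theorem eq_bot_of_centralizer_invariant {p : ℕ} [Fact p.Prime] (L W D : Subgroup G)
    [Group.IsSolvable L] (hL : Cfsg.pPrimeCore p L = ⊥) (hW : IsPGroup p W) (hWL : W ≤ L)
    (hCL : centralizer (W : Set G) ≤ L) (hD : (Nat.card D).Coprime p)
    (hDC : D ≤ centralizer (W : Set G))
    (hCD : centralizer (W : Set G) ≤ normalizer (D : Set G)) : D = ⊥ := by
  have hUp : IsPGroup p ((Cfsg.pCore p L).map L.subtype) :=
    (CfsgLib.Solvable.pCore_isPGroup p L).map _
  have hLU : L ≤ normalizer ((Cfsg.pCore p L).map L.subtype : Set G) := by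
    haveI := CfsgLib.Solvable.pCore_normal p L
    have h : normalizer ((Cfsg.pCore p L : Subgroup L) : Set L) = ⊤ :=
      normalizer_eq_top (Cfsg.pCore p L)
    calc L = (⊤ : Subgroup L).map L.subtype := by rw [← MonoidHom.range_eq_map, range_subtype]
      _ = (normalizer ((Cfsg.pCore p L : Subgroup L) : Set L)).map L.subtype := by rw [h]
      _ ≤ _ := le_normalizer_map _
  have hdisj : ∀ x ∈ (Cfsg.pCore p L).map L.subtype, x ∈ D → x = 1 := by
    intro x hx hx'
    obtain ⟨n, hn⟩ := IsPGroup.iff_card.1 hUp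
    exact disjoint_def.1 (disjoint_iff.2 (inf_eq_bot_of_coprime (by
      rw [hn]; exact (hD.pow_right n).symm))) hx hx'
  have hDU : D ≤ centralizer ((Cfsg.pCore p L).map L.subtype : Set G) := by
    refine CfsgLib.Solvable.thompson_pxq hW hD hUp (le_centralizer_iff.1 hDC)
      (hWL.trans hLU) ((hDC.trans hCL).trans hLU) ?_
    rintro u ⟨huU, huC⟩ d hd
    have h1 : u * d * u⁻¹ * d⁻¹ ∈ (Cfsg.pCore p L).map L.subtype := by
      have h := (mem_normalizer_iff.1 (hLU (hCL (hDC hd))) u⁻¹).1 (inv_mem huU)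
      have h' := mul_mem huU h
      simpa [mul_assoc] using h'
    have h2 : u * d * u⁻¹ * d⁻¹ ∈ D :=
      mul_mem ((mem_normalizer_iff.1 (hCD huC) d).1 hd) (inv_mem hd)
    have h3 := hdisj _ h1 h2
    calc d * u = (u * d * u⁻¹ * d⁻¹) * (d * u) := by rw [h3, one_mul]
      _ = u * d := by group
  rw [eq_bot_iff]
  intro d hd
  refine hdisj d ?_ hd
  have hdL : d ∈ L := hCL (hDC hd)
  refine ⟨⟨d, hdL⟩, centralizer_pCore_le_of_solvable hL ?_, rfl⟩
  intro u hu
  exact Subtype.ext (hDU hd u.1 ⟨u, hu, rfl⟩)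

end CfsgLib.Case
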