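import Cfsg.Prelude.Def_CaseTheorems
import Cfsg.Agent.Lib.Solvable.Core
import Cfsg.Agent.Lib.Fusion.ThompsonTransfer
import Mathlib.GroupTheory.Transfer
import Mathlib.Tactic.Linarith
import Mathlib.GroupTheory.SpecificGroups.Cyclic.Basic

set_option autoImplicit false

/-!
2-nilpotence of groups with cyclic Sylow 2-subgroups, and of groups with a central involution whose
Sylow 2-subgroup has a cyclic subgroup of index two with all outside elements involutions.
-/

namespace CfsgLib.Case

variable {G : Type*} [Group G] [Finite G]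

theorem index_oddCore_of_complement (N : Subgroup G) [N.Normal] (hN : Odd (Nat.card N))
    (k : ℕ) (hk : N.index = 2 ^ k) : ∃ l, (Cfsg.pPrimeCore 2 G).index = 2 ^ l := by
  have h := Subgroup.index_dvd_of_le
    (CfsgLib.Solvable.le_pPrimeCore (p := 2) (inferInstance : N.Normal) (Nat.coprime_two_right.2 hN))
  rw [hk] at h
  obtain ⟨l, -, hl⟩ := (Nat.dvd_prime_pow Nat.prime_two).1 h
  exact ⟨l, hl⟩

theorem index_oddCore_of_cyclic (T : Subgroup G) (hT : IsPGroup 2 T) (hTi : Odd T.index)
    (hcyc : IsCyclic T) : ∃ l, (Cfsg.pPrimeCore 2 G).index = 2 ^ l := by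
  haveI := Fact.mk Nat.prime_two
  rcases (Nat.card G).even_or_odd with hev | hodd
  · obtain ⟨P, hP⟩ : ∃ P : Sylow 2 G, (P : Subgroup G) = T :=
      ⟨hT.toSylow (fun h => (Nat.not_even_iff_odd.2 hTi) (even_iff_two_dvd.2 h)), rfl⟩
    subst hP
    have hcard : 1 < Nat.card G := by
      have := Nat.card_pos (α := G)
      obtain ⟨m, hm⟩ := hev
      omega
    have hmin : (Nat.card G).minFac = 2 := Nat.minFac_eq (Nat.card G) |>.trans (if_pos (even_iff_two_dvd.1 hev))
    have hle := IsCyclic.normalizer_le_centralizer (p := 2) hmin hcyc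
    have hc := MonoidHom.ker_transferSylow_isComplement' P hle
    obtain ⟨k, hk⟩ := IsPGroup.iff_card.1 hT
    refine index_oddCore_of_complement (MonoidHom.transferSylow P hle).ker ?_ k ?_
    · rwa [hc.index_eq_card] at hTi
    · rw [hc.symm.index_eq_card, hk]
  · exact index_oddCore_of_complement (⊤ : Subgroup G) (by rwa [Subgroup.card_top]) 0 (by simp)

omit [Finite G] in
theorem involution_eq_of_cyclic {K : Subgroup G} [Finite K] (hK : IsCyclic K) {x y : G}
    (hx : x ∈ K) (hy : y ∈ K) (hx2 : orderOf x = 2) (hy2 : orderOf y = 2) : x = y := by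
  obtain ⟨g, hg⟩ := hK.exists_ofOrder_eq_natCard
  have key : ∀ z : G, z ∈ K → orderOf z = 2 → z = (g : G) ^ (orderOf g / 2) := by
    intro z hz hz2
    have hmem : (⟨z, hz⟩ : K) ∈ Submonoid.powers g := mem_powers_iff_mem_zpowers.2
      (Subgroup.eq_top_of_card_eq (Subgroup.zpowers g) (by rw [Nat.card_zpowers, hg]) ▸ Subgroup.mem_top _)
    obtain ⟨i, hi⟩ := hmem
    obtain ⟨i', hi'⟩ : ∃ i', i' = i % orderOf g := ⟨_, rfl⟩
    have hlt : i' < orderOf g := hi' ▸ Nat.mod_lt _ (orderOf_pos g)
    have hzi : (g : G) ^ i' = z := by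
      have h : g ^ i' = (⟨z, hz⟩ : K) := by rw [hi', pow_mod_orderOf]; exact hi
      exact congrArg Subtype.val h
    have hdvd : orderOf g ∣ 2 * i' := by
      rw [← Subgroup.orderOf_coe]
      exact orderOf_dvd_of_pow_eq_one (by rw [mul_comm, pow_mul, hzi, ← hz2, pow_orderOf_eq_one])
    have hpos : i' ≠ 0 := by
      rintro rfl
      rw [← hzi, pow_zero, orderOf_one] at hz2
      omega
    obtain ⟨c, hc⟩ := hdvd
    have hc1 : c = 1 := by
      rcases c with _ | _ | c
      · simp at hc; omega
      · rfl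
      · have : 2 * orderOf g ≤ orderOf g * (c + 1 + 1) := by nlinarith
        omega
    rw [← hzi]
    congr 1
    rw [hc1, mul_one] at hc
    omega
  exact (key x hx hx2).trans (key y hy hy2).symm

/-- The main induction. -/
theorem index_oddCore_of_central_involution.{u} :
    ∀ (n : ℕ) (C : Type u) [Group C] [Finite C], Nat.card C = n → ∀ (T K : Subgroup C) (t : C),
      IsPGroup 2 T → Odd T.index → K ≤ T → K.relIndex T = 2 → IsCyclic K → t ∈ K → orderOf t = 2 →
      (∀ c : C, c * t = t * c) → (∀ x ∈ T, x ∉ K → x * x = 1) →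
      ∃ l, (Cfsg.pPrimeCore 2 C).index = 2 ^ l := by
  intro n
  induction n using Nat.strong_induction_on with
  | _ n ih =>
    intro C _ _ hn T K t hT hTi hKT hKi hK htK ht hcent hsq
    haveI := Fact.mk Nat.prime_two
    obtain ⟨s, hsT, hsK⟩ : ∃ s ∈ T, s ∉ K := by
      by_contra! h
      rw [Subgroup.relIndex_eq_one.2 h] at hKi
      omega
    have hs2 : orderOf s = 2 :=
      orderOf_eq_prime (by rw [sq]; exact hsq s hsT hsK) (fun h => hsK (h ▸ one_mem K))
    have hno : ∀ g : C, g * s * g⁻¹ ∉ K := by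
      intro g hg
      have ho : orderOf (g * s * g⁻¹) = 2 := by
        rw [← MulAut.conj_apply, MulEquiv.orderOf_eq, hs2]
      have heq := involution_eq_of_cyclic hK hg htK ho ht
      have : s = t := by
        rw [mul_inv_eq_iff_eq_mul] at heq
        exact mul_left_cancel (heq.trans (hcent g).symm)
      exact hsK (this ▸ htK)
    obtain ⟨M, hMn, hMi, hsM⟩ := CfsgLib.ThompsonTransfer.exists_normal_index_two T K hTi hKi s
      (by rw [sq]; exact hsq s hsT hsK) hno
    haveI := hMn
    have hMT : M.relIndex T = 2 := by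
      have h := Subgroup.relIndex_dvd_index_of_normal M T
      rw [hMi] at h
      rcases (Nat.dvd_prime Nat.prime_two).1 h with h | h
      · exact absurd (Subgroup.relIndex_eq_one.1 h hsT) hsM
      · exact h
    have hTM : (T ⊓ M).relIndex M = T.index := by
      have h1 := Subgroup.relIndex_mul_index (inf_le_right : T ⊓ M ≤ M)
      have h2 := Subgroup.relIndex_mul_index (inf_le_left : T ⊓ M ≤ T)
      rw [Subgroup.inf_relIndex_left, hMT] at h2
      rw [← h2, hMi, mul_comm] at h1
      exact Nat.eq_of_mul_eq_mul_left two_pos h1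
    have hT' : IsPGroup 2 ((T ⊓ M).subgroupOf M) := (hT.to_le inf_le_left).comap_subtype
    have hTi' : Odd ((T ⊓ M).subgroupOf M).index := by
      show Odd ((T ⊓ M).relIndex M)
      rw [hTM]; exact hTi
    -- it is enough to treat M
    suffices h : ∃ l, (Cfsg.pPrimeCore 2 M).index = 2 ^ l by
      obtain ⟨l, hl⟩ := h
      haveI := CfsgLib.Solvable.pPrimeCore_characteristic 2 M
      refine index_oddCore_of_complement ((Cfsg.pPrimeCore 2 M).map M.subtype) ?_ (l + 1) ?_
      · rw [Subgroup.card_map_of_injective M.subtype_injective]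
        exact Nat.coprime_two_right.1 (CfsgLib.Solvable.pPrimeCore_card_coprime 2 M)
      · rw [Subgroup.index_map_subtype, hl, hMi, pow_succ]
    by_cases hKM : K ≤ M
    · -- then T ⊓ M = K is cyclic
      have heq : T ⊓ M = K := by
        refine (le_antisymm (le_inf hKT hKM) ?_).symm
        rw [← Subgroup.relIndex_eq_one]
        have h3 := Subgroup.relIndex_mul_relIndex K (T ⊓ M) T (le_inf hKT hKM) inf_le_left
        rw [Subgroup.inf_relIndex_left, hMT, hKi] at h3
        omega
      refine index_oddCore_of_cyclic _ hT' hTi' ?_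
      rw [heq]
      exact (Subgroup.subgroupOfEquivOfLe hKM).isCyclic.2 hK
    have hKM' : M.relIndex K = 2 := by
      have h := Subgroup.relIndex_dvd_index_of_normal M K
      rw [hMi] at h
      rcases (Nat.dvd_prime Nat.prime_two).1 h with h | h
      · exact absurd (Subgroup.relIndex_eq_one.1 h) hKM
      · exact h
    have hKM2 : (K ⊓ M).relIndex (T ⊓ M) = 2 := by
      have h3 := Subgroup.relIndex_mul_relIndex (K ⊓ M) (T ⊓ M) T
        (inf_le_inf_right M hKT) inf_le_left
      have h4 := Subgroup.relIndex_mul_relIndex (K ⊓ M) K T inf_le_left hKT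
      rw [Subgroup.inf_relIndex_left, hMT] at h3
      rw [Subgroup.inf_relIndex_left, hKM', hKi] at h4
      omega
    by_cases htM : t ∈ M
    · obtain ⟨hKeq⟩ : Nonempty (((K ⊓ M).subgroupOf M) ≃* (K ⊓ M : Subgroup C)) :=
        ⟨Subgroup.subgroupOfEquivOfLe inf_le_right⟩
      have hKc : IsCyclic ((K ⊓ M).subgroupOf M) :=
        hKeq.isCyclic.2 (haveI := hK; isCyclic_of_injective (Subgroup.inclusion inf_le_left)
          (Subgroup.inclusion_injective (inf_le_left : K ⊓ M ≤ K)))
      refine ih (Nat.card M) ?_ M rfl ((T ⊓ M).subgroupOf M) ((K ⊓ M).subgroupOf M) ⟨t, htM⟩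
        hT' hTi' ?_ ?_ hKc ⟨htK, htM⟩ ?_ (fun c => Subtype.ext (hcent c.1)) ?_
      · rw [← hn, ← Subgroup.card_mul_index M, hMi]
        have := Nat.card_pos (α := M)
        omega
      · exact Subgroup.comap_mono (inf_le_inf_right M hKT)
      · rw [Subgroup.relIndex_subgroupOf inf_le_right, hKM2]
      · rw [← Subgroup.orderOf_coe]; exact ht
      · intro x hx hx'
        exact Subtype.ext (hsq x.1 hx.1 (fun h => hx' ⟨h, x.2⟩))
    · -- K has order two
      refine index_oddCore_of_cyclic _ hT' hTi' ?_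
      have hKcard : Nat.card K = 2 := by
        obtain ⟨g, hg⟩ := hK.exists_ofOrder_eq_natCard
        have hgen : ∀ x : K, x ∈ Submonoid.powers g := fun x =>
          mem_powers_iff_mem_zpowers.2 (Subgroup.eq_top_of_card_eq (Subgroup.zpowers g) (by rw [Nat.card_zpowers, hg])
            ▸ Subgroup.mem_top x)
        obtain ⟨j, hj⟩ := hgen ⟨t, htK⟩
        have hj' : (g : C) ^ j = t := congrArg Subtype.val hj
        have hjodd : Odd j := by
          rw [← Nat.not_even_iff_odd]
          rintro ⟨i, rfl⟩
          apply htM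
          rw [← hj', ← two_mul, pow_mul]
          exact pow_mem (Subgroup.sq_mem_of_index_two hMi _) _
        have hgo : orderOf (g : C) ∣ 2 * j := orderOf_dvd_of_pow_eq_one (by
          rw [mul_comm, pow_mul, hj', ← ht, pow_orderOf_eq_one])
        obtain ⟨a, ha⟩ := IsPGroup.iff_card.1 (hT.to_le hKT)
        rw [Subgroup.orderOf_coe, hg, ha] at hgo
        have hdvd : 2 ^ a ∣ 2 :=
          ((Nat.coprime_two_left.2 hjodd).pow_left a).dvd_of_dvd_mul_right hgo
        rw [← ha] at hdvd
        rcases (Nat.dvd_prime Nat.prime_two).1 hdvd with h | h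
        · exfalso
          have h1 : (⟨t, htK⟩ : K) = 1 := (Nat.card_eq_one_iff_unique.1 h).1.elim _ _
          rw [show t = 1 from congrArg Subtype.val h1, orderOf_one] at ht
          omega
        · exact h
      have hcard : Nat.card (T ⊓ M : Subgroup C) = 2 := by
        have h1 := Subgroup.relIndex_mul_relIndex ⊥ K T bot_le hKT
        have h2 := Subgroup.relIndex_mul_relIndex ⊥ (T ⊓ M) T bot_le inf_le_left
        simp only [Subgroup.relIndex_bot_left] at h1 h2
        rw [Subgroup.inf_relIndex_left, hMT] at h2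
        rw [hKi, hKcard] at h1
        omega
      exact (Subgroup.subgroupOfEquivOfLe inf_le_right).isCyclic.2 (isCyclic_of_prime_card hcard)

end CfsgLib.Case
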