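import Cfsg.Agent.Lib.Case.SL2FpfLift
import Cfsg.Agent.Lib.Solvable.FpfThreeClass
import Cfsg.Prelude.Def_BaumannBlocks
import Mathlib.GroupTheory.QuotientGroup.Basic
import Mathlib.GroupTheory.Commutator.Basic
import Mathlib.GroupTheory.PGroup

/-!
A normal 2-subgroup `Q` of `G` with `G/Q ≅ SL₂(2ⁿ)` on which an element of order three acts without
fixed points is elementary abelian and a sum of natural modules (Higman).
-/

set_option autoImplicit false
set_option linter.unusedSectionVars false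

namespace CfsgLib.Case.SL2Fpf

open Matrix CfsgLib.LocalEven.SL2Natural
open scoped commutatorElement

variable {F : Type*} [Field F] [Fintype F] [CharP F 2]

/-- The natural action on a sum of natural modules. -/
def IsNaturalIso {G : Type*} [Group G] (φ : G →* SpecialLinearGroup (Fin 2) F) (N : Subgroup G)
    [N.Normal] (k : ℕ) (ψ : Additive ↥N ≃ (Fin k → Fin 2 → F)) : Prop :=
  (∀ a b, ψ (a + b) = ψ a + ψ b) ∧ ∀ g n i, ψ (Additive.ofMul (MulAut.conjNormal g n)) i =
    (φ g : Matrix (Fin 2) (Fin 2) F) *ᵥ ψ (Additive.ofMul n) i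

section Matrices

theorem exists_conj_companion (g : SpecialLinearGroup (Fin 2) F)
    (hg : (g : Matrix (Fin 2) (Fin 2) F).trace = 1) :
    ∃ P : SpecialLinearGroup (Fin 2) F,
      (g : Matrix (Fin 2) (Fin 2) F) * (P : Matrix (Fin 2) (Fin 2) F) =
        (P : Matrix (Fin 2) (Fin 2) F) * !![0, 1; 1, 1] := by
  obtain ⟨a, b, c, d, hM⟩ : ∃ a b c d, (g : Matrix (Fin 2) (Fin 2) F) = !![a, b; c, d] :=
    ⟨_, _, _, _, eta_fin_two _⟩
  have hdet : a * d - b * c = 1 := by
    have := g.det_coe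
    rwa [hM, det_fin_two_of] at this
  rw [hM, trace_fin_two_of] at hg
  have h2 : (2 : F) = 0 := CharTwo.two_eq_zero
  obtain ⟨v₀, v₁, hv⟩ : ∃ v₀ v₁, v₀ * (c * v₀ + d * v₁) - v₁ * (a * v₀ + b * v₁) ≠ 0 := by
    by_cases hc : c = 0
    · by_cases hb : b = 0
      · refine ⟨1, 1, ?_⟩
        rw [hb, hc]
        intro h
        apply one_ne_zero (α := F)
        linear_combination h - hg + d * 0 + a * h2
      · exact ⟨0, 1, by simpa using hb⟩
    · exact ⟨1, 0, by simpa using hc⟩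
  set δ := v₀ * (c * v₀ + d * v₁) - v₁ * (a * v₀ + b * v₁) with hδ
  have hr : ((frobeniusEquiv F 2).symm δ) ^ 2 = δ := frobeniusEquiv_symm_pow_p F 2 δ
  set r := (frobeniusEquiv F 2).symm δ
  have hr0 : r ≠ 0 := fun h => hv (by rw [← hr, h, zero_pow two_ne_zero])
  refine ⟨⟨!![v₀ / r, (a * v₀ + b * v₁) / r; v₁ / r, (c * v₀ + d * v₁) / r], ?_⟩, ?_⟩
  · rw [det_fin_two_of]
    field_simp
    rw [hr, hδ]
    ring
  show (g : Matrix (Fin 2) (Fin 2) F) * !![v₀ / r, (a * v₀ + b * v₁) / r;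
    v₁ / r, (c * v₀ + d * v₁) / r] = !![v₀ / r, (a * v₀ + b * v₁) / r;
    v₁ / r, (c * v₀ + d * v₁) / r] * !![0, 1; 1, 1]
  rw [hM, mul_fin_two, mul_fin_two]
  ext i j
  fin_cases i <;> fin_cases j <;> simp only [Matrix.cons_val_zero, Matrix.cons_val_one,
    Matrix.of_apply, Matrix.cons_val', Matrix.empty_val', Matrix.cons_val_fin_one, Fin.zero_eta,
    Fin.mk_one] <;> field_simp
  · ring
  · linear_combination (a * v₀ + b * v₁) * hg - v₀ * hdet - v₀ * h2
  · ring
  · linear_combination (c * v₀ + d * v₁) * hg - v₁ * hdet - v₁ * h2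

theorem exists_conj_of_trace_one (g h : SpecialLinearGroup (Fin 2) F)
    (hg : (g : Matrix (Fin 2) (Fin 2) F).trace = 1) (hh : (h : Matrix (Fin 2) (Fin 2) F).trace = 1) :
    ∃ c, c * g * c⁻¹ = h := by
  obtain ⟨P, hP⟩ := exists_conj_companion g hg
  obtain ⟨R, hR⟩ := exists_conj_companion h hh
  let K : SpecialLinearGroup (Fin 2) F :=
    ⟨!![0, 1; 1, 1], by rw [det_fin_two_of, zero_mul, one_mul, zero_sub, CharTwo.neg_eq]⟩
  have e1 : g * P = P * K := Subtype.ext hP
  have e2 : h * R = R * K := Subtype.ext hR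
  refine ⟨R * P⁻¹, ?_⟩
  rw [_root_.mul_inv_rev, inv_inv, show R * P⁻¹ * g * (P * R⁻¹) = R * P⁻¹ * (g * P) * R⁻¹ by group,
    e1, show R * P⁻¹ * (P * K) * R⁻¹ = R * K * R⁻¹ by group, ← e2]
  group

theorem trace_eq_one_of_cube (g : SpecialLinearGroup (Fin 2) F) (h1 : g ≠ 1) (h3 : g ^ 3 = 1) :
    (g : Matrix (Fin 2) (Fin 2) F).trace = 1 := by
  obtain ⟨a, b, c, d, hM⟩ : ∃ a b c d, (g : Matrix (Fin 2) (Fin 2) F) = !![a, b; c, d] :=
    ⟨_, _, _, _, eta_fin_two _⟩
  have hdet : a * d - b * c = 1 := by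
    have := g.det_coe
    rwa [hM, det_fin_two_of] at this
  have h2 : (2 : F) = 0 := CharTwo.two_eq_zero
  have hcube : !![a, b; c, d] * !![a, b; c, d] * !![a, b; c, d] = 1 := by
    rw [← hM]
    have h := congrArg Subtype.val h3
    rw [pow_succ, pow_succ, pow_one] at h
    exact h
  rw [mul_fin_two, mul_fin_two, one_fin_two] at hcube
  have e00 := congrFun (congrFun hcube 0) 0
  have e01 := congrFun (congrFun hcube 0) 1
  have e10 := congrFun (congrFun hcube 1) 0
  have e11 := congrFun (congrFun hcube 1) 1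
  simp only [Matrix.cons_val_zero, Matrix.cons_val_one, Matrix.of_apply, Matrix.cons_val',
    Matrix.empty_val', Matrix.cons_val_fin_one] at e00 e01 e10 e11
  rw [hM, trace_fin_two_of]
  by_contra ht
  set t := a + d with htdef
  have hne : t + 1 ≠ 0 := fun h => ht (CharTwo.add_eq_zero.1 h)
  have f00 : (t + 1) * ((t + 1) * a + 1) = 0 := by
    linear_combination e00 + (2 * a + d) * hdet + (t * a + 2 * a + d + 1) * h2
  have f11 : (t + 1) * ((t + 1) * d + 1) = 0 := by
    linear_combination e11 + (a + 2 * d) * hdet + (t * d + 2 * d + a + 1) * h2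
  have f01 : (t + 1) * ((t + 1) * b) = 0 := by
    linear_combination e01 + b * hdet + (b * t + b) * h2
  have f10 : (t + 1) * ((t + 1) * c) = 0 := by
    linear_combination e10 + c * hdet + (c * t + c) * h2
  have hb : b = 0 := by simpa [hne] using f01
  have hc : c = 0 := by simpa [hne] using f10
  have ha := (mul_eq_zero.1 f00).resolve_left hne
  have hd := (mul_eq_zero.1 f11).resolve_left hne
  have had : a = d := mul_left_cancel₀ hne (by linear_combination ha - hd)
  subst had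
  rw [hb, zero_mul, sub_zero] at hdet
  have ha1 : a = 1 := by
    have : (a + 1) * (a + 1) = 0 := by linear_combination hdet + (a + 1) * h2
    exact CharTwo.add_eq_zero.1 (mul_self_eq_zero.1 this)
  apply h1
  apply Subtype.ext
  rw [hM, ha1, hb, hc]
  exact (one_fin_two).symm

end Matrices

section Module

variable {A : Type*} [AddCommGroup A]

theorem exp_two_of_two_power [Finite A] (h4F : 4 ≤ Fintype.card F)
    (ρ : SpecialLinearGroup (Fin 2) F →* AddMonoid.End A)
    (h3 : ∀ g : SpecialLinearGroup (Fin 2) F, (g : Matrix (Fin 2) (Fin 2) F).trace = 1 →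
      ∀ v, v + ρ g v + ρ g (ρ g v) = 0)
    (h2 : ∀ v : A, ∃ j : ℕ, 2 ^ j • v = 0) : ∀ v : A, v + v = 0 := by
  let N : AddSubgroup A :=
    { carrier := {v | v + v + (v + v) = 0}
      add_mem' := fun {a b} (ha : a + a + (a + a) = 0) (hb : b + b + (b + b) = 0) => by
        show a + b + (a + b) + (a + b + (a + b)) = 0
        rw [show a + b + (a + b) + (a + b + (a + b)) =
          (a + a + (a + a)) + (b + b + (b + b)) by abel, ha, hb, add_zero]
      zero_mem' := by simp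
      neg_mem' := fun {a} (ha : a + a + (a + a) = 0) => by
        show -a + -a + (-a + -a) = 0
        rw [← neg_add, ← neg_add, ha, neg_zero] }
  let ρN : SpecialLinearGroup (Fin 2) F →* AddMonoid.End N :=
    { toFun := fun g =>
        AddMonoidHom.mk' (fun v => ⟨ρ g v, show ρ g v + ρ g v + (ρ g v + ρ g v) = 0 by
          rw [← map_add, ← map_add, v.2, map_zero]⟩)
          fun a b => Subtype.ext (map_add (ρ g) _ _)
      map_one' := AddMonoidHom.ext fun v => Subtype.ext (map_one_apply ρ _)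
      map_mul' := fun g g' => AddMonoidHom.ext fun v => Subtype.ext (map_mul_apply ρ g g' _) }
  have key := exp_two_of_exp_four h4F ρN (fun g hg v => Subtype.ext (h3 g hg v))
    (fun v => Subtype.ext v.2)
  intro v
  obtain ⟨j, hj⟩ := h2 v
  induction j generalizing v with
  | zero =>
    rw [pow_zero, one_nsmul] at hj
    rw [hj, add_zero]
  | succ j ih =>
    rw [pow_succ, mul_nsmul', two_nsmul, nsmul_add] at hj
    have h4 : v + v + (v + v) = 0 := ih (v + v) (by rw [nsmul_add]; exact hj)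
    exact congrArg Subtype.val (key ⟨v, h4⟩)

end Module

section Group

variable {G : Type*} [Group G] [Finite G] (φ : G →* SpecialLinearGroup (Fin 2) F)
  (hφ : Function.Surjective φ) (x : G) (hx3 : x ^ 3 = 1)
  (hxt : ((φ x : SpecialLinearGroup (Fin 2) F) : Matrix (Fin 2) (Fin 2) F).trace = 1)

include hφ hxt in
theorem exists_lift (s : SpecialLinearGroup (Fin 2) F)
    (hs : (s : Matrix (Fin 2) (Fin 2) F).trace = 1) : ∃ c : G, φ (c * x * c⁻¹) = s := by
  obtain ⟨c', hc'⟩ := exists_conj_of_trace_one (φ x) s hxt hs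
  obtain ⟨c, rfl⟩ := hφ c'
  exact ⟨c, by rw [map_mul, map_mul, map_inv, hc']⟩

include hφ hx3 hxt in
/-- The abelian case. -/
theorem abelian_case (h4F : 4 ≤ Fintype.card F) (N : Subgroup G) [N.Normal]
    (hcomm : ∀ a ∈ N, ∀ b ∈ N, a * b = b * a) (hN : IsPGroup 2 ↥N)
    (hker : ∀ g, φ g = 1 → ∀ n ∈ N, g * n * g⁻¹ = n)
    (hfpf : ∀ n ∈ N, x * n * x⁻¹ = n → n = 1) :
    (∀ n ∈ N, n ^ 2 = 1) ∧ ∃ k ψ, IsNaturalIso φ N k ψ := by
  letI : CommGroup ↥N :=
    { (inferInstance : Group ↥N) with mul_comm := fun a b => Subtype.ext (hcomm a a.2 b b.2) }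
  let σ : G →* MulAut ↥N := MulAut.conjNormal
  have hσ : φ.ker ≤ σ.ker := fun g hg => MulEquiv.ext fun n => Subtype.ext (hker g hg n n.2)
  let τ := φ.liftOfSurjective hφ ⟨σ, hσ⟩
  have hτ : ∀ g, τ (φ g) = σ g := fun g =>
    MonoidHom.liftOfRightInverse_comp_apply φ _ _ ⟨σ, hσ⟩ g
  let ρ : SpecialLinearGroup (Fin 2) F →* AddMonoid.End (Additive ↥N) :=
    { toFun := fun s => MonoidHom.toAdditive (τ s).toMonoidHom
      map_one' := AddMonoidHom.ext fun n => by
        show Additive.ofMul (τ 1 n.toMul) = n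
        rw [map_one]; rfl
      map_mul' := fun s s' => AddMonoidHom.ext fun n => by
        show Additive.ofMul (τ (s * s') n.toMul) = Additive.ofMul (τ s (τ s' n.toMul))
        rw [map_mul]; rfl }
  have h3 : ∀ s : SpecialLinearGroup (Fin 2) F, (s : Matrix (Fin 2) (Fin 2) F).trace = 1 →
      ∀ v, v + ρ s v + ρ s (ρ s v) = 0 := by
    intro s hs v
    obtain ⟨c, rfl⟩ := exists_lift φ hφ x hxt s hs
    set y := c * x * c⁻¹ with hy
    set n := v.toMul
    have hy3 : y ^ 3 = 1 := by rw [hy, conj_pow, hx3, mul_one, mul_inv_cancel]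
    set w : ↥N := n * σ y n * σ y (σ y n)
    have hw : σ y w = w := by
      have h := congrArg (fun f : MulAut ↥N => f n) (map_pow σ y 3)
      rw [hy3, map_one] at h
      have h' : σ y (σ y (σ y n)) = n := by
        simp only [pow_succ, pow_zero, one_mul, MulAut.one_apply, MulAut.mul_apply] at h
        exact h.symm
      simp only [w, map_mul, h']
      rw [mul_comm _ n, mul_assoc]
    have hw1 : (w : G) = 1 := by
      have h1 : y * (w : G) * y⁻¹ = w := congrArg Subtype.val hw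
      have h2 := hfpf (c⁻¹ * (w : G) * c) (by
        simpa using (inferInstance : N.Normal).conj_mem _ w.2 c⁻¹) (by
        calc x * (c⁻¹ * (w : G) * c) * x⁻¹
            = c⁻¹ * (y * (w : G) * y⁻¹) * c := by rw [hy]; group
          _ = c⁻¹ * (w : G) * c := by rw [h1])
      rw [mul_eq_one_iff_eq_inv, inv_mul_eq_iff_eq_mul, mul_inv_cancel] at h2
      exact h2
    show Additive.ofMul (n * τ (φ y) n * τ (φ y) (τ (φ y) n)) = 0
    rw [hτ]
    exact congrArg Additive.ofMul (Subtype.ext hw1 : w = 1)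
  have hexp := exp_two_of_two_power h4F ρ h3 fun v => by
    obtain ⟨j, hj⟩ := hN v.toMul
    exact ⟨j, hj⟩
  refine ⟨fun n hn => ?_, ?_⟩
  · have := congrArg (fun v : Additive ↥N => ((v.toMul : ↥N) : G)) (hexp (Additive.ofMul ⟨n, hn⟩))
    rw [pow_two]
    exact this
  · obtain ⟨k, ψ, hψ⟩ := exists_natural ρ hexp h3
    refine ⟨k, ψ.toEquiv, map_add ψ, fun g n i => ?_⟩
    show ψ (Additive.ofMul (σ g n)) i = _
    rw [← hτ]
    exact hψ (φ g) (Additive.ofMul n) i

end Group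

section Main

variable {G : Type*} [Group G] [Finite G]

/-- **Higman**: `Q` is elementary abelian and a sum of natural modules. -/
theorem higman (φ : G →* SpecialLinearGroup (Fin 2) F) (hφ : Function.Surjective φ)
    (h4F : 4 ≤ Fintype.card F) (Q : Subgroup G) [Q.Normal] (hker : φ.ker = Q) (hQ : IsPGroup 2 ↥Q)
    (x : G) (hx : orderOf x = 3) (hfpf : ∀ q ∈ Q, x * q * x⁻¹ = q → q = 1) :
    (∀ a ∈ Q, ∀ b ∈ Q, a * b = b * a) ∧ (∀ q ∈ Q, q ^ 2 = 1) ∧
      ∃ k ψ, IsNaturalIso φ Q k ψ := by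
  have hx3 : x ^ 3 = 1 := hx ▸ pow_orderOf_eq_one x
  have hxQ : x ∉ Q := fun hmem => by
    have h1 := hfpf x hmem (by simp)
    rw [h1, orderOf_one] at hx
    exact absurd hx (by norm_num)
  have hxt : ((φ x : SpecialLinearGroup (Fin 2) F) : Matrix (Fin 2) (Fin 2) F).trace = 1 :=
    trace_eq_one_of_cube _ (fun h => hxQ (hker ▸ h)) (by rw [← map_pow, hx3, map_one])
  suffices hab : ∀ a ∈ Q, ∀ b ∈ Q, a * b = b * a by
    refine ⟨hab, abelian_case φ hφ x hx3 hxt h4F Q hab hQ (fun g hg q hq => ?_) hfpf⟩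
    rw [hab g (hker ▸ hg) q hq, mul_inv_cancel_right]
  -- class two
  have hfp : ∀ y : G, (∃ c, y = c * x * c⁻¹) → ∀ q ∈ Q, y * q * y⁻¹ = q → q = 1 := by
    rintro y ⟨c, rfl⟩ q hq hfix
    have h := hfpf (c⁻¹ * q * c) (by simpa using (inferInstance : Q.Normal).conj_mem q hq c⁻¹) (by
      calc x * (c⁻¹ * q * c) * x⁻¹ = c⁻¹ * ((c * x * c⁻¹) * q * (c * x * c⁻¹)⁻¹) * c := by group
        _ = c⁻¹ * q * c := by rw [hfix])
    rwa [mul_eq_one_iff_eq_inv, inv_mul_eq_iff_eq_mul, mul_inv_cancel] at h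
  have hcube : ∀ y : G, (∃ c, y = c * x * c⁻¹) → ∀ q : ↥Q,
      (MulAut.conjNormal y : MulAut ↥Q) ((MulAut.conjNormal y : MulAut ↥Q)
        ((MulAut.conjNormal y : MulAut ↥Q) q)) = q := by
    rintro y ⟨c, rfl⟩ q
    rw [← MulAut.mul_apply, ← MulAut.mul_apply, ← map_mul, ← map_mul,
      show c * x * c⁻¹ * (c * x * c⁻¹) * (c * x * c⁻¹) = c * x ^ 3 * c⁻¹ by
        rw [pow_succ, pow_succ, pow_one]; group, hx3, mul_one,
      mul_inv_cancel, map_one, MulAut.one_apply]
  have hfpρ : ∀ y : G, (∃ c, y = c * x * c⁻¹) → ∀ q : ↥Q,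
      (MulAut.conjNormal y : MulAut ↥Q) q = q → q = 1 := fun y hy q h =>
    Subtype.ext (hfp y hy q q.2 (congrArg Subtype.val h))
  have h3T : ∀ q : ↥Q, q ^ 3 = 1 → q = 1 := by
    intro q h
    obtain ⟨j, hj⟩ := hQ q
    have hd := Nat.dvd_gcd (orderOf_dvd_of_pow_eq_one h) (orderOf_dvd_of_pow_eq_one hj)
    rw [Nat.Coprime.gcd_eq_one (Nat.Coprime.pow_right j (by norm_num))] at hd
    exact orderOf_eq_one_iff.1 (Nat.dvd_one.1 hd)
  have hcl2 : ∀ a b c : ↥Q, Commute ⁅a, b⁆ c :=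
    CfsgLib.Solvable.FpfThree.class_two (hcube x ⟨1, by simp⟩) (hfpρ x ⟨1, by simp⟩) h3T
  -- an element commutes with its image
  have hself : ∀ y : G, (∃ c, y = c * x * c⁻¹) → ∀ q : ↥Q,
      Commute q ((MulAut.conjNormal y : MulAut ↥Q) q) := by
    intro y hy q
    set r : MulAut ↥Q := MulAut.conjNormal y
    have hs2 : ∀ z, r (r z) = z → z = 1 := fun z hz => by
      have := congrArg r hz
      rw [hcube y hy] at this
      exact hfpρ y hy z this.symm
    have hprod : ∀ u : ↥Q, u * r u * r (r u) = 1 := fun u => by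
      obtain ⟨w, rfl⟩ := (MonoidHom.FixedPointFree.commutatorMap_surjective (φ := r)
        (fun g hg => hfpρ y hy g hg)) u
      simp [r, MonoidHom.commutatorMap_apply, div_eq_mul_inv, mul_assoc, hcube y hy]
    have hprod2 : ∀ u : ↥Q, u * r (r u) * r u = 1 := fun u => by
      obtain ⟨w, rfl⟩ := (MonoidHom.FixedPointFree.commutatorMap_surjective (φ := r.trans r)
        (fun g hg => hs2 g hg)) u
      simp [r, MonoidHom.commutatorMap_apply, div_eq_mul_inv, mul_assoc, hcube y hy]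
    have h1 := hprod (r (r q))
    have h2 := hprod2 (r (r q))
    have hr3 : ∀ u, r (r (r u)) = u := hcube y hy
    simp only [hr3] at h1 h2
    exact mul_left_cancel (by rw [← mul_assoc, ← mul_assoc, h1, h2] :
      r (r q) * (q * r q) = r (r q) * (r q * q))
  set Q' : Subgroup G := ⁅Q, Q⁆ with hQ'
  haveI : Q'.Normal := Subgroup.commutator_normal Q Q
  have hQ'Q : Q' ≤ Q := Subgroup.commutator_le_left Q Q
  have hcen : ∀ m ∈ Q', ∀ q ∈ Q, m * q = q * m := by
    intro m hm q hq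
    have hle : Q' ≤ Subgroup.centralizer {q} := by
      rw [hQ', Subgroup.commutator_le]
      intro a ha b hb
      rw [Subgroup.mem_centralizer_singleton_iff]
      exact congrArg Subtype.val (hcl2 ⟨a, ha⟩ ⟨b, hb⟩ ⟨q, hq⟩).eq
    exact Subgroup.mem_centralizer_singleton_iff.1 (hle hm)
  obtain ⟨-, k', ψ', hψ'add, hψ'⟩ := abelian_case φ hφ x hx3 hxt h4F Q'
    (fun a ha b hb => hcen a ha b (hQ'Q hb)) (hQ.to_le hQ'Q)
    (fun g hg n hn => by rw [← hcen n hn g (hker ▸ hg), mul_inv_cancel_right])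
    (fun n hn => hfpf n (hQ'Q hn))
  -- the quotient
  set mk := QuotientGroup.mk' Q' with hmk
  have hmks : Function.Surjective mk := QuotientGroup.mk'_surjective Q'
  haveI : (Q.map mk).Normal := Subgroup.Normal.map inferInstance mk hmks
  let φ₂ : G ⧸ Q' →* SpecialLinearGroup (Fin 2) F :=
    QuotientGroup.lift Q' φ (hker ▸ hQ'Q)
  have hcomm2 : ∀ a ∈ Q.map mk, ∀ b ∈ Q.map mk, a * b = b * a := by
    rintro _ ⟨a, ha, rfl⟩ _ ⟨b, hb, rfl⟩
    rw [← commutatorElement_eq_one_iff_mul_comm, ← map_commutatorElement]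
    exact (QuotientGroup.eq_one_iff _).2 (Subgroup.commutator_mem_commutator ha hb)
  obtain ⟨-, k, ψ, hψadd, hψ⟩ := abelian_case φ₂ (fun s => ⟨mk (hφ s).choose, (hφ s).choose_spec⟩)
    (mk x) (by rw [← map_pow, hx3, map_one]) hxt h4F (Q.map mk) hcomm2 (hQ.map mk) (by
      intro g hg n hn
      obtain ⟨g, rfl⟩ := hmks g
      rw [hcomm2 _ (Subgroup.mem_map_of_mem mk (hker ▸ hg : g ∈ Q)) n hn, mul_inv_cancel_right])
    (by
      rintro _ ⟨q, hq, rfl⟩ hfix
      rw [← map_inv, ← map_mul, ← map_mul, hmk, QuotientGroup.mk'_apply, QuotientGroup.mk'_apply,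
        QuotientGroup.eq] at hfix
      set ρ' : MulAut ↥Q' := MulAut.conjNormal x
      obtain ⟨m, hm⟩ := (MonoidHom.FixedPointFree.commutatorMap_surjective (φ := ρ')
        (fun g hg => Subtype.ext (hfpf g (hQ'Q g.2) (congrArg Subtype.val hg))))
        ⟨_, Q'.inv_mem hfix⟩
      have hm' : (m : G) * (x * m * x⁻¹)⁻¹ = ((x * q * x⁻¹)⁻¹ * q)⁻¹ := by
        have := congrArg Subtype.val hm
        simpa [ρ', MonoidHom.commutatorMap_apply, div_eq_mul_inv] using this
      have hm'' : q⁻¹ * (x * q * x⁻¹) = (m : G) * (x * m * x⁻¹)⁻¹ := by rw [hm']; group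
      have h2 := hfpf (q * m) (Q.mul_mem hq (hQ'Q m.2)) (by
        calc x * (q * m) * x⁻¹ = q * (q⁻¹ * (x * q * x⁻¹)) * (x * m * x⁻¹) := by group
          _ = q * m := by rw [hm'']; group)
      refine (QuotientGroup.eq_one_iff q).2 ?_
      rw [mul_eq_one_iff_eq_inv] at h2
      exact h2 ▸ Q'.inv_mem m.2)
  -- the commutator pairing
  have hcongr : ∀ a b a' b', a ∈ Q → b ∈ Q → a' ∈ Q → b' ∈ Q → mk a = mk a' → mk b = mk b' →
      ⁅a, b⁆ = ⁅a', b'⁆ := by
    intro a b a' b' ha hb ha' hb' e1 e2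
    have m1 := hcen _ (QuotientGroup.eq.1 e1)
    have m2 := hcen _ (QuotientGroup.eq.1 e2)
    have key : ∀ u v m : G, v ∈ Q → (∀ q ∈ Q, m * q = q * m) → ⁅u * m, v⁆ = ⁅u, v⁆ ∧
        ⁅v, u * m⁆ = ⁅v, u⁆ := by
      intro u v m hv hm
      refine ⟨?_, ?_⟩
      · calc ⁅u * m, v⁆ = u * (m * v * m⁻¹) * u⁻¹ * v⁻¹ := by
              rw [commutatorElement_def]; group
          _ = ⁅u, v⁆ := by
              rw [hm v hv, mul_inv_cancel_right, commutatorElement_def]
      · calc ⁅v, u * m⁆ = v * u * (m * v⁻¹ * m⁻¹) * u⁻¹ := by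
              rw [commutatorElement_def]; group
          _ = ⁅v, u⁆ := by
              rw [hm v⁻¹ (Q.inv_mem hv), mul_inv_cancel_right, commutatorElement_def]
    have ea : a' = a * (a⁻¹ * a') := by group
    have eb : b' = b * (b⁻¹ * b') := by group
    rw [ea, eb, (key a _ _ (eb ▸ hb') m1).1, (key b a _ ha m2).2]
  have hlift : ∀ z : Fin k → Fin 2 → F, ∃ q, ∃ hq : q ∈ Q,
      ψ (Additive.ofMul ⟨mk q, Subgroup.mem_map_of_mem mk hq⟩) = z := by
    intro z
    obtain ⟨q, hq, he⟩ := (ψ.symm z).toMul.2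
    refine ⟨q, hq, ?_⟩
    rw [show (⟨mk q, Subgroup.mem_map_of_mem mk hq⟩ : ↥(Q.map mk)) = (ψ.symm z).toMul from
      Subtype.ext he]
    exact ψ.apply_symm_apply z
  choose L hL hLz using hlift
  have hLeq : ∀ z q (hq : q ∈ Q), ψ (Additive.ofMul ⟨mk q, Subgroup.mem_map_of_mem mk hq⟩) = z →
      mk (L z) = mk q := by
    intro z q hq h
    exact congrArg (fun v : Additive ↥(Q.map mk) => ((v.toMul : ↥(Q.map mk)) : G ⧸ Q'))
      (ψ.injective ((hLz z).trans h.symm))
  let c0 : (Fin k → Fin 2 → F) → (Fin k → Fin 2 → F) → (Fin k' → Fin 2 → F) := fun z w =>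
    ψ' (Additive.ofMul ⟨⁅L z, L w⁆, Subgroup.commutator_mem_commutator (hL z) (hL w)⟩)
  have hc0 : ∀ z w a b (ha : a ∈ Q) (hb : b ∈ Q), mk (L z) = mk a → mk (L w) = mk b →
      c0 z w = ψ' (Additive.ofMul ⟨⁅a, b⁆, Subgroup.commutator_mem_commutator ha hb⟩) := by
    intro z w a b ha hb h1 h2
    show ψ' _ = ψ' _
    congr 2
    exact Subtype.ext (hcongr _ _ _ _ (hL z) (hL w) ha hb h1 h2)
  have hLadd : ∀ z w, mk (L (z + w)) = mk (L z * L w) := fun z w =>
    hLeq _ _ (Q.mul_mem (hL z) (hL w)) (by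
      have h := hψadd (Additive.ofMul ⟨mk (L z), Subgroup.mem_map_of_mem mk (hL z)⟩)
        (Additive.ofMul ⟨mk (L w), Subgroup.mem_map_of_mem mk (hL w)⟩)
      rw [hLz, hLz] at h
      rw [← h]
      congr 2)
  have hbilin : ∀ a b d, a ∈ Q → b ∈ Q → d ∈ Q →
      ⁅a * b, d⁆ = ⁅a, d⁆ * ⁅b, d⁆ ∧ ⁅d, a * b⁆ = ⁅d, a⁆ * ⁅d, b⁆ := by
    intro a b d ha hb hd
    constructor
    · calc ⁅a * b, d⁆ = (a * ⁅b, d⁆ * a⁻¹) * ⁅a, d⁆ := by
            simp only [commutatorElement_def]; group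
        _ = ⁅b, d⁆ * ⁅a, d⁆ := by
            rw [← hcen _ (Subgroup.commutator_mem_commutator hb hd) a ha, mul_inv_cancel_right]
        _ = ⁅a, d⁆ * ⁅b, d⁆ :=
            hcen _ (Subgroup.commutator_mem_commutator hb hd) _
              (hQ'Q (Subgroup.commutator_mem_commutator ha hd))
    · calc ⁅d, a * b⁆ = ⁅d, a⁆ * (a * ⁅d, b⁆ * a⁻¹) := by
            simp only [commutatorElement_def]; group
        _ = ⁅d, a⁆ * ⁅d, b⁆ := by
            rw [← hcen _ (Subgroup.commutator_mem_commutator hd hb) a ha, mul_inv_cancel_right]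
  let c : (Fin k → Fin 2 → F) →+ (Fin k → Fin 2 → F) →+ (Fin k' → Fin 2 → F) :=
    AddMonoidHom.mk' (fun z => AddMonoidHom.mk' (fun w => c0 z w) fun w w' => by
        rw [hc0 z (w + w') _ _ (hL z) (Q.mul_mem (hL w) (hL w')) rfl (hLadd w w'), ← hψ'add]
        congr 2
        exact Subtype.ext (hbilin _ _ _ (hL w) (hL w') (hL z)).2)
      fun z z' => AddMonoidHom.ext fun w => by
        show c0 (z + z') w = c0 z w + c0 z' w
        rw [hc0 (z + z') w _ _ (Q.mul_mem (hL z) (hL z')) (hL w) (hLadd z z') rfl, ← hψ'add]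
        congr 2
        exact Subtype.ext (hbilin _ _ _ (hL z) (hL z') (hL w)).1
  have hLact : ∀ g z, mk (L fun i => (φ g : Matrix (Fin 2) (Fin 2) F) *ᵥ z i) =
      mk (g * L z * g⁻¹) := by
    intro g z
    refine hLeq _ _ ((inferInstance : Q.Normal).conj_mem _ (hL z) g) ?_
    funext i
    conv_rhs => rw [← hLz z]
    refine Eq.trans ?_ (hψ (mk g) _ i)
    congr 3
  have hzero := pairing_eq_zero h4F c
    (fun s z w => by
      obtain ⟨g, rfl⟩ := hφ s
      show c0 _ _ = _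
      rw [hc0 _ _ _ _ ((inferInstance : Q.Normal).conj_mem _ (hL z) g)
        ((inferInstance : Q.Normal).conj_mem _ (hL w) g) (hLact g z) (hLact g w)]
      funext i
      refine (congrArg (fun v => ψ' (Additive.ofMul v) i) (Subtype.ext ?_)).trans
        (hψ' g ⟨⁅L z, L w⁆, Subgroup.commutator_mem_commutator (hL z) (hL w)⟩ i)
      simp [commutatorElement_def, mul_assoc])
    (fun z => by
      show c0 z z = 0
      have h0 : ψ' 0 = 0 := by
        have := hψ'add 0 0
        rw [add_zero, right_eq_add] at this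
        exact this
      rw [← h0]
      show ψ' _ = ψ' _
      congr 1
      exact Subtype.ext (commutatorElement_self _))
    (fun s hs z => by
      obtain ⟨d, rfl⟩ := exists_lift φ hφ x hxt s hs
      show c0 z _ = 0
      rw [hc0 z _ _ _ (hL z) ((inferInstance : Q.Normal).conj_mem _ (hL z) _) rfl
        (hLact (d * x * d⁻¹) z)]
      have h0 : ψ' 0 = 0 := by
        have := hψ'add 0 0
        rw [add_zero, right_eq_add] at this
        exact this
      rw [← h0]
      congr 1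
      refine Subtype.ext (commutatorElement_eq_one_iff_mul_comm.2 ?_)
      exact congrArg Subtype.val (hself _ ⟨d, rfl⟩ ⟨L z, hL z⟩).eq)
  intro a ha b hb
  rw [← commutatorElement_eq_one_iff_mul_comm]
  have h := hzero (ψ (Additive.ofMul ⟨mk a, Subgroup.mem_map_of_mem mk ha⟩))
    (ψ (Additive.ofMul ⟨mk b, Subgroup.mem_map_of_mem mk hb⟩))
  change c0 _ _ = 0 at h
  rw [hc0 _ _ a b ha hb (hLeq _ a ha rfl) (hLeq _ b hb rfl)] at h
  have h0 : ψ' 0 = 0 := by
    have := hψ'add 0 0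
    rw [add_zero, right_eq_add] at this
    exact this
  exact congrArg (fun v : Additive ↥Q' => ((v.toMul : ↥Q') : G)) (ψ'.injective (h.trans h0.symm))

/-- The natural summands. -/
theorem exists_summands (φ : G →* SpecialLinearGroup (Fin 2) F) (hφ : Function.Surjective φ)
    (Q : Subgroup G) [Q.Normal] (hab : ∀ a ∈ Q, ∀ b ∈ Q, a * b = b * a)
    {k : ℕ} {ψ : Additive ↥Q ≃ (Fin k → Fin 2 → F)} (hψ : IsNaturalIso φ Q k ψ) :
    ∃ V : Fin k → Subgroup G, (∀ i, V i ≤ Q ∧ (V i).Normal ∧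
      Cfsg.ActsAsSL2OnSection F ⊤ ⊤ (V i) ⊥) ∧ iSupIndep V ∧ ⨆ i, V i = Q := by
  classical
  obtain ⟨hadd, hact⟩ := hψ
  let χ : ↥Q → (Fin k → Fin 2 → F) := fun q => ψ (Additive.ofMul q)
  have hmul : ∀ a b, χ (a * b) = χ a + χ b := fun a b => hadd _ _
  have hone : χ 1 = 0 := by
    have := hmul 1 1
    rw [one_mul, right_eq_add] at this
    exact this
  have hinv : ∀ a, χ a⁻¹ = -χ a := fun a => eq_neg_of_add_eq_zero_left (by
    rw [← hmul, inv_mul_cancel, hone])
  have hinj : Function.Injective χ := fun a b h => ψ.injective h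
  have hsurj : ∀ z, ∃ q, χ q = z := fun z => ⟨(ψ.symm z).toMul, ψ.apply_symm_apply z⟩
  -- the subgroups cut out by sets of coordinates
  let Z : (Fin k → Prop) → Subgroup G := fun T =>
    { carrier := {g | ∃ h : g ∈ Q, ∀ j, T j → χ ⟨g, h⟩ j = 0}
      one_mem' := ⟨Q.one_mem, fun j _ => congrFun hone j⟩
      mul_mem' := fun {a b} ⟨ha, ha'⟩ ⟨hb, hb'⟩ => ⟨Q.mul_mem ha hb, fun j hj => by
        rw [show (⟨a * b, Q.mul_mem ha hb⟩ : ↥Q) = ⟨a, ha⟩ * ⟨b, hb⟩ from rfl, hmul, Pi.add_apply,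
          ha' j hj, hb' j hj, add_zero]⟩
      inv_mem' := fun {a} ⟨ha, ha'⟩ => ⟨Q.inv_mem ha, fun j hj => by
        rw [show (⟨a⁻¹, Q.inv_mem ha⟩ : ↥Q) = ⟨a, ha⟩⁻¹ from rfl, hinv, Pi.neg_apply, ha' j hj,
          neg_zero]⟩ }
  have hZn : ∀ T, (Z T).Normal := fun T => ⟨fun n ⟨hn, hn'⟩ g =>
    ⟨(inferInstance : Q.Normal).conj_mem n hn g, fun j hj => by
      have h := hact g ⟨n, hn⟩ j
      rw [show (MulAut.conjNormal g ⟨n, hn⟩ : ↥Q) =
        ⟨g * n * g⁻¹, (inferInstance : Q.Normal).conj_mem n hn g⟩ from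
        Subtype.ext (MulAut.conjNormal_apply g _)] at h
      show ψ _ j = 0
      rw [h]
      show _ *ᵥ χ ⟨n, hn⟩ j = 0
      rw [hn' j hj, Matrix.mulVec_zero]⟩⟩
  refine ⟨fun i => Z fun j => j ≠ i, fun i => ⟨fun g ⟨h, _⟩ => h, hZn _, ?_⟩, ?_, ?_⟩
  · haveI := hZn fun j => j ≠ i
    refine ⟨le_of_le_of_eq le_top (Subgroup.normalizer_eq_top _).symm, bot_le,
      φ.comp (⊤ : Subgroup G).subtype,
      MonoidHom.mk' (fun u => Multiplicative.ofAdd (χ ⟨(u : G), u.2.1⟩ i)) (fun u u' => by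
        show Multiplicative.ofAdd (χ (⟨(u : G), u.2.1⟩ * ⟨(u' : G), u'.2.1⟩) i) = _
        rw [hmul]; rfl), ?_, ?_, ?_, ?_⟩
    · exact MonoidHom.range_eq_top.2 fun s => ⟨⟨(hφ s).choose, trivial⟩, (hφ s).choose_spec⟩
    · intro v
      obtain ⟨q, hq⟩ := hsurj (Pi.single i v.toAdd)
      refine ⟨⟨q, q.2, fun j hj => ?_⟩, ?_⟩
      · show χ q j = 0
        rw [hq, Pi.single_eq_of_ne hj]
      · show Multiplicative.ofAdd (χ q i) = v
        rw [hq, Pi.single_eq_same]; rfl
    · intro u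
      constructor
      · intro hu
        have hu' : χ ⟨(u : G), u.2.1⟩ i = 0 := Multiplicative.ofAdd.injective hu
        have h0 : χ ⟨(u : G), u.2.1⟩ = χ 1 := by
          rw [hone]; funext j
          rcases eq_or_ne j i with rfl | hj
          · exact hu'
          · exact u.2.2 j hj
        exact congrArg (fun q : ↥Q => (q : G)) (hinj h0)
      · intro hu
        rw [Subgroup.mem_bot] at hu
        show Multiplicative.ofAdd (χ ⟨(u : G), u.2.1⟩ i) = 1
        rw [show (⟨(u : G), u.2.1⟩ : ↥Q) = 1 from Subtype.ext hu, hone]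
        rfl
    · intro e u
      refine ⟨⟨(e : G) * u * (e : G)⁻¹, (hZn _).conj_mem _ u.2 _⟩, rfl, ?_⟩
      have h := hact (e : G) ⟨(u : G), u.2.1⟩ i
      rw [show (MulAut.conjNormal (e : G) ⟨(u : G), u.2.1⟩ : ↥Q) =
        ⟨(e : G) * u * (e : G)⁻¹, (inferInstance : Q.Normal).conj_mem _ u.2.1 _⟩ from
        Subtype.ext (MulAut.conjNormal_apply _ _)] at h
      exact h
  · intro i
    rw [disjoint_iff, eq_bot_iff]
    rintro g ⟨⟨hg, hg'⟩, hg2⟩
    have hle : (⨆ (j) (_ : j ≠ i), Z fun l => l ≠ j) ≤ Z fun l => l = i :=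
      iSup₂_le fun j hj g ⟨h, h'⟩ => ⟨h, fun l (hl : l = i) => h' l (hl ▸ hj.symm)⟩
    obtain ⟨_, hg''⟩ := hle hg2
    have h0 : χ ⟨g, hg⟩ = χ 1 := by
      rw [hone]; funext j
      rcases eq_or_ne j i with rfl | hj
      · exact hg'' j rfl
      · exact hg' j hj
    exact congrArg (fun q : ↥Q => (q : G)) (hinj h0)
  · refine le_antisymm (iSup_le fun i g ⟨h, _⟩ => h) fun g hg => ?_
    suffices h : ∀ (s : Finset (Fin k)) (q : ↥Q), (∀ j, j ∉ s → χ q j = 0) →
        (q : G) ∈ ⨆ i, Z fun j => j ≠ i from h Finset.univ ⟨g, hg⟩ (by simp)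
    intro s
    induction s using Finset.induction_on with
    | empty =>
      intro q hq
      rw [show q = 1 from hinj (by rw [hone]; funext j; exact hq j (by simp))]
      exact Subgroup.one_mem _
    | insert a s ha ih =>
      intro q hq
      obtain ⟨u, hu⟩ := hsurj (Pi.single a (χ q a))
      have h1 : (u : G) ∈ ⨆ i, Z fun j => j ≠ i :=
        Subgroup.mem_iSup_of_mem a ⟨u.2, fun j hj => by
          show χ u j = 0
          rw [hu, Pi.single_eq_of_ne hj]⟩
      have h2 := ih (u⁻¹ * q) fun j hj => by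
        rw [hmul, hinv, Pi.add_apply, Pi.neg_apply, hu]
        rcases eq_or_ne j a with rfl | hja
        · rw [Pi.single_eq_same, neg_add_cancel]
        · rw [Pi.single_eq_of_ne hja, neg_zero, zero_add]
          exact hq j (by simp [hj, hja])
      simpa using Subgroup.mul_mem _ h1 h2

end Main

end CfsgLib.Case.SL2Fpf
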