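import Cfsg.Agent.Lib.Fusion.AlperinGroup
import Mathlib.GroupTheory.Focal
import Mathlib.GroupTheory.Nilpotent

set_option autoImplicit false

/-!
If no prime other than p divides both `|G|` and `|Aut R|` for `R ≤ P`, then P controls its own fusion,
and a perfect group then has trivial Sylow p-subgroup.
-/

namespace CfsgLib.Case

open Subgroup
open scoped commutatorElement IsMulCommutative

variable {G : Type*} [Group G] [Finite G] {p : ℕ} [hp : Fact p.Prime]

theorem eq_prime_pow_of_only {n : ℕ} (hn : n ≠ 0) (h : ∀ r : ℕ, r.Prime → r ∣ n → r = p) :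
    ∃ k, n = p ^ k := by
  refine ⟨n.primeFactorsList.length, ?_⟩
  exact Nat.eq_prime_pow_of_unique_prime_dvd hn fun {d} hd hdn => h d hd hdn

/-- Fusion by elements of a Sylow subgroup itself. -/
theorem exists_conj_in_sylow (P : Sylow p G)
    (haut : ∀ R : Subgroup G, R ≤ (P : Subgroup G) → ∀ r : ℕ, r.Prime → r ≠ p →
      r ∣ Nat.card G → ¬ r ∣ Nat.card (MulAut R))
    {A : Set G} {g : G} (h : CfsgLib.AlperinGroup.Chain P A g) :
    ∃ s ∈ (P : Subgroup G), ∀ a ∈ A, g⁻¹ * a * g = s⁻¹ * a * s := by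
  induction h with
  | one A => exact ⟨1, one_mem _, fun a _ => rfl⟩
  | cons A x h Q hA ht hx _ ih =>
    obtain ⟨R, hR⟩ : ∃ R, R = (P : Subgroup G) ⊓ (Q : Subgroup G) := ⟨_, rfl⟩
    simp only [CfsgLib.AlperinGroup.Tame] at ht
    rw [← hR] at hA hx ht
    obtain ⟨φ, hφ⟩ : ∃ φ, φ = Subgroup.normalizerMonoidHom R := ⟨_, rfl⟩
    obtain ⟨S', hS'⟩ : ∃ S', S' = ((P : Subgroup G) ⊓ normalizer (R : Set G)).subgroupOf
        (normalizer (R : Set G)) := ⟨_, rfl⟩
    -- the image of the Sylow part is everything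
    have hrange : S'.map φ = φ.range := by
      have hle : S'.map φ ≤ φ.range := Subgroup.map_le_range φ S'
      obtain ⟨k, hk⟩ : ∃ k, Nat.card φ.range = p ^ k := by
        refine eq_prime_pow_of_only Nat.card_pos.ne' fun r hr hrd => ?_
        by_contra hne
        exact haut R (hR ▸ inf_le_left) r hr hne
          (hrd.trans ((Subgroup.card_range_dvd φ).trans (Subgroup.card_subgroup_dvd_card _)))
          (hrd.trans (Subgroup.card_subgroup_dvd_card _))
      have hidx : (S'.map φ).relIndex φ.range ∣ S'.index := by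
        rw [MonoidHom.range_eq_map, Subgroup.relIndex_map_map, top_sup_eq,
          Subgroup.relIndex_top_right]
        exact Subgroup.index_dvd_of_le le_sup_left
      have hcop : ¬ p ∣ (S'.map φ).relIndex φ.range := fun hd => by
        have h' := hd.trans hidx
        rw [hS'] at h'
        exact ht.1 h'
      have hdk : (S'.map φ).relIndex φ.range ∣ p ^ k :=
        hk ▸ Subgroup.relIndex_dvd_card _ _
      obtain ⟨i, -, hi⟩ := (Nat.dvd_prime_pow hp.out).1 hdk
      refine le_antisymm hle (Subgroup.relIndex_eq_one.1 ?_)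
      rcases Nat.eq_zero_or_pos i with h0 | h0
      · rw [hi, h0, pow_zero]
      · exact absurd (hi ▸ dvd_pow_self p h0.ne') hcop
    obtain ⟨u, hu, huφ⟩ : ∃ u ∈ S', φ u = φ ⟨x, hx⟩ :=
      Subgroup.mem_map.1 (hrange.symm ▸ ⟨⟨x, hx⟩, rfl⟩ : φ ⟨x, hx⟩ ∈ S'.map φ)
    have huP : (u : G) ∈ (P : Subgroup G) := by
      rw [hS'] at hu; exact hu.1
    have hagree : ∀ a ∈ (R : Set G), x⁻¹ * a * x = (u : G)⁻¹ * a * u := by
      intro a ha
      have h1 : φ u⁻¹ = φ (⟨x, hx⟩ : normalizer (R : Set G))⁻¹ := by rw [map_inv, map_inv, huφ]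
      rw [hφ] at h1
      have h2 := congrArg (fun ψ : MulAut R => ((ψ ⟨a, ha⟩ : R) : G)) h1
      have h3 : (u : G)⁻¹ * a * ((u : G)⁻¹)⁻¹ = x⁻¹ * a * (x⁻¹)⁻¹ := h2
      rw [inv_inv, inv_inv] at h3
      exact h3.symm
    obtain ⟨s, hs, hconj⟩ := ih
    refine ⟨(u : G) * s, mul_mem huP hs, fun a ha => ?_⟩
    have := hconj _ ⟨a, ha, rfl⟩
    simp only at this
    calc (x * h)⁻¹ * a * (x * h) = h⁻¹ * (x⁻¹ * a * x) * h := by group
      _ = s⁻¹ * (x⁻¹ * a * x) * s := this
      _ = s⁻¹ * ((u : G)⁻¹ * a * u) * s := by rw [hagree a (hA ha)]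
      _ = ((u : G) * s)⁻¹ * a * ((u : G) * s) := by group

theorem sylow_eq_bot_of_perfect (P : Sylow p G) (hperf : commutator G = ⊤)
    (haut : ∀ R : Subgroup G, R ≤ (P : Subgroup G) → ∀ r : ℕ, r.Prime → r ≠ p →
      r ∣ Nat.card G → ¬ r ∣ Nat.card (MulAut R)) : (P : Subgroup G) = ⊥ := by
  have hfoc : (P : Subgroup G).focalSubgroup ≤ ⁅(P : Subgroup G), (P : Subgroup G)⁆ := by
    rw [Subgroup.focalSubgroup_def, Subgroup.closure_le]
    rintro g ⟨hg, x, hx, u, rfl⟩
    have hmem : u * x⁻¹ * u⁻¹ ∈ (P : Subgroup G) := by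
      have := mul_mem (inv_mem hx) hg
      simpa [commutatorElement_def, mul_assoc] using this
    have hch := CfsgLib.AlperinGroup.alperin P ({x⁻¹} : Set G) u⁻¹
      (by
        intro y hy
        rw [Set.mem_singleton_iff.1 hy]
        exact (P : Subgroup G).inv_mem hx)
      (by
        rintro _ ⟨y, hy, rfl⟩
        rw [Set.mem_singleton_iff.1 hy]
        simp only [inv_inv]
        exact hmem)
    obtain ⟨s, hs, hconj⟩ := exists_conj_in_sylow P haut hch
    have h1 := hconj _ rfl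
    rw [inv_inv] at h1
    have heq : ⁅x, u⁆ = ⁅x, s⁻¹⁆ := by
      rw [commutatorElement_def, commutatorElement_def]
      calc x * u * x⁻¹ * u⁻¹ = x * (u * x⁻¹ * u⁻¹) := by group
        _ = x * (s⁻¹ * x⁻¹ * s) := by rw [h1]
        _ = x * s⁻¹ * x⁻¹ * (s⁻¹)⁻¹ := by group
    rw [heq]
    exact Subgroup.commutator_mem_commutator hx (inv_mem hs)
  have hle : (P : Subgroup G) ≤ ⁅(P : Subgroup G), (P : Subgroup G)⁆ := by
    refine le_trans ?_ hfoc
    rw [← Subgroup.ker_transferFocal_inf_eq_focalSubgroup]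
    refine le_inf ?_ le_rfl
    refine le_trans le_top (hperf ▸ ?_)
    exact Abelianization.commutator_subset_ker _
  by_contra hne
  haveI : Nontrivial (P : Subgroup G) := (Subgroup.nontrivial_iff_ne_bot _).2 hne
  haveI := P.isPGroup'.isNilpotent
  have hlt := Group.IsSolvable.commutator_lt_top_of_nontrivial (P : Subgroup G)
  refine hlt.ne (Subgroup.map_injective (P : Subgroup G).subtype_injective ?_)
  rw [Subgroup.map_subtype_commutator, ← MonoidHom.range_eq_map, Subgroup.range_subtype]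
  exact le_antisymm (Subgroup.commutator_le_self _) hle

end CfsgLib.Case
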