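import Cfsg.Prelude.Def_Local
import Cfsg.Agent.Lib.Solvable.CoprimeAction
import Cfsg.Agent.Lib.PLocal.Constrained
import Cfsg.Agent.Lib.Case.CharTwo

set_option autoImplicit false
set_option linter.style.haveILetI false

/-!
A p'-group normalised by a p-group `A` and fixing `C_R(A)` fixes the p-group `R`
(`p` odd, or class at most two); invariant p'-subgroups in p-constrained groups.
-/

open scoped commutatorElement

namespace CfsgLib.Case

/-- A group with Baer's addition `x * y * ⁅y, x⁆ ^ h`. -/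
@[ext] structure Baer (R : Type*) (h : ℕ) where
  val : R

/-- Commutators are central and `h` halves them. -/
def BaerHyp (R : Type*) [Group R] (h : ℕ) : Prop :=
  (∀ a b c : R, Commute ⁅a, b⁆ c) ∧ ∀ a b : R, ⁅a, b⁆ ^ (2 * h) = ⁅a, b⁆

namespace Baer

variable {R : Type*} [Group R] {h : ℕ}

theorem comm_mul_left (hh : BaerHyp R h) (a b c : R) : ⁅a * b, c⁆ = ⁅a, c⁆ * ⁅b, c⁆ := by
  have h1 : ⁅a * b, c⁆ = (a * ⁅b, c⁆ * a⁻¹) * ⁅a, c⁆ := by
    simp [commutatorElement_def]; group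
  rw [h1, ← (hh.1 b c a).eq, mul_inv_cancel_right, (hh.1 b c ⁅a, c⁆).eq]

theorem comm_mul_right (hh : BaerHyp R h) (a b c : R) : ⁅a, b * c⁆ = ⁅a, b⁆ * ⁅a, c⁆ := by
  have h1 : ⁅a, b * c⁆ = ⁅a, b⁆ * (b * ⁅a, c⁆ * b⁻¹) := by
    simp [commutatorElement_def]; group
  rw [h1, ← (hh.1 a c b).eq, mul_inv_cancel_right]

theorem comm_pow_left (hh : BaerHyp R h) (a b : R) (n : ℕ) (c : R) :
    ⁅⁅a, b⁆ ^ n, c⁆ = 1 :=
  commutatorElement_eq_one_iff_mul_comm.2 ((hh.1 a b c).pow_left n).eq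

theorem comm_pow_right (hh : BaerHyp R h) (a b : R) (n : ℕ) (c : R) :
    ⁅c, ⁅a, b⁆ ^ n⁆ = 1 :=
  commutatorElement_eq_one_iff_mul_comm.2 ((hh.1 a b c).pow_left n).eq.symm

/-- The commutative group structure. -/
abbrev commGroup (hh : BaerHyp R h) : CommGroup (Baer R h) where
  mul x y := ⟨x.val * y.val * ⁅y.val, x.val⁆ ^ h⟩
  one := ⟨1⟩
  inv x := ⟨x.val⁻¹⟩
  mul_assoc x y z := by
    obtain ⟨a⟩ := x
    obtain ⟨b⟩ := y
    obtain ⟨c⟩ := z
    apply Baer.ext
    show a * b * ⁅b, a⁆ ^ h * c * ⁅c, a * b * ⁅b, a⁆ ^ h⁆ ^ h =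
      a * (b * c * ⁅c, b⁆ ^ h) * ⁅b * c * ⁅c, b⁆ ^ h, a⁆ ^ h
    rw [comm_mul_right hh c (a * b), comm_mul_right hh c a b, comm_pow_right hh, mul_one,
      comm_mul_left hh (b * c), comm_mul_left hh b c, comm_pow_left hh, mul_one,
      (hh.1 c a ⁅c, b⁆).mul_pow, (hh.1 b a ⁅c, a⁆).mul_pow]
    have e1 : ⁅b, a⁆ ^ h * c = c * ⁅b, a⁆ ^ h := ((hh.1 b a c).pow_left h).eq
    have e2 : ⁅b, a⁆ ^ h * (⁅c, a⁆ ^ h * ⁅c, b⁆ ^ h) =
        ⁅c, b⁆ ^ h * (⁅b, a⁆ ^ h * ⁅c, a⁆ ^ h) := by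
      rw [← mul_assoc, (((hh.1 c b (⁅b, a⁆ ^ h * ⁅c, a⁆ ^ h))).pow_left h).eq]
    rw [mul_assoc (a * b), e1, ← mul_assoc (a * b) c, mul_assoc (a * b * c), e2]
    simp only [mul_assoc]
  one_mul x := Baer.ext (show 1 * x.val * ⁅x.val, 1⁆ ^ h = x.val by simp)
  mul_one x := Baer.ext (show x.val * 1 * ⁅1, x.val⁆ ^ h = x.val by simp)
  inv_mul_cancel x := Baer.ext (show x.val⁻¹ * x.val * ⁅x.val, x.val⁻¹⁆ ^ h = 1 by
    simp [commutatorElement_def])
  mul_comm x y := by
    obtain ⟨a⟩ := x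
    obtain ⟨b⟩ := y
    apply Baer.ext
    show a * b * ⁅b, a⁆ ^ h = b * a * ⁅a, b⁆ ^ h
    have h1 : a * b = ⁅a, b⁆ * (b * a) := by simp [commutatorElement_def]
    have h2 : ⁅b, a⁆ ^ h = (⁅a, b⁆ ^ h)⁻¹ := by rw [← inv_pow, commutatorElement_inv]
    rw [h1, (hh.1 a b (b * a)).eq, h2, mul_assoc]
    congr 1
    rw [mul_inv_eq_iff_eq_mul, ← pow_add, ← two_mul]
    exact (hh.2 a b).symm

end Baer

open Subgroup

theorem baer_fixed {R A K : Type*} [Group R] [Finite R] [Group A] [Group K] [Finite K] {p : ℕ}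
    [Fact p.Prime] (hR : IsPGroup p R) (hp : Odd p) (h2 : ∀ a b c : R, Commute ⁅a, b⁆ c)
    (hA : IsPGroup p A) (hK : (Nat.card K).Coprime p) (fA : A →* MulAut R) (fK : K →* MulAut R)
    (hn : ∀ a : A, ∃ e : K ≃ K, ∀ k x, fA a (fK k x) = fK (e k) (fA a x))
    (hfix : ∀ x, (∀ a, fA a x = x) → ∀ k, fK k x = x) : ∀ k x, fK k x = x := by
  classical
  cases nonempty_fintype K
  obtain ⟨N, hN⟩ := hR.exists_card_eq
  have hodd : Odd (Nat.card R) := hN ▸ hp.pow
  obtain ⟨m, hm⟩ := hodd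
  have hh : BaerHyp R (m + 1) := by
    refine ⟨h2, fun a b => ?_⟩
    rw [show 2 * (m + 1) = Nat.card R + 1 by omega, pow_succ, pow_card_eq_one', one_mul]
  letI := Baer.commGroup hh
  let push : MulAut R → (Baer R (m + 1) →* Baer R (m + 1)) := fun φ =>
    MonoidHom.mk' (fun x => ⟨φ x.val⟩) fun x y => Baer.ext (show
      φ (x.val * y.val * ⁅y.val, x.val⁆ ^ (m + 1)) =
        φ x.val * φ y.val * ⁅φ y.val, φ x.val⁆ ^ (m + 1) by
      rw [map_mul, map_mul, map_pow, map_commutatorElement])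
  let π : Baer R (m + 1) →* Baer R (m + 1) := ∏ k : K, push (fK k)
  have hπ : ∀ x, π x = ∏ k : K, push (fK k) x := fun x => MonoidHom.finsetProd_apply _ _ _
  have hcomm : ∀ a x, push (fA a) (π x) = π (push (fA a) x) := by
    intro a x
    obtain ⟨e, he⟩ := hn a
    rw [hπ, hπ, map_prod]
    exact Fintype.prod_equiv e _ _ fun k => Baer.ext (he k x.val)
  have hinj : ∀ x, π x = 1 → x = 1 := by
    by_contra hne
    push Not at hne
    obtain ⟨x, hx, hx1⟩ := hne
    haveI : Finite (Baer R (m + 1)) := Finite.of_equiv R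
      ⟨Baer.mk, Baer.val, fun _ => rfl, fun _ => rfl⟩
    letI : MulAction A π.ker :=
      { smul := fun a v => ⟨push (fA a) v.1, by
          rw [MonoidHom.mem_ker, ← hcomm, MonoidHom.mem_ker.1 v.2, map_one]⟩
        one_smul := fun v => Subtype.ext (Baer.ext (show fA 1 v.1.val = _ by rw [map_one]; rfl))
        mul_smul := fun a b v => Subtype.ext (Baer.ext
          (show fA (a * b) v.1.val = _ by rw [map_mul]; rfl)) }
    have hcard : p ∣ Nat.card π.ker := by
      have hR' : Nat.card (Baer R (m + 1)) = p ^ N := hN ▸ Nat.card_congr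
        ⟨Baer.val, Baer.mk, fun _ => rfl, fun _ => rfl⟩
      obtain ⟨i, -, hi⟩ := (Nat.dvd_prime_pow Fact.out).1 (hR' ▸ π.ker.card_subgroup_dvd_card)
      refine hi ▸ dvd_pow_self p fun h0 => hx1 ?_
      have : π.ker = ⊥ := Subgroup.eq_bot_of_card_eq _ (by rw [hi, h0, pow_zero])
      exact Subgroup.mem_bot.1 (this ▸ MonoidHom.mem_ker.2 hx)
    obtain ⟨v, hv, hv1⟩ := hA.exists_fixed_point_of_prime_dvd_card_of_fixed_point π.ker hcard
      (a := 1) (fun a => Subtype.ext (map_one (push (fA a))))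
    have hfixv : ∀ k : K, push (fK k) v.1 = v.1 := fun k => Baer.ext (hfix v.1.val
      (fun a => congrArg (fun w : π.ker => w.1.val) (hv a)) k)
    have hsum := hπ v.1
    rw [MonoidHom.mem_ker.1 v.2, Finset.prod_congr rfl fun k _ => hfixv k, Finset.prod_const,
      Finset.card_univ, ← Nat.card_eq_fintype_card] at hsum
    refine hv1 (Subtype.ext ?_).symm
    have hcop : (Nat.card K).Coprime (Nat.card (Baer R (m + 1))) := by
      rw [Nat.card_congr (β := R) ⟨Baer.val, Baer.mk, fun _ => rfl, fun _ => rfl⟩, hN]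
      exact hK.pow_right _
    obtain ⟨j, hj⟩ := exists_pow_eq_self_of_coprime
      (hcop.coprime_dvd_right (orderOf_dvd_natCard v.1))
    rw [← hsum, one_pow] at hj
    exact hj.symm
  intro k x
  have : π (push (fK k) ⟨x⟩) = π ⟨x⟩ := by
    rw [hπ, hπ]
    exact Fintype.prod_equiv (Equiv.mulRight k) _ _ fun j => Baer.ext
      (show fK j (fK k x) = fK (j * k) x by rw [map_mul]; rfl)
  have h1 := hinj (push (fK k) ⟨x⟩ / ⟨x⟩) (by rw [map_div, this, div_self'])
  exact congrArg Baer.val (div_eq_one.1 h1)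

variable {G : Type*} [Group G] [Finite G] {p : ℕ} [Fact p.Prime] {A K R : Subgroup G}

omit [Finite G] [Fact p.Prime] in
theorem centralizer_fix_commutator (hAR : A ≤ normalizer (R : Set G))
    (h2 : ∀ a ∈ R ⊔ A, ∀ b ∈ R ⊔ A, ∀ c ∈ R ⊔ A, Commute ⁅a, b⁆ c)
    (hC : R ⊓ centralizer (A : Set G) ≤ centralizer (K : Set G))
    {a r : G} (ha : a ∈ A) (hr : r ∈ R) : ⁅a, r⁆ ∈ R ⊓ centralizer (K : Set G) := by
  have h1 : ⁅a, r⁆ ∈ R := mul_mem ((mem_normalizer_iff.1 (hAR ha) r).1 hr) (inv_mem hr)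
  exact ⟨h1, hC ⟨h1, fun x hx => (h2 a (mem_sup_right ha) r (mem_sup_left hr) x
    (mem_sup_right hx)).eq.symm⟩⟩

omit [Fact p.Prime] in
theorem conj_fix_of_class_two (hp : p.Prime) (hK : (Nat.card K).Coprime p) (hR : IsPGroup p R)
    (hAR : A ≤ normalizer (R : Set G)) (hKR : K ≤ normalizer (R : Set G))
    (hAK : A ≤ normalizer (K : Set G))
    (h2 : ∀ a ∈ R ⊔ A, ∀ b ∈ R ⊔ A, ∀ c ∈ R ⊔ A, Commute ⁅a, b⁆ c)
    (hC : R ⊓ centralizer (A : Set G) ≤ centralizer (K : Set G)) :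
    ⁅K, A⁆ ≤ centralizer (R : Set G) := by
  haveI := Fact.mk hp
  rw [commutator_le]
  intro k0 hk0 a ha r hr
  set k := k0⁻¹ with hk
  have hkK : k ∈ K := inv_mem hk0
  set k' := a * k * a⁻¹ with hk'
  have hk'K : k' ∈ K := (mem_normalizer_iff.1 (hAK ha) k).1 hkK
  set s := k * r * k⁻¹ with hs
  have hsR : s ∈ R := (mem_normalizer_iff.1 (hKR hkK) r).1 hr
  set z := ⁅a, s⁆ with hz
  set z' := ⁅a, r⁆ with hz'
  have hzC := centralizer_fix_commutator hAR h2 hC ha hsR
  have hz'C := centralizer_fix_commutator hAR h2 hC ha hr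
  set n := k⁻¹ * k' with hn
  set w := z'⁻¹ * z with hw
  have hwC : w ∈ R ⊓ centralizer (K : Set G) := mul_mem (inv_mem hz'C) hzC
  have hnK : n ∈ K := mul_mem (inv_mem hkK) hk'K
  have key : n * r * n⁻¹ = w * r := by
    have e1 : z * s = a * s * a⁻¹ := by simp [hz, commutatorElement_def]
    have e3 : k' * (z' * r) * k'⁻¹ = a * s * a⁻¹ := by
      simp only [hz', hs, hk', commutatorElement_def]
      group
    have c1 : k' * z' = z' * k' := hz'C.2 k' hk'K
    have e4 : k' * r * k'⁻¹ = w * s := by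
      rw [hw, mul_assoc z'⁻¹, e1, ← e3, ← mul_assoc k', c1]
      group
    calc n * r * n⁻¹ = k⁻¹ * (k' * r * k'⁻¹) * k := by rw [hn]; group
      _ = k⁻¹ * w * (k * r * k⁻¹) * k := by rw [e4, hs]; group
      _ = w * k⁻¹ * (k * r * k⁻¹) * k := by rw [hwC.2 k⁻¹ (inv_mem hkK)]
      _ = w * r := by group
  have hpow : ∀ i : ℕ, n ^ i * r * (n ^ i)⁻¹ = w ^ i * r := by
    intro i
    induction i with
    | zero => simp
    | succ i ih =>
      have hc : n * w ^ i = w ^ i * n :=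
        ((show Commute n w from hwC.2 n hnK).pow_right i).eq
      calc n ^ (i + 1) * r * (n ^ (i + 1))⁻¹ = n * (n ^ i * r * (n ^ i)⁻¹) * n⁻¹ := by
            rw [pow_succ']; group
        _ = n * (w ^ i * r) * n⁻¹ := by rw [ih]
        _ = w ^ i * (n * r * n⁻¹) := by rw [← mul_assoc n, hc]; simp only [mul_assoc]
        _ = w ^ i * (w * r) := by rw [key]
        _ = w ^ (i + 1) * r := by rw [pow_succ, mul_assoc (w ^ i)]
  have hw1 : w = 1 := by
    have h := hpow (orderOf n)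
    rw [pow_orderOf_eq_one, one_mul, inv_one, mul_one, right_eq_mul] at h
    obtain ⟨j, hj⟩ := hR.exists_card_eq
    have h1 : orderOf w ∣ orderOf n := orderOf_dvd_of_pow_eq_one h
    have h2' : orderOf w ∣ p ^ j := hj ▸ R.orderOf_dvd_natCard hwC.1
    rw [← orderOf_eq_one_iff]
    exact Nat.eq_one_of_dvd_coprimes ((hK.coprime_dvd_left
      (K.orderOf_dvd_natCard hnK)).pow_right j) h1 h2'
  rw [hw1, one_mul, mul_inv_eq_iff_eq_mul] at key
  have hnc : n = ⁅k0, a⁆ := by simp [hn, hk', hk, commutatorElement_def, mul_assoc]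
  rw [← hnc]
  exact key.symm

theorem le_centralizer_of_class_two (hA : IsPGroup p A) (hK : (Nat.card K).Coprime p)
    (hR : IsPGroup p R) (hAR : A ≤ normalizer (R : Set G)) (hKR : K ≤ normalizer (R : Set G))
    (hAK : A ≤ normalizer (K : Set G))
    (h2 : ∀ a ∈ R ⊔ A, ∀ b ∈ R ⊔ A, ∀ c ∈ R ⊔ A, Commute ⁅a, b⁆ c)
    (hC : R ⊓ centralizer (A : Set G) ≤ centralizer (K : Set G)) :
    K ≤ centralizer (R : Set G) := by
  obtain ⟨i, hi⟩ := hA.exists_card_eq
  rw [← CfsgLib.Solvable.commutator_sup_centralizer hAK (hi ▸ (hK.pow_right i).symm)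
    (Or.inl (by haveI := hA.isNilpotent; infer_instance))]
  refine sup_le (conj_fix_of_class_two Fact.out hK hR hAR hKR hAK h2 hC) ?_
  exact CfsgLib.Solvable.thompson_pxq hA (hK.coprime_dvd_left (card_dvd_of_le inf_le_left)) hR
    (le_centralizer_iff.1 inf_le_right) hAR (inf_le_left.trans hKR)
    (hC.trans (centralizer_le inf_le_left))

theorem le_centralizer_of_odd (hp : Odd p) (hA : IsPGroup p A) (hK : (Nat.card K).Coprime p)
    (hR : IsPGroup p R) (hAR : A ≤ normalizer (R : Set G)) (hKR : K ≤ normalizer (R : Set G))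
    (hAK : A ≤ normalizer (K : Set G))
    (hC : R ⊓ centralizer (A : Set G) ≤ centralizer (K : Set G)) :
    K ≤ centralizer (R : Set G) := by
  induction hn : Nat.card R using Nat.strong_induction_on generalizing R with
  | _ n ih =>
  subst hn
  have hsmall : ∀ S < R, A ≤ normalizer (S : Set G) → K ≤ normalizer (S : Set G) →
      K ≤ centralizer (S : Set G) := fun S hS h1 h2 =>
    ih _ (Set.Finite.card_lt_card (Set.toFinite _) hS) (hR.to_le hS.le) h1 h2
      ((inf_le_inf_right _ hS.le).trans hC) rfl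
  have hbot : ∀ S : Subgroup G, K ≤ centralizer (S : Set G) ↔ ⁅S, K⁆ = ⊥ := fun S => by
    rw [commutator_eq_bot_iff_le_centralizer, le_centralizer_iff]
  rw [hbot]
  have hle : ⁅R, K⁆ ≤ R := CfsgLib.Solvable.commutator_le_of_normalizes hKR
  rcases eq_or_lt_of_le hle with heq | hlt
  swap
  · have hinv : A ≤ normalizer ((⁅R, K⁆ : Subgroup G) : Set G) := fun a ha => by
      rw [mem_normalizer_iff_map_conj_eq, Subgroup.map_commutator,
        mem_normalizer_iff_map_conj_eq.1 (hAR ha), mem_normalizer_iff_map_conj_eq.1 (hAK ha)]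
    have h := (hbot _).1 (hsmall _ hlt hinv (CfsgLib.Solvable.le_normalizer_commutator_right R K))
    obtain ⟨i, hi⟩ := hR.exists_card_eq
    rwa [CfsgLib.Solvable.commutator_commutator_eq hKR (hi ▸ hK.pow_right i)
      (Or.inr (by haveI := hR.isNilpotent; infer_instance))] at h
  rcases eq_or_ne R ⊥ with hR1 | hR1
  · rw [hR1, commutator_bot_left]
  have hD : ⁅R, R⁆ < R := by
    refine lt_of_le_of_ne (commutator_le.2 fun g₁ h₁ g₂ h₂ =>
      mul_mem (mul_mem (mul_mem h₁ h₂) (inv_mem h₁)) (inv_mem h₂)) fun h => ?_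
    haveI : Nontrivial R := (Subgroup.nontrivial_iff_ne_bot _).2 hR1
    haveI := hR.isNilpotent
    have hlt : commutator R < ⊤ :=
      (inferInstance : Group.IsSolvable R).commutator_lt_top_of_nontrivial R
    refine hlt.ne (Subgroup.map_injective R.subtype_injective ?_)
    rw [map_subtype_commutator, h, ← MonoidHom.range_eq_map, range_subtype]
  have hinvD : ∀ H : Subgroup G, H ≤ normalizer (R : Set G) →
      H ≤ normalizer ((⁅R, R⁆ : Subgroup G) : Set G) := fun H hH a ha => by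
    rw [mem_normalizer_iff_map_conj_eq, Subgroup.map_commutator,
      mem_normalizer_iff_map_conj_eq.1 (hH ha)]
  have hDK := (hbot _).1 (hsmall _ hD (hinvD A hAR) (hinvD K hKR))
  have hDR : ⁅⁅R, K⁆, ⁅R, R⁆⁆ = ⊥ := by
    refine commutator_commutator_eq_bot_of_rotate ?_ ?_
    · rw [commutator_comm K, hDK, commutator_bot_left]
    · rw [← le_bot_iff]
      refine le_trans (commutator_mono ?_ le_rfl) hDK.le
      exact CfsgLib.Solvable.commutator_le_of_normalizes (hinvD R le_normalizer)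
  rw [heq, commutator_eq_bot_iff_le_centralizer] at hDR
  have hcl : ∀ a b c : R, Commute ⁅a, b⁆ c := fun a b c => Subtype.ext
    ((hDR c.2 _ (commutator_mem_commutator a.2 b.2)))
  rw [← hbot]
  intro k hk x hx
  have h := baer_fixed hR hp hcl hA hK
    (R.normalizerMonoidHom.comp (inclusion hAR)) (R.normalizerMonoidHom.comp (inclusion hKR))
    (fun a => ⟨(K.normalizerMonoidHom (inclusion hAK a)).toEquiv, fun k x => Subtype.ext (by
      show (a : G) * (k * x * (k : G)⁻¹) * (a : G)⁻¹ =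
        ((a : G) * k * (a : G)⁻¹) * (a * x * (a : G)⁻¹) * ((a : G) * k * (a : G)⁻¹)⁻¹
      group)⟩)
    (fun x hfix k => Subtype.ext (by
      show (k : G) * x * (k : G)⁻¹ = x
      rw [mul_inv_eq_iff_eq_mul]
      exact (hC ⟨x.2, fun a ha => mul_inv_eq_iff_eq_mul.1
        (congrArg Subtype.val (hfix ⟨a, ha⟩))⟩) k k.2))
    ⟨k, hk⟩ ⟨x, hx⟩
  exact (mul_inv_eq_iff_eq_mul.1 (congrArg Subtype.val h)).symm

theorem isPConstrained_of_solvable {H : Type*} [Group H] [Finite H] [Group.IsSolvable H]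
    (p : ℕ) [Fact p.Prime] : Cfsg.IsPConstrained p H :=
  (CfsgLib.PLoc.isPConstrained_iff_of_surjective (QuotientGroup.mk'_surjective _)
    (QuotientGroup.ker_mk' _)).2 (centralizer_pCore_le_of_solvable
      (CfsgLib.PLoc.pPrimeCore_quotient_eq_bot (QuotientGroup.mk'_surjective _)
        (QuotientGroup.ker_mk' _)))

set_option maxHeartbeats 1000000 in
/-- In a p-constrained group, the p'-subgroups normalised by an abelian p-subgroup `A` containing
all p-elements of its centralizer lie in the p'-core. -/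
theorem invariant_le_pPrimeCore (hc : Cfsg.IsPConstrained p G) [IsMulCommutative A]
    (hA : IsPGroup p A)
    (hfull : ∀ x ∈ centralizer (A : Set G), IsPGroup p (zpowers x) → x ∈ A)
    (h2 : p = 2 → ∀ S : Subgroup G, IsPGroup p S →
      ∀ a ∈ S, ∀ b ∈ S, ∀ c ∈ S, Commute ⁅a, b⁆ c)
    (hK : (Nat.card K).Coprime p) (hAK : A ≤ normalizer (K : Set G)) :
    K ≤ Cfsg.pPrimeCore p G := by
  set f := QuotientGroup.mk' (Cfsg.pPrimeCore p G) with hf
  have hsurj : Function.Surjective f := QuotientGroup.mk'_surjective _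
  have hker : f.ker = Cfsg.pPrimeCore p G := QuotientGroup.ker_mk' _
  have hcop : (Nat.card f.ker).Coprime p := by rw [hker]; exact CfsgLib.PLoc.pPrimeCore_coprime p
  have hcR := (CfsgLib.PLoc.isPConstrained_iff_of_surjective hsurj hker).1 hc
  set R := Cfsg.pCore p (G ⧸ Cfsg.pPrimeCore p G) with hRdef
  have hR : IsPGroup p R := CfsgLib.PLoc.pCore_pgroup p _
  have hnR : normalizer (R : Set (G ⧸ Cfsg.pPrimeCore p G)) = ⊤ := normalizer_eq_top_iff.2
    (CfsgLib.Solvable.pCore_normal p _)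
  have hKf : (Nat.card (K.map f)).Coprime p := hK.coprime_dvd_left (card_map_dvd K f)
  have hAKf : A.map f ≤ normalizer ((K.map f : Subgroup _) : Set (G ⧸ Cfsg.pPrimeCore p G)) :=
    (map_mono hAK).trans (le_normalizer_map f)
  have hRC : R ⊓ centralizer ((A.map f : Subgroup _) : Set (G ⧸ Cfsg.pPrimeCore p G)) ≤
      A.map f := by
    rintro y ⟨hyR, hyC⟩
    rw [CfsgLib.PLoc.centralizer_map_eq hsurj hcop hA] at hyC
    obtain ⟨x, hx, rfl⟩ := hyC
    obtain ⟨i, hi⟩ := hR.exists_card_eq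
    set m := orderOf x / p ^ (orderOf x).factorization p with hm
    have hmcop : (orderOf (f x)).Coprime m :=
      (((Nat.coprime_ordCompl Fact.out (orderOf_pos x).ne').pow_left i).coprime_dvd_left
        (hi ▸ R.orderOf_dvd_natCard hyR))
    have hxm : x ^ m ∈ A := hfull _ (pow_mem hx m) (IsPGroup.of_card
      (n := (orderOf x).factorization p) (by
        rw [Nat.card_zpowers, orderOf_pow' x (Nat.div_pos (Nat.ordProj_le p (orderOf_pos x).ne')
          (pow_pos (Fact.out (p := p.Prime)).pos _)).ne']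
        rw [Nat.gcd_eq_right (Nat.ordCompl_dvd _ _),
          Nat.div_div_self (Nat.ordProj_dvd _ _) (orderOf_pos x).ne']))
    obtain ⟨j, hj⟩ := exists_pow_eq_self_of_coprime hmcop.symm
    exact ⟨(x ^ m) ^ j, pow_mem hxm j, by rw [map_pow, map_pow, hj]⟩
  have hC : R ⊓ centralizer ((A.map f : Subgroup _) : Set (G ⧸ Cfsg.pPrimeCore p G)) ≤
      centralizer ((K.map f : Subgroup _) : Set (G ⧸ Cfsg.pPrimeCore p G)) := by
    intro y hy k hk
    have hyR : y ∈ R := hy.1
    have h1 : k * y * k⁻¹ * y⁻¹ ∈ R ⊓ K.map f := ⟨R.mul_mem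
        ((mem_normalizer_iff.1 (hnR ▸ mem_top k) y).1 hyR) (R.inv_mem hyR), by
      rw [mul_assoc, mul_assoc]
      refine mul_mem hk ?_
      rw [← mul_assoc]
      exact (mem_normalizer_iff.1 (hAKf (hRC hy)) _).1 (inv_mem hk)⟩
    rw [CfsgLib.PLoc.disjoint_of_pgroup_coprime hR hKf, mem_bot] at h1
    calc k * y = (k * y * k⁻¹ * y⁻¹) * (y * k) := by group
      _ = y * k := by rw [h1, one_mul]
  have hKC : K.map f ≤ centralizer (R : Set (G ⧸ Cfsg.pPrimeCore p G)) := by
    rcases (Fact.out (p := p.Prime)).eq_two_or_odd' with hp2 | hodd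
    · refine le_centralizer_of_class_two (hA.map f) hKf hR (hnR ▸ le_top) (hnR ▸ le_top) hAKf
        ?_ hC
      obtain ⟨S, hS⟩ := (IsPGroup.to_sup_of_normal_left hR (hA.map f)).exists_le_sylow
      obtain ⟨T, hT⟩ := Sylow.mapSurjective_surjective hsurj p S
      intro a ha b hb c hc'
      have hST : (S : Subgroup _) = (T : Subgroup G).map f := by rw [← hT]; rfl
      have hlift : ∀ u ∈ R ⊔ A.map f, ∃ v ∈ (T : Subgroup G), f v = u := fun u hu => by
        have := hS hu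
        rw [hST] at this
        exact this
      obtain ⟨a', ha', rfl⟩ := hlift a ha
      obtain ⟨b', hb', rfl⟩ := hlift b hb
      obtain ⟨c', hc'', rfl⟩ := hlift c hc'
      rw [← map_commutatorElement]
      exact (h2 hp2 (T : Subgroup G) T.2 a' ha' b' hb' c' hc'').map f
    · exact le_centralizer_of_odd hodd (hA.map f) hKf hR (hnR ▸ le_top) (hnR ▸ le_top) hAKf hC
  have hbot : K.map f = ⊥ := by
    have h := CfsgLib.PLoc.disjoint_of_pgroup_coprime hR hKf
    rwa [inf_eq_right.2 (hKC.trans hcR)] at h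
  rwa [Subgroup.map_eq_bot_iff, hker] at hbot

end CfsgLib.Case
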