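import Cfsg.Prelude.Def_CaseTheorems
import Mathlib.GroupTheory.PGroup
import Mathlib.Data.Set.Card

set_option autoImplicit false

/-!
Klein four-subgroups: construction from two commuting involutions, the adjacency relation of the
commuting graph, existence in groups of 2-rank at least 2.
-/

namespace CfsgLib.Case

variable {G : Type*} [Group G]

/-- The subgroup `{1, a, b, ab}` of two commuting elements of square one. -/
def fourSub (a b : G) (ha : a * a = 1) (hb : b * b = 1) (hc : a * b = b * a) : Subgroup G where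
  carrier := {1, a, b, a * b}
  mul_mem' := by
    intro x y hx hy
    have h1 : a * (a * b) = b := by rw [← mul_assoc, ha, one_mul]
    have h2 : b * (a * b) = a := by rw [hc, ← mul_assoc, hb, one_mul]
    have h3 : a * b * a = b := by rw [hc, mul_assoc, ha, mul_one]
    have h4 : a * b * b = a := by rw [mul_assoc, hb, mul_one]
    have h5 : a * b * (a * b) = 1 := by rw [← mul_assoc, h3, hb]
    simp only [Set.mem_insert_iff, Set.mem_singleton_iff] at hx hy ⊢
    rcases hx with rfl | rfl | rfl | rfl <;> rcases hy with rfl | rfl | rfl | rfl <;>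
      simp [ha, hb, h1, h2, h3, h4, h5, hc.symm]
  one_mem' := by simp
  inv_mem' := by
    intro x hx
    have hai : a⁻¹ = a := inv_eq_of_mul_eq_one_right ha
    have hbi : b⁻¹ = b := inv_eq_of_mul_eq_one_right hb
    simp only [Set.mem_insert_iff, Set.mem_singleton_iff] at hx ⊢
    rcases hx with rfl | rfl | rfl | rfl <;> simp [hai, hbi, mul_inv_rev, hc]

theorem mem_fourSub {a b : G} {ha : a * a = 1} {hb : b * b = 1} {hc : a * b = b * a} {x : G} :
    x ∈ fourSub a b ha hb hc ↔ x = 1 ∨ x = a ∨ x = b ∨ x = a * b := by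
  show x ∈ ({1, a, b, a * b} : Set G) ↔ _
  simp

theorem fourSub_le {a b : G} {ha : a * a = 1} {hb : b * b = 1} {hc : a * b = b * a} {H : Subgroup G}
    (h1 : a ∈ H) (h2 : b ∈ H) : fourSub a b ha hb hc ≤ H := by
  intro x hx
  rcases mem_fourSub.1 hx with rfl | rfl | rfl | rfl
  · exact one_mem H
  · exact h1
  · exact h2
  · exact mul_mem h1 h2

theorem isKleinFour_fourSub {a b : G} {ha : a * a = 1} {hb : b * b = 1} {hc : a * b = b * a}
    (ha1 : a ≠ 1) (hb1 : b ≠ 1) (hab : a ≠ b) : IsKleinFour (fourSub a b ha hb hc) := by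
  have hcard : Nat.card (fourSub a b ha hb hc) = 4 := by
    have hset : ((fourSub a b ha hb hc : Subgroup G) : Set G) = {1, a, b, a * b} := rfl
    have hab1 : a * b ≠ 1 := fun h => hab ((inv_eq_of_mul_eq_one_right h).symm.trans
      (inv_eq_of_mul_eq_one_right ha)).symm
    have ha' : a ≠ a * b := by simpa using hb1
    have hb' : b ≠ a * b := by simpa using ha1
    rw [← SetLike.coe_sort_coe, Nat.card_coe_set_eq, hset,
      Set.ncard_insert_of_notMem (by simp [ha1.symm, hb1.symm, hab1.symm]),
      Set.ncard_insert_of_notMem (by simp [hab, ha']), Set.ncard_pair hb']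
  have : Finite (fourSub a b ha hb hc) := Nat.finite_of_card_ne_zero (by omega)
  have : Nontrivial (fourSub a b ha hb hc) := Finite.one_lt_card_iff_nontrivial.1 (by omega)
  refine ⟨hcard, ?_⟩
  rw [Monoid.exponent_eq_prime_iff (by norm_num : Nat.Prime 2)]
  intro x hx
  refine orderOf_eq_prime ?_ hx
  apply Subtype.ext
  rw [Subgroup.coe_pow, Subgroup.coe_one, sq]
  rcases mem_fourSub.1 x.2 with h | h | h | h <;> rw [h]
  · simp
  · exact ha
  · exact hb
  · rw [← mul_assoc, hc, mul_assoc b a a, ha, mul_one, hb]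

/-- Adjacency in the commuting graph of four-subgroups. -/
def FourAdj (A B : Subgroup G) : Prop :=
  IsKleinFour A ∧ IsKleinFour B ∧ ∀ a ∈ A, ∀ b ∈ B, a * b = b * a

theorem fourAdj_symm {A B : Subgroup G} (h : FourAdj A B) : FourAdj B A :=
  ⟨h.2.1, h.1, fun b hb a ha => (h.2.2 a ha b hb).symm⟩

theorem fourPath_symm {A B : Subgroup G} (h : Relation.ReflTransGen FourAdj A B) :
    Relation.ReflTransGen FourAdj B A := by
  induction h with
  | refl => exact Relation.ReflTransGen.refl
  | tail _ h2 ih => exact Relation.ReflTransGen.head (fourAdj_symm h2) ih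

theorem isFourConnected_iff :
    Cfsg.IsFourConnected G ↔ ∀ U V : Subgroup G, IsKleinFour U → IsKleinFour V →
      Relation.ReflTransGen FourAdj U V := Iff.rfl

theorem klein_mul_self {V : Subgroup G} (hV : IsKleinFour V) {x : G} (hx : x ∈ V) : x * x = 1 := by
  haveI := hV
  exact congrArg Subtype.val (IsKleinFour.mul_self (⟨x, hx⟩ : V))

theorem klein_comm {V : Subgroup G} (hV : IsKleinFour V) {x y : G} (hx : x ∈ V) (hy : y ∈ V) :
    x * y = y * x := by
  haveI := hV
  have := IsKleinFour.isMulCommutative (G := V)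
  exact congrArg Subtype.val (this.1.comm (⟨x, hx⟩ : V) ⟨y, hy⟩)

theorem klein_exists_ne_ne {V : Subgroup G} (hV : IsKleinFour V) (z : G) :
    ∃ x ∈ V, x ≠ 1 ∧ x ≠ z := by
  by_contra! h
  have hsub : (V : Set G) ⊆ {1, z} := by
    intro x hx
    by_cases hx1 : x = 1
    · exact Or.inl hx1
    · exact Or.inr (h x hx hx1)
  have h4 : (V : Set G).ncard = 4 := by
    rw [← Nat.card_coe_set_eq]
    exact hV.card_four
  have := Set.ncard_le_ncard hsub
  have := Set.ncard_insert_le 1 ({z} : Set G)
  simp at this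
  omega

/-- A group of 2-rank at least 2 contains a Klein four-subgroup. -/
theorem exists_klein_of_not_rankLE [Finite G] (h : ¬ Cfsg.PRankLE 2 1 G) :
    ∃ V : Subgroup G, IsKleinFour V := by
  unfold Cfsg.PRankLE at h
  push Not at h
  obtain ⟨A, hA, hA2, hA3⟩ := h
  obtain ⟨a, haA, ha1⟩ : ∃ a ∈ A, a ≠ 1 := by
    by_contra! h
    have : A = ⊥ := (Subgroup.eq_bot_iff_forall _).2 h
    subst this
    simp at hA3
  obtain ⟨b, hbA, hb1, hba⟩ : ∃ b ∈ A, b ≠ 1 ∧ b ≠ a := by
    by_contra! h
    have hsub : (A : Set G) ⊆ {1, a} := fun x hx => by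
      by_cases hx1 : x = 1
      · exact Or.inl hx1
      · exact Or.inr (h x hx hx1)
    have h4 : 2 < (A : Set G).ncard := by
      rw [← Nat.card_coe_set_eq]
      simpa using hA3
    have := Set.ncard_le_ncard hsub
    have := Set.ncard_insert_le 1 ({a} : Set G)
    simp at this
    omega
  exact ⟨_, isKleinFour_fourSub (ha := by rw [← sq]; exact hA2 a haA)
    (hb := by rw [← sq]; exact hA2 b hbA)
    (hc := congrArg Subtype.val (hA.1.comm (⟨a, haA⟩ : A) ⟨b, hbA⟩)) ha1 hb1 hba.symm⟩

end CfsgLib.Case
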