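import Cfsg.Agent.Lib.PGroup.Basic
import Cfsg.Agent.Lib.PGroup.CyclicMaximal
import Cfsg.Agent.Lib.Case.FourGroups
import Cfsg.Agent.Lib.Case.TwoNilpotent
import Mathlib.Tactic.Linarith
import Cfsg.Agent.Lib.TwoFusion.DihedralIso
import Mathlib.GroupTheory.SpecificGroups.Quaternion
import Mathlib.GroupTheory.SpecificGroups.Dihedral

set_option autoImplicit false

/-!
A finite p-group all of whose abelian normal subgroups are cyclic is cyclic, or is a 2-group of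
dihedral (order at least 16), generalized quaternion or quasidihedral type.
-/

namespace CfsgLib.Case

open scoped commutatorElement

variable {P : Type*} [Group P] [Finite P] {p : ℕ} [hp : Fact p.Prime]

/-- A cyclic maximal abelian normal subgroup `⟨a⟩` of a p-group, with the facts used below. -/
structure CyclicAxis (p : ℕ) (a : P) : Prop where
  normal : (Subgroup.zpowers a).Normal
  self_cent : ∀ g : P, Commute g a → g ∈ Subgroup.zpowers a
  comm_mem : ∀ g h : P, ⁅g, h⁆ ∈ Subgroup.zpowers a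

omit [Finite P] hp in
theorem CyclicAxis.exists_pow {a : P} (h : CyclicAxis p a) (g : P) :
    ∃ r : ℤ, g * a * g⁻¹ = a ^ r := by
  obtain ⟨r, hr⟩ := Subgroup.mem_zpowers_iff.1 (h.normal.conj_mem a (Subgroup.mem_zpowers a) g)
  exact ⟨r, hr.symm⟩

omit [Finite P] in
theorem exists_axis (hP : IsPGroup p P) [Finite P]
    (hn : ∀ A : Subgroup P, A.Normal → IsMulCommutative A → IsCyclic A) :
    ∃ a : P, CyclicAxis p a := by
  obtain ⟨A, -, hmx⟩ := (Set.toFinite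
    {A : Subgroup P | A.Normal ∧ IsMulCommutative A}).exists_le_maximal
      (a := ⊥) ⟨inferInstance, inferInstance⟩
  obtain ⟨hAn, hAc⟩ := hmx.prop
  have hmax : ∀ B ∈ {A : Subgroup P | A.Normal ∧ IsMulCommutative A}, A ≤ B → B = A :=
    fun B hB hle => le_antisymm (hmx.le_of_ge hB hle) hle
  haveI := hAn
  have hC := CfsgLib.PGroup.centralizer_eq_of_maximal_normal_abelian hP A hAc
    (fun B h1 h2 hle => hmax B ⟨h1, h2⟩ hle)
  obtain ⟨a₀, ha₀⟩ := (hn A hAn hAc).exists_generator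
  have hA : A = Subgroup.zpowers (a₀ : P) := by
    refine le_antisymm (fun x hx => ?_) (Subgroup.zpowers_le.2 a₀.2)
    obtain ⟨i, hi⟩ := Subgroup.mem_zpowers_iff.1 (ha₀ ⟨x, hx⟩)
    exact ⟨i, congrArg Subtype.val hi⟩
  obtain ⟨a, ha⟩ : ∃ a : P, a = (a₀ : P) := ⟨_, rfl⟩
  rw [← ha] at hA
  clear ha ha₀ a₀
  subst hA
  refine ⟨a, ⟨hAn, fun g hg => ?_, fun g h => ?_⟩⟩
  · rw [← hC]
    intro x hx
    obtain ⟨i, rfl⟩ := Subgroup.mem_zpowers_iff.1 hx
    exact ((hg.zpow_right i).eq).symm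
  · rw [← hC]
    -- automorphisms of a cyclic group commute
    intro x hx
    obtain ⟨i, rfl⟩ := Subgroup.mem_zpowers_iff.1 hx
    obtain ⟨r, hr⟩ := Subgroup.mem_zpowers_iff.1 (hAn.conj_mem a (Subgroup.mem_zpowers a) g)
    obtain ⟨s, hs⟩ := Subgroup.mem_zpowers_iff.1 (hAn.conj_mem a (Subgroup.mem_zpowers a) h)
    have key : Commute ⁅g, h⁆ a := by
      have e1 : ∀ n : ℤ, (g * h) * a ^ n * (g * h)⁻¹ = (h * g) * a ^ n * (h * g)⁻¹ := by
        intro n
        calc (g * h) * a ^ n * (g * h)⁻¹ = MulAut.conj g (MulAut.conj h (a ^ n)) := by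
              simp [mul_assoc]
          _ = ((a ^ r) ^ s) ^ n := by
              rw [map_zpow, map_zpow, MulAut.conj_apply h, ← hs, map_zpow, MulAut.conj_apply g, hr]
          _ = ((a ^ s) ^ r) ^ n := by rw [← zpow_mul a r s, ← zpow_mul a s r, mul_comm r]
          _ = MulAut.conj h (MulAut.conj g (a ^ n)) := by
              rw [map_zpow, map_zpow, MulAut.conj_apply g, ← hr, map_zpow, MulAut.conj_apply h, hs]
          _ = (h * g) * a ^ n * (h * g)⁻¹ := by simp [mul_assoc]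
      obtain ⟨n, hn'⟩ := Subgroup.mem_zpowers_iff.1
        (hAn.conj_mem a (Subgroup.mem_zpowers a) (h * g)⁻¹)
      rw [inv_inv] at hn'
      show ⁅g, h⁆ * a = a * ⁅g, h⁆
      rw [← mul_inv_eq_iff_eq_mul, commutatorElement_def]
      calc g * h * g⁻¹ * h⁻¹ * a * (g * h * g⁻¹ * h⁻¹)⁻¹
          = (g * h) * a ^ n * (g * h)⁻¹ := by rw [hn']; group
        _ = (h * g) * a ^ n * (h * g)⁻¹ := e1 n
        _ = a := by rw [hn']; group
    exact ((key.zpow_right i).eq).symm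

omit [Finite P] hp in
theorem involution_eq_of_cyclic' [Finite P] {a x y : P} (hx : x ∈ Subgroup.zpowers a)
    (hy : y ∈ Subgroup.zpowers a) (hx2 : orderOf x = 2) (hy2 : orderOf y = 2) : x = y :=
  involution_eq_of_cyclic (K := Subgroup.zpowers a) inferInstance hx hy hx2 hy2

omit hp in
theorem CyclicAxis.sup_normal {a : P} (h : CyclicAxis p a) (g : P) :
    (Subgroup.zpowers a ⊔ Subgroup.zpowers g).Normal := by
  haveI := h.normal
  exact CfsgLib.PGroup.sup_zpowers_normal (h.comm_mem g)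

/-- For odd `p` such a group is cyclic. -/
theorem eq_top_of_odd (hP : IsPGroup p P) (hp2 : p ≠ 2)
    (hn : ∀ A : Subgroup P, A.Normal → IsMulCommutative A → IsCyclic A) {a : P}
    (hax : CyclicAxis p a) : Subgroup.zpowers a = ⊤ := by
  by_contra hne
  haveI := hax.normal
  obtain ⟨x, -, hxA, hxp, hxc⟩ :=
    CfsgLib.PGroup.exists_step hP (Subgroup.zpowers a) ⊤ (lt_top_iff_ne_top.2 hne)
  obtain ⟨M, hM⟩ : ∃ M, M = Subgroup.zpowers a ⊔ Subgroup.zpowers x := ⟨_, rfl⟩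
  haveI : M.Normal := hM ▸ hax.sup_normal x
  have haM : Subgroup.zpowers a ≤ M := hM ▸ le_sup_left
  have hxM : x ∈ M := hM ▸ Subgroup.mem_sup_right (Subgroup.mem_zpowers x)
  have hnc : ¬ IsCyclic M := by
    intro hc
    obtain ⟨g, hg⟩ := hc.exists_generator
    obtain ⟨i, hi⟩ := Subgroup.mem_zpowers_iff.1 (hg ⟨x, hxM⟩)
    obtain ⟨j, hj⟩ := Subgroup.mem_zpowers_iff.1 (hg ⟨a, haM (Subgroup.mem_zpowers a)⟩)
    refine hxA (hax.self_cent x ?_)
    rw [← show ((g : P) ^ i) = x from congrArg Subtype.val hi,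
      ← show ((g : P) ^ j) = a from congrArg Subtype.val hj]
    exact ((Commute.refl (g : P)).zpow_left i).zpow_right j
  have hidx : ((Subgroup.zpowers a).subgroupOf M).index = p := by
    have h1 := ((Subgroup.zpowers a).subgroupOf M).card_mul_index
    rw [Nat.card_congr (Subgroup.subgroupOfEquivOfLe haM).toEquiv] at h1
    rw [hM, CfsgLib.PGroup.card_sup_zpowers (p := p) hxA hxp, ← hM, mul_comm p] at h1
    exact Nat.eq_of_mul_eq_mul_left Nat.card_pos h1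
  obtain ⟨K, hK, hKmem⟩ := CfsgLib.PGroup.omega_of_cyclic_index_prime hp2 (hP.to_subgroup M) hnc
    ((Subgroup.zpowers a).subgroupOf M)
    ((Subgroup.subgroupOfEquivOfLe haM).isCyclic.2 inferInstance) hidx
  have hKP : (K.map M.subtype).Normal := by
    refine ⟨fun k hk g => ?_⟩
    obtain ⟨k', hk', rfl⟩ := hk
    refine ⟨⟨g * k' * g⁻¹, (inferInstance : M.Normal).conj_mem _ k'.2 g⟩, (hKmem _).2 ?_, rfl⟩
    apply Subtype.ext
    show (g * k'.1 * g⁻¹) ^ p = 1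
    rw [conj_pow, show (k'.1 : P) ^ p = 1 from congrArg Subtype.val ((hKmem k').1 hk'), mul_one,
      mul_inv_cancel]
  haveI := IsPGroup.isMulCommutative_of_card_eq_prime_sq (p := p) (G := K.map M.subtype)
    (by rw [Subgroup.card_subtype, hK])
  obtain ⟨g, hg⟩ := (hn _ hKP inferInstance).exists_ofOrder_eq_natCard
  rw [Subgroup.card_subtype, hK] at hg
  have hgp : orderOf g ∣ p := by
    obtain ⟨_, k', hk', rfl⟩ := g
    refine orderOf_dvd_of_pow_eq_one (Subtype.ext ?_)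
    exact congrArg (fun t : M => (t : P)) ((hKmem k').1 hk')
  rw [hg] at hgp
  have := Nat.le_of_dvd hp.out.pos hgp
  have := hp.out.two_le
  nlinarith

/-! ### The prime two -/

variable {a : P}

theorem zpow_eq_iff_two {m : ℕ} (hm : orderOf a = 2 ^ m) {i j : ℤ} :
    a ^ i = a ^ j ↔ (2 : ℤ) ^ m ∣ i - j := by
  rw [← orderOf_dvd_sub_iff_zpow_eq_zpow, hm]
  push_cast
  rfl

omit [Finite P] hp in
theorem conj_zpow_axis {h : P} {r : ℤ} (hr : h * a * h⁻¹ = a ^ r) (t : ℤ) :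
    h * a ^ t * h⁻¹ = a ^ (r * t) := by
  rw [← conj_zpow, hr, zpow_mul]

/-- No involutory element acts on the axis like `a ↦ a ^ (1 + 2 ^ (m - 1))`. -/
theorem no_modular (hn : ∀ A : Subgroup P, A.Normal → IsMulCommutative A → IsCyclic A)
    (hax : CyclicAxis p a) {m : ℕ} (hm : orderOf a = 2 ^ (m + 3)) {h : P}
    (hh : h ∉ Subgroup.zpowers a) (hh2 : h ^ 2 ∈ Subgroup.zpowers a)
    (hr : h * a * h⁻¹ = a ^ (1 + 2 * (2 : ℤ) ^ (m + 1))) : False := by
  obtain ⟨H, hH⟩ : ∃ H : ℤ, H = (2 : ℤ) ^ (m + 1) := ⟨_, rfl⟩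
  rw [← hH] at hr
  have hiff : ∀ {i j : ℤ}, a ^ i = a ^ j ↔ 4 * H ∣ i - j := fun {i j} => by
    rw [zpow_eq_iff_two hm, hH, show (2 : ℤ) ^ (m + 3) = 4 * 2 ^ (m + 1) by ring]
  have hH0 : H ≠ 0 := by rw [hH]; positivity
  have hHev : (2 : ℤ) ∣ H := hH ▸ dvd_pow_self 2 (by omega)
  obtain ⟨j, hj⟩ := Subgroup.mem_zpowers_iff.1 hh2
  -- the square is an even power
  obtain ⟨i, rfl⟩ : (2 : ℤ) ∣ j := by
    have e1 : a ^ ((1 + 2 * H) * j) = a ^ j := by
      rw [← conj_zpow_axis hr, hj]; group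
    rw [hiff, show (1 + 2 * H) * j - j = 2 * H * j by ring,
      show 4 * H = 2 * H * 2 by ring] at e1
    exact (mul_dvd_mul_iff_left (mul_ne_zero two_ne_zero hH0)).1 e1
  obtain ⟨y, hy⟩ : ∃ y, y = h * a ^ (-i * (1 - H)) := ⟨_, rfl⟩
  have hyA : y ∉ Subgroup.zpowers a := fun hc => hh (by
    rw [hy] at hc
    simpa using mul_mem hc (inv_mem (Subgroup.zpow_mem_zpowers a (-i * (1 - H)))))
  have hya : ∀ s : ℤ, y * a ^ s * y⁻¹ = a ^ ((1 + 2 * H) * s) := by
    intro s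
    rw [← conj_zpow_axis hr, hy]
    group
  have hy2 : y * y = 1 := by
    calc y * y = (h * a ^ (-i * (1 - H)) * h⁻¹) * h ^ 2 * a ^ (-i * (1 - H)) := by
          rw [hy, sq]; group
      _ = a ^ ((1 + 2 * H) * (-i * (1 - H)) + 2 * i + (-i * (1 - H))) := by
          rw [conj_zpow_axis hr, ← hj, zpow_add, zpow_add]
      _ = a ^ (0 : ℤ) := by
          rw [hiff]
          obtain ⟨c, hc⟩ := hHev
          exact ⟨i * c, by rw [hc]; ring⟩
      _ = 1 := zpow_zero a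
  obtain ⟨z, hz⟩ : ∃ z, z = a ^ (2 * H) := ⟨_, rfl⟩
  have hz1 : z ≠ 1 := by
    rw [hz, ← zpow_zero a, Ne, hiff, sub_zero]
    intro hd
    rw [show 4 * H = 2 * H * 2 by ring] at hd
    have h1 : (2 * H * 2) ∣ 2 * H * 1 := by rwa [mul_one]
    exact absurd ((mul_dvd_mul_iff_left (mul_ne_zero two_ne_zero hH0)).1 h1) (by norm_num)
  have hz2 : z * z = 1 := by
    rw [hz, ← zpow_add, ← zpow_zero a, hiff]
    exact ⟨1, by ring⟩
  have hzo : orderOf z = 2 := orderOf_eq_prime (by rw [sq]; exact hz2) hz1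
  have hzA : z ∈ Subgroup.zpowers a := hz ▸ Subgroup.zpow_mem_zpowers a _
  have hzc : ∀ g : P, g * z * g⁻¹ = z := fun g =>
    involution_eq_of_cyclic' (hax.normal.conj_mem z hzA g) hzA
      (by rw [← MulAut.conj_apply, MulEquiv.orderOf_eq, hzo]) hzo
  have hzy : z * y = y * z := (mul_inv_eq_iff_eq_mul.1 (hzc y)).symm
  have hy1 : y ≠ 1 := fun hc => hyA (hc ▸ one_mem _)
  have hzy' : z ≠ y := fun hc => hyA (hc ▸ hzA)
  obtain ⟨E, hE⟩ : ∃ E, E = fourSub z y hz2 hy2 hzy := ⟨_, rfl⟩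
  have hEK : IsKleinFour E := hE ▸ isKleinFour_fourSub hz1 hy1 hzy'
  have hzE : z ∈ E := hE ▸ mem_fourSub.2 (Or.inr (Or.inl rfl))
  have hyE : y ∈ E := hE ▸ mem_fourSub.2 (Or.inr (Or.inr (Or.inl rfl)))
  have hEn : E.Normal := by
    refine ⟨fun e he g => ?_⟩
    have hgy : g * y * g⁻¹ ∈ E := by
      obtain ⟨s, hs⟩ := Subgroup.mem_zpowers_iff.1 (hax.comm_mem g y)
      have hgy' : g * y * g⁻¹ = a ^ s * y := by rw [hs, commutatorElement_def]; group
      have hsq : a ^ (s + (1 + 2 * H) * s) = 1 := by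
        rw [zpow_add, ← hya]
        calc a ^ s * (y * a ^ s * y⁻¹) = (a ^ s * y) * (a ^ s * y) * (y * y)⁻¹ := by group
          _ = (g * y * g⁻¹) * (g * y * g⁻¹) := by rw [hgy', hy2, inv_one, mul_one]
          _ = g * (y * y) * g⁻¹ := by group
          _ = 1 := by rw [hy2]; group
      rw [← zpow_zero a, hiff, sub_zero, show s + (1 + 2 * H) * s = 2 * (s * (1 + H)) by ring,
        show 4 * H = 2 * (2 * H) by ring, mul_dvd_mul_iff_left (two_ne_zero (α := ℤ))] at hsq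
      have hcop : IsCoprime (2 * H) (1 + H) := by
        obtain ⟨c, hc⟩ := hHev
        refine IsCoprime.mul_left ⟨-c, 1, by rw [hc]; ring⟩ ⟨-1, 1, by ring⟩
      obtain ⟨k, rfl⟩ := hcop.dvd_of_dvd_mul_right hsq
      rw [hgy', zpow_mul, ← hz]
      exact mul_mem (zpow_mem hzE k) hyE
    rw [hE] at he
    rcases mem_fourSub.1 he with rfl | rfl | rfl | rfl
    · simp
    · rw [hzc]; exact hzE
    · exact hgy
    · rw [show g * (z * y) * g⁻¹ = (g * z * g⁻¹) * (g * y * g⁻¹) by group, hzc]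
      exact mul_mem hzE hgy
  haveI := hEK
  exact IsKleinFour.not_isCyclic (hn E hEn IsKleinFour.isMulCommutative)

/-- An element of order two modulo the axis inverts it modulo the middle power. -/
theorem shape (hn : ∀ A : Subgroup P, A.Normal → IsMulCommutative A → IsCyclic A)
    (hax : CyclicAxis p a) {m : ℕ} (hm : orderOf a = 2 ^ m) {h : P}
    (hh : h ∉ Subgroup.zpowers a) (hh2 : h ^ 2 ∈ Subgroup.zpowers a) {r : ℤ}
    (hr : h * a * h⁻¹ = a ^ r) :
    2 ≤ m ∧ (2 : ℤ) ^ (m - 1) ∣ r + 1 ∧ (4 : ℤ) ∣ r + 1 := by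
  have hr1 : ¬ (2 : ℤ) ^ m ∣ r - 1 := by
    rw [← zpow_eq_iff_two hm, zpow_one, ← hr]
    exact fun hc => hh (hax.self_cent h (mul_inv_eq_iff_eq_mul.1 hc))
  have hrr : (2 : ℤ) ^ m ∣ r * r - 1 := by
    rw [← zpow_eq_iff_two hm, zpow_one]
    obtain ⟨j, hj⟩ := Subgroup.mem_zpowers_iff.1 hh2
    calc a ^ (r * r) = h * a ^ r * h⁻¹ := (conj_zpow_axis hr r).symm
      _ = h ^ 2 * a * (h ^ 2)⁻¹ := by rw [← hr, sq]; group
      _ = a := by rw [← hj]; group
  have hm1 : 1 ≤ m := by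
    by_contra hm0
    rw [show m = 0 by omega, pow_zero] at hr1
    exact hr1 (one_dvd _)
  have hrodd : Odd r := by
    rcases Int.even_or_odd r with he | ho
    · exfalso
      have h2 : (2 : ℤ) ∣ r * r - 1 := (dvd_pow_self 2 (by omega)).trans hrr
      obtain ⟨c, rfl⟩ := he
      obtain ⟨d, hd⟩ := h2
      have : (2 : ℤ) ∣ 1 := ⟨2 * c * c - d, by linarith⟩
      norm_num at this
    · exact ho
  obtain ⟨u, rfl⟩ := hrodd
  have hm2 : 2 ≤ m := by
    by_contra hm2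
    rw [show m = 1 by omega, pow_one] at hr1
    exact hr1 ⟨u, by ring⟩
  obtain ⟨m, rfl⟩ : ∃ k, m = k + 2 := ⟨m - 2, by omega⟩
  rw [show (2 * u + 1) * (2 * u + 1) - 1 = 4 * (u * (u + 1)) by ring,
    show (2 : ℤ) ^ (m + 2) = 4 * 2 ^ m by ring, mul_dvd_mul_iff_left (by norm_num)] at hrr
  refine ⟨hm2, ?_⟩
  have h4 : (2 : ℤ) ^ m ∣ u + 1 → (2 : ℤ) ^ (m + 2 - 1) ∣ 2 * u + 1 + 1 ∧ (4 : ℤ) ∣ 2 * u + 1 + 1 := by
    intro hd
    have h2' : (2 : ℤ) ^ (m + 2 - 1) ∣ 2 * u + 1 + 1 := by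
      rw [show m + 2 - 1 = m + 1 by omega, pow_succ', show 2 * u + 1 + 1 = 2 * (u + 1) by ring]
      exact mul_dvd_mul_left 2 hd
    refine ⟨h2', ?_⟩
    rcases Nat.eq_zero_or_pos m with rfl | hpos
    · rcases Int.even_or_odd u with ⟨c, hc⟩ | ⟨c, hc⟩
      · exact absurd ⟨c, by rw [hc]; ring⟩ hr1
      · exact ⟨c + 1, by rw [hc]; ring⟩
    · refine dvd_trans ?_ h2'
      rw [show (4 : ℤ) = 2 ^ 2 by norm_num]
      exact pow_dvd_pow 2 (by omega)
  by_cases hd : (2 : ℤ) ^ m ∣ u + 1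
  · exact h4 hd
  exfalso
  obtain ⟨m, rfl⟩ : ∃ k, m = k + 1 :=
    ⟨m - 1, by rcases Nat.eq_zero_or_pos m with rfl | h0 <;> [exact absurd (by simp) hd; omega]⟩
  have hu : (2 : ℤ) ^ (m + 1) ∣ u := by
    rcases Int.even_or_odd u with ⟨c, hc⟩ | ⟨c, hc⟩
    · have hcop : IsCoprime ((2 : ℤ) ^ (m + 1)) (u + 1) :=
        IsCoprime.pow_left ⟨-c, 1, by rw [hc]; ring⟩
      exact hcop.dvd_of_dvd_mul_right hrr
    · have hcop : IsCoprime ((2 : ℤ) ^ (m + 1)) u :=
        IsCoprime.pow_left ⟨-c, 1, by rw [hc]; ring⟩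
      exact absurd (hcop.dvd_of_dvd_mul_left hrr) hd
  obtain ⟨w, rfl⟩ := hu
  rcases Int.even_or_odd w with ⟨c, rfl⟩ | ⟨c, rfl⟩
  · exact hr1 ⟨c, by ring⟩
  · refine no_modular hn hax (m := m) hm hh hh2 (hr.trans ((zpow_eq_iff_two hm).2 ⟨c, by ring⟩))

/-- Every square lies on the axis. -/
theorem sq_mem (hP : IsPGroup 2 P)
    (hn : ∀ A : Subgroup P, A.Normal → IsMulCommutative A → IsCyclic A)
    (hax : CyclicAxis p a) {m : ℕ} (hm : orderOf a = 2 ^ m) (g : P) :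
    g ^ 2 ∈ Subgroup.zpowers a := by
  have key : ∀ k : ℕ, ∀ g : P, g ^ (2 ^ k) ∈ Subgroup.zpowers a → g ^ 2 ∈ Subgroup.zpowers a := by
    intro k
    induction k with
    | zero => intro g hg; rw [pow_zero, pow_one] at hg; exact pow_mem hg 2
    | succ k ih =>
      intro g hg
      by_contra hc
      rw [pow_succ', pow_mul] at hg
      obtain ⟨r, hr⟩ := hax.exists_pow g
      have hrr : g ^ 2 * a * (g ^ 2)⁻¹ = a ^ (r * r) := by
        rw [← conj_zpow_axis hr, ← hr, sq]; group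
      obtain ⟨-, -, h4⟩ := shape hn hax hm hc (ih _ hg) hrr
      rcases Int.even_or_odd r with ⟨c, rfl⟩ | ⟨c, rfl⟩
      · obtain ⟨d, hd⟩ := h4
        have : (4 : ℤ) ∣ 1 := ⟨d - c * c, by linarith⟩
        norm_num at this
      · obtain ⟨d, hd⟩ := h4
        have : (4 : ℤ) ∣ 2 := ⟨d - c * c - c, by linarith⟩
        norm_num at this
  obtain ⟨k, hk⟩ := hP g
  exact key k g (hk ▸ one_mem _)

/-- Two elements off the axis differ by an element of the axis. -/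
theorem mul_mem_axis (hP : IsPGroup 2 P)
    (hn : ∀ A : Subgroup P, A.Normal → IsMulCommutative A → IsCyclic A)
    (hax : CyclicAxis p a) {m : ℕ} (hm : orderOf a = 2 ^ m) {g h : P}
    (hg : g ∉ Subgroup.zpowers a) (hh : h ∉ Subgroup.zpowers a) : g * h ∈ Subgroup.zpowers a := by
  by_contra hc
  obtain ⟨r, hr⟩ := hax.exists_pow g
  obtain ⟨s, hs⟩ := hax.exists_pow h
  have hgh : (g * h) * a * (g * h)⁻¹ = a ^ (r * s) := by
    rw [← conj_zpow_axis hr, ← hs]; group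
  obtain ⟨-, -, c1, hc1⟩ := shape hn hax hm hg (sq_mem hP hn hax hm g) hr
  obtain ⟨-, -, c2, hc2⟩ := shape hn hax hm hh (sq_mem hP hn hax hm h) hs
  obtain ⟨-, -, c3, hc3⟩ := shape hn hax hm hc (sq_mem hP hn hax hm _) hgh
  obtain rfl : r = 4 * c1 - 1 := by linarith
  obtain rfl : s = 4 * c2 - 1 := by linarith
  have : (4 : ℤ) ∣ 2 := ⟨c3 - 4 * c1 * c2 + c1 + c2, by linarith⟩
  norm_num at this

end CfsgLib.Case
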