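import Cfsg.Agent.Lib.Case.CyclicPairs.Moments
import Cfsg.Agent.Lib.Blk83.PrincipalKernel
import Cfsg.Agent.Lib.BlockReg.Integral
import Cfsg.Agent.Lib.CharTools.Basic
import Cfsg.Agent.Lib.Case.CyclicPairs.Main
import Mathlib.GroupTheory.FiniteAbelian.Duality
import Mathlib.RingTheory.RootsOfUnity.EnoughRootsOfUnity

/-!
A simple group with elementary abelian Sylow `p`-subgroups, `p` odd, one class of elements of order
`p` and `p`-nilpotent centralizers of these has two elements of order `p` generating a subgroup that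
is not `p`-solvable.
-/

set_option autoImplicit false

open Finset
open scoped ComplexConjugate

namespace CfsgLib.Case.ElemPairs

universe u

open CfsgLib.Case.CyclicPairs
open CfsgLib.Invol.BlockCol (pBlock)

variable {G : Type u} [Group G] [Finite G] {p : ℕ} [Fact p.Prime]

/-- Every `p`-subgroup is elementary abelian. -/
theorem elementary_of_isPGroup (P : Sylow p G) (hP : Cfsg.IsElementaryAbelian p (P : Subgroup G))
    {S : Subgroup G} (hS : IsPGroup p S) :
    (∀ a ∈ S, ∀ b ∈ S, Commute a b) ∧ ∀ a ∈ S, a ^ p = 1 := by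
  obtain ⟨Q, hQ⟩ := hS.exists_le_sylow
  obtain ⟨g, hg⟩ := MulAction.exists_smul_eq G P Q
  have hmem : ∀ a ∈ S, ∃ a' ∈ (P : Subgroup G), g * a' * g⁻¹ = a := by
    intro a ha
    have h := hQ ha
    rw [← hg, Sylow.coe_subgroup_smul] at h
    obtain ⟨a', ha', rfl⟩ := h
    exact ⟨a', ha', rfl⟩
  refine ⟨fun a ha b hb => ?_, fun a ha => ?_⟩
  · obtain ⟨a', ha', rfl⟩ := hmem a ha
    obtain ⟨b', hb', rfl⟩ := hmem b hb
    have h := hP.1.is_comm.comm (⟨a', ha'⟩ : (P : Subgroup G)) ⟨b', hb'⟩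
    exact (Commute.conj_iff g).2 (congrArg Subtype.val h)
  · obtain ⟨a', ha', rfl⟩ := hmem a ha
    rw [conj_pow, hP.2 a' ha', mul_one, mul_inv_cancel]

/-- Two elements of order `p` generating a `p`-solvable subgroup: their products are `p`-regular
for at most one power, and the `p`-part of a product has order at most `p`. -/
theorem pair_of_isPSolvable (P : Sylow p G) (hP : Cfsg.IsElementaryAbelian p (P : Subgroup G))
    {a b : G} (ha : orderOf a = p) (hb : orderOf b = p)
    (hs : Cfsg.IsPSolvable p (Subgroup.closure ({a, b} : Set G))) :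
    (∀ i ∈ Finset.Icc 1 (p - 1), ∀ j ∈ Finset.Icc 1 (p - 1),
        ¬ p ∣ orderOf (a * b ^ i) → ¬ p ∣ orderOf (a * b ^ j) → i = j) ∧
      ¬ p ∣ orderOf ((a * b) ^ p) := by
  have hp : p.Prime := Fact.out
  set H := Subgroup.closure ({a, b} : Set G) with hH
  let a' : H := ⟨a, Subgroup.subset_closure (by simp)⟩
  let b' : H := ⟨b, Subgroup.subset_closure (by simp)⟩
  set O := Cfsg.pPrimeCore p H with hO
  haveI : O.Normal := CfsgLib.Solvable.pPrimeCore_normal p H
  let f : H →* H ⧸ O := QuotientGroup.mk' O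
  have hf : Function.Surjective f := QuotientGroup.mk'_surjective O
  have hOc : (Nat.card O).Coprime p := CfsgLib.Solvable.pPrimeCore_card_coprime p H
  have hker : ∀ g : H, f g = 1 → ¬ p ∣ orderOf g := by
    intro g hg hd
    have hgO : g ∈ O := (QuotientGroup.eq_one_iff g).1 hg
    exact hp.coprime_iff_not_dvd.1 hOc.symm (hd.trans (Subgroup.orderOf_dvd_natCard _ hgO))
  have ha1 : a' ^ p = 1 := Subtype.ext (by simp [a', ← ha, pow_orderOf_eq_one])
  have hb1 : b' ^ p = 1 := Subtype.ext (by simp [b', ← hb, pow_orderOf_eq_one])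
  have hfb : orderOf (f b') = p := orderOf_eq_prime (by rw [← map_pow, hb1, map_one])
    (fun h => hker b' h (by simp [b', ← Subgroup.orderOf_coe, hb]))
  obtain ⟨R₀⟩ : Nonempty (Sylow p H) := inferInstance
  have hR : ∀ u ∈ (R₀.mapSurjective hf : Sylow p (H ⧸ O)).1,
      ∀ v ∈ (R₀.mapSurjective hf : Sylow p (H ⧸ O)).1, Commute u v := by
    rintro _ ⟨u, hu, rfl⟩ _ ⟨v, hv, rfl⟩
    have h := (elementary_of_isPGroup P hP (R₀.2.map H.subtype)).1 (u : G) ⟨u, hu, rfl⟩ (v : G)
      ⟨v, hv, rfl⟩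
    exact (show Commute u v from Subtype.ext h.eq).map f
  haveI := CfsgLib.Solvable.pCore_normal (p := p) (H ⧸ O)
  set Q := Cfsg.pCore p (H ⧸ O) with hQdef
  -- the images of `a` and `b` lie in `O_p`
  have hQ : ∀ z : H ⧸ O, z ^ p = 1 → z ∈ Q := by
    intro z hz
    refine CfsgLib.PLoc.centralizer_pCore_le_self (CfsgLib.PLoc.isPSolvable_of_surjective hf hs)
      (CfsgLib.Solvable.pPrimeCore_quotient_eq_bot O hO) ?_
    have hzp : IsPGroup p (Subgroup.zpowers z) := by
      obtain ⟨j, -, hj⟩ := (Nat.dvd_prime_pow hp).1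
        ((pow_one p).symm ▸ orderOf_dvd_of_pow_eq_one hz)
      exact IsPGroup.of_card (n := j) (by rw [Nat.card_zpowers, hj])
    obtain ⟨S, hS⟩ := hzp.exists_le_sylow
    obtain ⟨g, hg⟩ := MulAction.exists_smul_eq (H ⧸ O) (R₀.mapSurjective hf : Sylow p (H ⧸ O)) S
    refine Subgroup.mem_centralizer_iff.2 fun y hy => ?_
    have hzS := hS (Subgroup.mem_zpowers z)
    have hyS := CfsgLib.Solvable.pCore_le_sylow S hy
    rw [← hg, Sylow.coe_subgroup_smul] at hzS hyS
    obtain ⟨z', hz', rfl⟩ := hzS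
    obtain ⟨y', hy', rfl⟩ := hyS
    exact ((Commute.conj_iff g).2 (hR y' hy' z' hz')).eq
  have hfaQ : f a' ∈ Q := hQ _ (by rw [← map_pow, ha1, map_one])
  have hfbQ : f b' ∈ Q := hQ _ (by rw [← map_pow, hb1, map_one])
  have hall : ∀ g : H, f g ∈ Q := by
    have hle : (⊤ : Subgroup H) ≤ Q.comap f := by
      have hcl : Subgroup.closure (((↑) : H → G) ⁻¹' {a, b}) = (⊤ : Subgroup H) :=
        Subgroup.closure_closure_coe_preimage
      rw [← hcl, Subgroup.closure_le]
      rintro g (hg | hg)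
      · rw [show g = a' from Subtype.ext hg]; exact hfaQ
      · rw [show g = b' from Subtype.ext hg]; exact hfbQ
    exact fun g => hle (Subgroup.mem_top g)
  have hcomm : Commute (f a') (f b') :=
    hR _ (CfsgLib.Solvable.pCore_le_sylow _ hfaQ) _ (CfsgLib.Solvable.pCore_le_sylow _ hfbQ)
  have hreg : ∀ g : H, ¬ p ∣ orderOf g → f g = 1 := by
    intro g hg
    obtain ⟨k, hk⟩ := (CfsgLib.Solvable.pCore_isPGroup p (H ⧸ O)) ⟨f g, hall g⟩
    have hk' : f g ^ p ^ k = 1 := congrArg Subtype.val hk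
    refine orderOf_eq_one_iff.1 (Nat.eq_one_of_dvd_coprimes
      ((hp.coprime_iff_not_dvd.2 hg).pow_left k) (orderOf_dvd_of_pow_eq_one hk') (orderOf_map_dvd f g))
  constructor
  · intro i hi j hj h1 h2
    have e1 : f (a' * b' ^ i) = 1 := hreg _ (by
      rw [← Subgroup.orderOf_coe]; exact h1)
    have e2 : f (a' * b' ^ j) = 1 := hreg _ (by
      rw [← Subgroup.orderOf_coe]; exact h2)
    rw [map_mul, map_pow] at e1 e2
    have e3 : f b' ^ i = f b' ^ j := mul_left_cancel (e1.trans e2.symm)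
    have hm := pow_eq_pow_iff_modEq.1 e3
    rw [hfb] at hm
    have := (Finset.mem_Icc.1 hi).2
    have := (Finset.mem_Icc.1 hj).2
    have := hp.two_le
    exact hm.eq_of_lt_of_lt (by omega) (by omega)
  · have hco : orderOf ((a * b) ^ p) = orderOf ((a' * b') ^ p) := by
      rw [← Subgroup.orderOf_coe]; rfl
    rw [hco]
    refine hker _ ?_
    rw [map_pow, map_mul, hcomm.mul_pow, ← map_pow, ← map_pow, ha1, hb1, map_one, mul_one]

/-- The contradiction. -/
theorem false_of_pairs (hs : IsSimpleGroup G) (P : Sylow p G)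
    (hP1 : (P : Subgroup G) ≠ ⊥) (hPe : Cfsg.IsElementaryAbelian p (P : Subgroup G))
    (hconj : ∀ x ∈ (P : Subgroup G), ∀ y ∈ (P : Subgroup G), x ≠ 1 → y ≠ 1 →
      ∃ g : G, g * x * g⁻¹ = y)
    (hb : ∀ x ∈ (P : Subgroup G), orderOf x = p →
      Cfsg.HasNormalPComplement p ↥(Subgroup.centralizer ({x} : Set G)))
    (hpairs : ∀ x y : G, orderOf x = p → orderOf y = p →
      Cfsg.IsPSolvable p ↥(Subgroup.closure ({x, y} : Set G)))
    (hp2 : p ≠ 2) : False := by
  classical
  cases nonempty_fintype G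
  have hp : p.Prime := Fact.out
  obtain ⟨M, hM⟩ := CfsgLib.BlockReg.exists_isPModular hp
  obtain ⟨⟨x, hxP⟩, hxo⟩ := exists_prime_orderOf_dvd_card' (G := (P : Subgroup G)) p
    (P.2.card_eq_or_dvd.resolve_left fun h => hP1 (Subgroup.card_eq_one.1 h))
  rw [Subgroup.orderOf_mk] at hxo
  have hxne : x ≠ 1 := fun h => by rw [h, orderOf_one] at hxo; exact hp.ne_one hxo.symm
  -- one class of elements of order `p`
  have hinto : ∀ a : G, orderOf a = p → ∃ c : G, c * a * c⁻¹ ∈ (P : Subgroup G) := by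
    intro a ha
    obtain ⟨Q, hQ⟩ := (isPGroup_zpowers_of_orderOf ha).exists_le_sylow
    obtain ⟨c, hc⟩ := MulAction.exists_smul_eq G Q P
    refine ⟨c, ?_⟩
    rw [← hc, Sylow.coe_subgroup_smul]
    exact ⟨a, hQ (Subgroup.mem_zpowers a), rfl⟩
  have hconjX : ∀ a : G, orderOf a = p → IsConj x a := by
    intro a ha
    obtain ⟨c, hc⟩ := hinto a ha
    have hne : c * a * c⁻¹ ≠ 1 := fun h => by
      rw [conj_eq_one_iff] at h
      rw [h, orderOf_one] at ha
      exact hp.ne_one ha.symm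
    obtain ⟨g, hg⟩ := hconj x hxP _ hc hxne hne
    exact isConj_iff.2 ⟨c⁻¹ * g, by
      calc c⁻¹ * g * x * (c⁻¹ * g)⁻¹ = c⁻¹ * (g * x * g⁻¹) * c := by group
        _ = a := by rw [hg]; group⟩
  -- complements in centralizers
  have hcompl : ∀ a : G, orderOf a = p →
      ∃ K : Subgroup (Subgroup.centralizer ({a} : Set G)), K.Normal ∧ ¬ p ∣ Nat.card K ∧
        K.index = Nat.card (P : Subgroup G) := by
    intro a ha
    obtain ⟨R, N, hN, hcomp⟩ := hb x hxP hxo
    have hPC : (P : Subgroup G) ≤ Subgroup.centralizer ({x} : Set G) := fun y hy =>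
      Subgroup.mem_centralizer_singleton_iff.2
        ((elementary_of_isPGroup P hPe P.2).1 y hy x hxP).eq
    have hRcard : Nat.card R = Nat.card (P : Subgroup G) := by
      rw [R.card_eq_multiplicity, ← (P.subtype hPC).card_eq_multiplicity]
      exact Nat.card_congr (Subgroup.subgroupOfEquivOfLe hPC).toEquiv
    obtain ⟨c, hc⟩ := isConj_iff.1 (hconjX a ha)
    have hmap : (Subgroup.centralizer ({x} : Set G)).map (MulAut.conj c).toMonoidHom =
        Subgroup.centralizer ({a} : Set G) := by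
      ext g
      rw [Subgroup.mem_map, Subgroup.mem_centralizer_singleton_iff]
      constructor
      · rintro ⟨y, hy, rfl⟩
        have h := Subgroup.mem_centralizer_singleton_iff.1 hy
        simp only [MulEquiv.coe_toMonoidHom, MulAut.conj_apply, ← hc]
        calc c * y * c⁻¹ * (c * x * c⁻¹) = c * (y * x) * c⁻¹ := by group
          _ = c * x * c⁻¹ * (c * y * c⁻¹) := by rw [h]; group
      · intro h
        refine ⟨c⁻¹ * g * c, Subgroup.mem_centralizer_singleton_iff.2 ?_, by simp [mul_assoc]⟩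
        rw [← hc] at h
        calc c⁻¹ * g * c * x = c⁻¹ * (g * (c * x * c⁻¹)) * c := by group
          _ = x * (c⁻¹ * g * c) := by rw [h]; group
    set e := ((Subgroup.centralizer ({x} : Set G)).equivMapOfInjective (MulAut.conj c).toMonoidHom
      (MulAut.conj c).injective).trans (MulEquiv.subgroupCongr hmap) with he
    refine ⟨N.map e.toMonoidHom, hN.map _ e.surjective, ?_, ?_⟩
    · rw [Subgroup.card_map_of_injective e.injective, ← hcomp.index_eq_card]
      exact R.not_dvd_index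
    · rw [Subgroup.index_map_of_bijective e.bijective, hcomp.symm.index_eq_card, hRcard]
  obtain ⟨K, -, -, hKi⟩ := hcompl x hxo
  set k₀ := Nat.card K with hk₀
  set q := Nat.card (P : Subgroup G) with hq
  have hk₀pos : 0 < k₀ := Nat.card_pos
  have hCx : k₀ * q = Nat.card (Subgroup.centralizer ({x} : Set G)) := by
    rw [hk₀, ← hKi, K.card_mul_index]
  have hk₀all : ∀ a : G, orderOf a = p →
      k₀ * q = Nat.card (Subgroup.centralizer ({a} : Set G)) := by
    intro a ha
    rw [hCx]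
    have h1 := CfsgLib.Char.card_isConj_mul_card_centralizer (G := G) x
    have h2 := CfsgLib.Char.card_isConj_mul_card_centralizer (G := G) a
    have h3 : Nat.card {y : G // IsConj x y} = Nat.card {y : G // IsConj a y} :=
      Nat.card_congr (Equiv.subtypeEquivRight fun y =>
        ⟨fun h => (hconjX a ha).symm.trans h, fun h => (hconjX a ha).trans h⟩)
    rw [h3] at h1
    have hpos : 0 < Nat.card {y : G // IsConj a y} := by
      haveI : Nonempty {y : G // IsConj a y} := ⟨⟨a, IsConj.refl a⟩⟩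
      exact Nat.card_pos
    exact Nat.eq_of_mul_eq_mul_left hpos (h1.trans h2.symm)
  have hNG : (elts G p).card * (k₀ * q) = Fintype.card G := by
    rw [hCx, ← Nat.card_eq_fintype_card, ← CfsgLib.Char.card_isConj_mul_card_centralizer (G := G) x]
    congr 1
    rw [Nat.card_eq_fintype_card, Fintype.card_subtype]
    congr 1
    ext a
    simp only [mem_elts, Finset.mem_filter, Finset.mem_univ, true_and]
    refine ⟨hconjX a, fun h => ?_⟩
    obtain ⟨c, rfl⟩ := isConj_iff.1 h
    exact (orderOf_injective (MulAut.conj c).toMonoidHom (MulAut.conj c).injective x).trans hxo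
  -- values
  have hval : ∀ (χ : Cfsg.IrrCharacter G) (a : G), orderOf a = p → (χ : G → ℂ) a = (χ : G → ℂ) x :=
    fun χ a ha => (CfsgLib.Char.IsClassFunction.eq_of_isConj
      (CfsgLib.Char.IsIrrCharacter.isClassFunction χ.2) (hconjX a ha)).symm
  have hS : ∀ χ : Cfsg.IrrCharacter G,
      ∑ a ∈ elts G p, (χ : G → ℂ) a = ((elts G p).card : ℂ) * (χ : G → ℂ) x := fun χ => by
    rw [Finset.sum_congr rfl fun a ha => hval χ a (mem_elts.1 ha), Finset.sum_const, nsmul_eq_mul]
  have hxi : orderOf x⁻¹ = p := by rw [orderOf_inv, hxo]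
  have hconjv : ∀ χ : Cfsg.IrrCharacter G, conj ((χ : G → ℂ) x) = (χ : G → ℂ) x := fun χ => by
    rw [← CfsgLib.Char.IsIrrCharacter.apply_inv χ.2, hval χ _ hxi]
  let v : Cfsg.IrrCharacter G → ℝ := fun χ => ((χ : G → ℂ) x).re
  have hv : ∀ χ : Cfsg.IrrCharacter G, (χ : G → ℂ) x = ((v χ : ℝ) : ℂ) := fun χ =>
    (Complex.conj_eq_iff_re.1 (hconjv χ)).symm
  let d : Cfsg.IrrCharacter G → ℕ := fun χ => CfsgLib.Char.degree (χ : G → ℂ)
  have hd : ∀ χ : Cfsg.IrrCharacter G, (χ : G → ℂ) 1 = (d χ : ℂ) := fun χ =>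
    (CfsgLib.Char.IsCharacter.degree_cast (CfsgLib.Char.IsIrrCharacter.isCharacter χ.2)).symm
  -- the moments
  have hk₀C : (k₀ : ℂ) ≠ 0 := Nat.cast_ne_zero.2 hk₀pos.ne'
  have hmom2 : ∑ χ ∈ pBlock M G, v χ ^ 2 = q := by
    apply Complex.ofReal_injective
    refine mul_left_cancel₀ hk₀C ?_
    rw [Complex.ofReal_sum, Complex.ofReal_natCast, ← Nat.cast_mul, hCx, ← cnt_self_eq,
      ← column_pair P hcompl hM hxo hxo (hk₀all x hxo)]
    congr 1
    refine Finset.sum_congr rfl fun χ _ => ?_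
    rw [hconjv, hv, Complex.ofReal_pow, sq]
  have hmom1 : ∑ χ ∈ pBlock M G, (d χ : ℝ) * v χ = 0 := by
    apply Complex.ofReal_injective
    rw [Complex.ofReal_sum, Complex.ofReal_zero]
    simp only [Complex.ofReal_mul, Complex.ofReal_natCast, ← hd, ← hv]
    exact column_degree P hcompl hM hxo
  set N := (elts G p).card with hN
  set Cnt := ∑ a ∈ elts G p, ((elts G p).filter fun b => p ∣ orderOf (a * b)).card with hCnt
  have hmom3 : (N : ℝ) ^ 2 * ∑ χ ∈ pBlock M G, v χ ^ 3 / d χ = (q : ℝ) * Cnt := by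
    have hc := cubic P hcompl hM hk₀all
      (fun a b ha hb => (pair_of_isPSolvable P hPe ha hb (hpairs a b ha hb)).2)
      (fun χ => by rw [hS, map_mul, map_natCast, hconjv])
    rw [← hCnt, ← hNG] at hc
    simp only [hS, hv, hd, mul_pow, mul_div_assoc, ← Finset.mul_sum, ← hN] at hc
    apply Complex.ofReal_injective
    refine mul_left_cancel₀ (mul_ne_zero (Nat.cast_ne_zero.2 (show N ≠ 0 from
      (Finset.card_pos.2 ⟨x, mem_elts.2 hxo⟩).ne')) hk₀C) ?_
    push_cast at hc ⊢
    linear_combination -hc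
  have hcount : ((p : ℝ) - 2) * (N : ℝ) ^ 2 ≤ ((p : ℝ) - 1) * Cnt := by
    have hone : ∀ a ∈ elts G p,
        ((p : ℝ) - 2) * N ≤ ((p : ℝ) - 1) * ((elts G p).filter fun b => p ∣ orderOf (a * b)).card := by
      intro a ha
      have hR := regular_pairs_le (G := G) (p := p) a
        (fun b hb => (pair_of_isPSolvable P hPe (mem_elts.1 ha) hb (hpairs a b (mem_elts.1 ha) hb)).1)
      have h := Finset.card_filter_add_card_filter_not (s := elts G p)
        (fun b => p ∣ orderOf (a * b))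
      have hR' : ((p : ℝ) - 1) * ((elts G p).filter fun b => ¬ p ∣ orderOf (a * b)).card ≤ N := by
        rw [← hN] at hR
        have := (Nat.cast_le (α := ℝ)).2 hR
        rwa [Nat.cast_mul, Nat.cast_sub hp.one_le, Nat.cast_one] at this
      have h' : (((elts G p).filter fun b => p ∣ orderOf (a * b)).card : ℝ) +
          ((elts G p).filter fun b => ¬ p ∣ orderOf (a * b)).card = N := by
        rw [hN]; exact_mod_cast h
      nlinarith
    rw [hCnt, Nat.cast_sum, Finset.mul_sum]
    calc ((p : ℝ) - 2) * (N : ℝ) ^ 2 = ∑ _a ∈ elts G p, ((p : ℝ) - 2) * N := by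
          rw [Finset.sum_const, nsmul_eq_mul, ← hN]; ring
      _ ≤ _ := Finset.sum_le_sum hone
  -- separate the principal character
  set one : Cfsg.IrrCharacter G := CfsgLib.Char.principalIrr with hone
  have hone_mem : one ∈ pBlock M G := by
    rw [CfsgLib.Invol.BlockCol.mem_pBlock]
    exact CfsgLib.BlockReg.sameBlock_refl hM _
  have hd1 : d one = 1 := by
    have h := hd one
    simp only [hone, CfsgLib.Char.principalIrr_apply] at h
    exact_mod_cast h.symm
  have hv1 : v one = 1 := by simp [v, hone, CfsgLib.Char.principalIrr_apply]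
  set s := (pBlock M G).erase one with hs'
  rw [← Finset.add_sum_erase _ _ hone_mem, ← hs', hv1] at hmom2
  rw [← Finset.add_sum_erase _ _ hone_mem, ← hs', hv1, hd1] at hmom1 hmom3
  simp only [Nat.cast_one, div_one, one_mul, one_pow] at hmom1 hmom2 hmom3
  -- degree bound
  obtain ⟨φ, hφ⟩ : ∃ φ : (P : Subgroup G) →* ℂˣ, φ ⟨x, hxP⟩ ≠ 1 := by
    haveI := hPe.1
    letI : CommGroup (P : Subgroup G) :=
      { (inferInstance : Group (P : Subgroup G)) with mul_comm := hPe.1.is_comm.comm }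
    exact CommGroup.exists_apply_ne_one_of_hasEnoughRootsOfUnity (P : Subgroup G) ℂ
      (fun h => hxne (congrArg Subtype.val h))
  have hlow : ∀ χ ∈ s, v χ + (q : ℝ) ≤ d χ := by
    intro χ hχ
    haveI : Fintype (P : Subgroup G) := Fintype.ofFinite _
    obtain ⟨c, hc⟩ := CfsgLib.Char.IsCharacter.exists_nat_classInner
      (CfsgLib.Char.IsCharacter.restrict (CfsgLib.Char.IsIrrCharacter.isCharacter χ.2) (P : Subgroup G))
      (CfsgLib.Char.isIrrCharacter_monoidHom φ)
    have hsum0 : ∑ u : (P : Subgroup G), conj ((φ u : ℂˣ) : ℂ) = 0 := by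
      have h0 : ∑ u : (P : Subgroup G), ((φ u : ℂˣ) : ℂ) = 0 :=
        sum_hom_units_eq_zero ((Units.coeHom ℂ).comp φ) (fun h => hφ (Units.ext (by
          simpa using DFunLike.congr_fun h ⟨x, hxP⟩)))
      rw [← map_sum, h0, map_zero]
    have hcv : (q : ℂ) * c = (χ : G → ℂ) 1 - (χ : G → ℂ) x := by
      rw [← hc, Cfsg.classInner, ← hq, ← mul_assoc, mul_inv_cancel₀
        (Nat.cast_ne_zero.2 (by rw [hq]; exact Nat.card_pos.ne')), one_mul]
      calc ∑ u : (P : Subgroup G), (χ : G → ℂ) (u : G) * conj ((φ u : ℂˣ) : ℂ)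
          = ∑ u : (P : Subgroup G), ((χ : G → ℂ) x * conj ((φ u : ℂˣ) : ℂ) +
              (if u = 1 then (χ : G → ℂ) 1 - (χ : G → ℂ) x else 0)) := by
            refine Finset.sum_congr rfl fun u _ => ?_
            split_ifs with hu
            · subst hu; simp
            · rw [hval χ (u : G) (orderOf_eq_prime ((elementary_of_isPGroup P hPe P.2).2 _ u.2)
                fun h => hu (Subtype.ext h)), add_zero]
        _ = _ := by
            rw [Finset.sum_add_distrib, ← Finset.mul_sum, hsum0, mul_zero, zero_add,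
              Finset.sum_ite_eq']
            simp
    have hc1 : 1 ≤ c := by
      by_contra h
      obtain rfl : c = 0 := by omega
      rw [Nat.cast_zero, mul_zero, eq_comm, sub_eq_zero] at hcv
      obtain ⟨L, hL, hLmem, -⟩ := CfsgLib.CharTools.exists_kernel
        (CfsgLib.Char.IsIrrCharacter.isCharacter χ.2)
      rcases hL.eq_bot_or_eq_top with rfl | rfl
      · exact hxne (Subgroup.mem_bot.1 ((hLmem x).2 hcv.symm))
      · exact Finset.ne_of_mem_erase hχ
          (eq_principal_of_const fun g => (hLmem g).1 (Subgroup.mem_top g))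
    have hR : (q : ℝ) * c = d χ - v χ := by
      apply Complex.ofReal_injective
      push_cast
      rw [hcv, hd, hv]
    have hc1' : (1 : ℝ) ≤ c := by exact_mod_cast hc1
    nlinarith [(Nat.cast_nonneg q : (0 : ℝ) ≤ q)]
  -- a negative value
  obtain ⟨i₀, hi₀, hneg⟩ : ∃ i ∈ s, v i < 0 := by
    by_contra h
    have h0 : 0 ≤ ∑ i ∈ s, (d i : ℝ) * v i :=
      Finset.sum_nonneg fun i hi => mul_nonneg (Nat.cast_nonneg _)
        (le_of_not_gt fun h' => h ⟨i, hi, h'⟩)
    linarith
  -- integrality of the values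
  have hint : ∀ χ : Cfsg.IrrCharacter G, ∃ k : ℤ, v χ = k := by
    intro χ
    haveI : Fintype (P : Subgroup G) := Fintype.ofFinite _
    obtain ⟨c, hc⟩ := CfsgLib.Char.IsCharacter.exists_nat_classInner
      (CfsgLib.Char.IsCharacter.restrict (CfsgLib.Char.IsIrrCharacter.isCharacter χ.2) (P : Subgroup G))
      (CfsgLib.Char.isIrrCharacter_monoidHom φ)
    refine ⟨(d χ : ℤ) - (q : ℤ) * c, ?_⟩
    have h0 : ∑ u : (P : Subgroup G), ((φ u : ℂˣ) : ℂ) = 0 :=
      sum_hom_units_eq_zero ((Units.coeHom ℂ).comp φ) (fun h => hφ (Units.ext (by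
        simpa using DFunLike.congr_fun h ⟨x, hxP⟩)))
    apply Complex.ofReal_injective
    push_cast
    rw [← hc, Cfsg.classInner, ← hq, ← mul_assoc, mul_inv_cancel₀
      (Nat.cast_ne_zero.2 (by rw [hq]; exact Nat.card_pos.ne')), one_mul]
    have h1 : ∑ u : (P : Subgroup G), (χ : G → ℂ) (u : G) * conj ((φ u : ℂˣ) : ℂ)
        = ∑ u : (P : Subgroup G), ((χ : G → ℂ) x * conj ((φ u : ℂˣ) : ℂ) +
            (if u = 1 then (χ : G → ℂ) 1 - (χ : G → ℂ) x else 0)) := by
      refine Finset.sum_congr rfl fun u _ => ?_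
      split_ifs with hu
      · subst hu; simp
      · rw [hval χ (u : G) (orderOf_eq_prime ((elementary_of_isPGroup P hPe P.2).2 _ u.2)
          fun h => hu (Subtype.ext h)), add_zero]
    rw [h1, Finset.sum_add_distrib, ← Finset.mul_sum, ← map_sum, h0, map_zero, mul_zero, zero_add,
      Finset.sum_ite_eq']
    simp [hd, hv]
  have hq3 : (3 : ℝ) ≤ q := by
    have h1 : p ∣ q := hxo ▸ Subgroup.orderOf_dvd_natCard _ hxP
    have h2 : p ≤ q := Nat.le_of_dvd (by rw [hq]; exact Nat.card_pos) h1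
    have := hp.two_le
    exact_mod_cast (show 3 ≤ q by omega)
  have hneg1 : 1 ≤ v i₀ ^ 2 := by
    obtain ⟨k, hk⟩ := hint i₀
    rw [hk] at hneg ⊢
    have hk' : k ≤ -1 := by
      have : k < 0 := by exact_mod_cast hneg
      omega
    have : (k : ℝ) ≤ -1 := by exact_mod_cast hk'
    nlinarith
  -- bound the cubic sum
  have hterm : ∀ i ∈ s.erase i₀, v i ^ 3 / d i ≤ v i ^ 2 / 2 := by
    intro i hi
    have hi' := Finset.mem_of_mem_erase hi
    have hl := hlow i hi'
    have hdR : (0 : ℝ) < d i := Nat.cast_pos.2 (CfsgLib.Char.IsIrrCharacter.degree_pos i.2)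
    have hsq : v i ^ 2 ≤ (q : ℝ) - 1 := by
      have := Finset.single_le_sum (fun j _ => sq_nonneg (v j)) hi'
      linarith
    rw [div_le_div_iff₀ hdR two_pos]
    rcases le_or_gt (v i) 0 with h | h
    · have : v i ^ 3 ≤ 0 := by
        have : v i ^ 3 = v i * v i ^ 2 := by ring
        rw [this]; exact mul_nonpos_of_nonpos_of_nonneg h (sq_nonneg _)
      nlinarith [sq_nonneg (v i)]
    · have hvq : v i ≤ q := by nlinarith
      have h2v : 2 * v i ≤ d i := by linarith
      nlinarith [sq_nonneg (v i)]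
  have hi₀term : v i₀ ^ 3 / d i₀ < 0 :=
    div_neg_of_neg_of_pos (by nlinarith) (Nat.cast_pos.2 (CfsgLib.Char.IsIrrCharacter.degree_pos i₀.2))
  have hbound : ∑ i ∈ s, v i ^ 3 / d i < ((q : ℝ) - 2) / 2 := by
    rw [← Finset.add_sum_erase _ _ hi₀]
    rw [← Finset.add_sum_erase _ _ hi₀] at hmom2
    have h := Finset.sum_le_sum hterm
    rw [← Finset.sum_div] at h
    linarith
  have hN0 : (0 : ℝ) < (N : ℝ) ^ 2 :=
    pow_pos (Nat.cast_pos.2 (Finset.card_pos.2 ⟨x, mem_elts.2 hxo⟩)) 2
  have hp3 : (3 : ℝ) ≤ p := by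
    have := hp.two_le
    exact_mod_cast (show 3 ≤ p by omega)
  have hfinal : ((p : ℝ) - 2) * q ≤ ((p : ℝ) - 1) * (1 + ∑ i ∈ s, v i ^ 3 / d i) := by
    refine le_of_mul_le_mul_right ?_ hN0
    calc ((p : ℝ) - 2) * q * (N : ℝ) ^ 2 = q * (((p : ℝ) - 2) * (N : ℝ) ^ 2) := by ring
      _ ≤ q * (((p : ℝ) - 1) * Cnt) := mul_le_mul_of_nonneg_left hcount (by linarith)
      _ = ((p : ℝ) - 1) * ((q : ℝ) * Cnt) := by ring
      _ = _ := by rw [← hmom3]; ring
  nlinarith

end CfsgLib.Case.ElemPairs
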