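import Cfsg.Agent.Lib.Case.ExtraspecialCubed
import Mathlib.LinearAlgebra.Matrix.NonsingularInverse
import Mathlib.FieldTheory.Finiteness

/-!
Bounds on `p` from large automizers of the subgroups of order p² in an extraspecial Sylow p-subgroup.
-/

set_option autoImplicit false
set_option linter.style.haveILetI false

namespace CfsgLib.Case

open Subgroup Matrix
open scoped commutatorElement

variable {G : Type*} [Group G] [Finite G] {p : ℕ} [hp : Fact p.Prime]

theorem mem_center_of_comm {P : Sylow p G} {x : (P : Subgroup G)}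
    (hx : ∀ y : (P : Subgroup G), y * x = x * y) : x ∈ center (P : Subgroup G) :=
  mem_center_iff.2 hx

/-- The standing facts for a subgroup `A` of order `p²` of `P`. -/
theorem extraspecial_setup (P : Sylow p G) (hE : Cfsg.IsExtraspecial p (P : Subgroup G))
    (hcard : Nat.card (P : Subgroup G) = p ^ 3) {A : Subgroup G} (hA : Nat.card A = p ^ 2)
    (hAP : A ≤ (P : Subgroup G)) :
    (center (P : Subgroup G)).map (P : Subgroup G).subtype ≤ A ∧
      (∀ a ∈ A, a ∉ (center (P : Subgroup G)).map (P : Subgroup G).subtype →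
        ∃ x ∈ (P : Subgroup G), x * a * x⁻¹ ≠ a) ∧
      ∀ a ∈ (P : Subgroup G), ∀ x ∈ (P : Subgroup G),
        x * a * x⁻¹ * a⁻¹ ∈ (center (P : Subgroup G)).map (P : Subgroup G).subtype := by
  obtain ⟨⟨hP, hfr, hcom⟩, hc⟩ := hE
  refine ⟨?_, fun a ha haz => ?_, fun a ha x hx => ?_⟩
  · have hco : IsCoatom (A.subgroupOf (P : Subgroup G)) := by
      have hc2 : Nat.card (A.subgroupOf (P : Subgroup G)) = p ^ 2 :=
        (Nat.card_congr (subgroupOfEquivOfLe hAP).toEquiv).trans hA
      refine ⟨fun h => ?_, fun L hL => ?_⟩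
      · rw [h, card_top, hcard] at hc2
        have := Nat.pow_right_injective hp.out.two_le hc2
        omega
      · obtain ⟨k, hk3, hk⟩ := (Nat.dvd_prime_pow hp.out).1 (hcard ▸ L.card_subgroup_dvd_card)
        have h1 := Set.Finite.card_lt_card (Set.toFinite (L : Set (P : Subgroup G))) hL
        rw [SetLike.coe_sort_coe, SetLike.coe_sort_coe, hk, hc2,
          Nat.pow_lt_pow_iff_right hp.out.one_lt] at h1
        exact eq_top_of_card_eq _ (by rw [hk, hcard, show k = 3 by omega])
    have hle : center (P : Subgroup G) ≤ A.subgroupOf (P : Subgroup G) :=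
      hfr ▸ frattini_le_coatom hco
    refine (map_mono hle).trans ?_
    rw [map_subgroupOf_eq_of_le hAP]
  · by_contra h
    push Not at h
    refine haz ⟨⟨a, hAP ha⟩, mem_center_iff.2 fun y => Subtype.ext ?_, rfl⟩
    exact mul_inv_eq_iff_eq_mul.1 (h y y.2)
  · refine ⟨⟨x, hx⟩ * ⟨a, ha⟩ * ⟨x, hx⟩⁻¹ * ⟨a, ha⟩⁻¹, ?_, rfl⟩
    rw [← hcom]
    exact commutator_mem_commutator (mem_top _) (mem_top _)

/-- The core bound: if every line in a family is an eigenline of the diagonal elements of `N(P)`,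
then the family has at most two lines when `(p-1)` is large. -/
theorem lines_bound (P : Sylow p G) (hE : Cfsg.IsExtraspecial p (P : Subgroup G))
    (hcard : Nat.card (P : Subgroup G) = p ^ 3) (hexp : ∀ x ∈ (P : Subgroup G), x ^ p = 1)
    {ι : Type*} (A : ι → Subgroup G) (hA : Function.Injective A)
    (hAP : ∀ i, A i ≤ (P : Subgroup G)) (hAc : ∀ i, Nat.card (A i) = p ^ 2)
    (hy : ∀ i, ∃ a ∈ A i, a ∉ (center (P : Subgroup G)).map (P : Subgroup G).subtype ∧
      ∃ y : G, y * a * y⁻¹ = a ∧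
        (∃ z ∈ (center (P : Subgroup G)).map (P : Subgroup G).subtype, y * z * y⁻¹ ≠ z) ∧
        y ∈ normalizer (A i : Set G) ∧ ∃ k, orderOf y = p ^ k) :
    ∃ (H : Subgroup (CfsgLib.PSL2Sub.PG (ZMod p))), ¬ p ∣ Nat.card H ∧ ∃ t : ι → H,
      (∀ i, ∀ k : ℕ, (t i) ^ k = 1 → p - 1 ∣ 3 * k) ∧
      (∀ f : Fin 3 → ι, Function.Injective f → (∀ i j, Commute (t (f i)) (t (f j))) →
        (∀ i, 3 ≤ orderOf (t (f i))) → False) := by
  classical
  obtain ⟨⟨hPp, hfr, hcom⟩, hcz⟩ := hE
  set P' : Subgroup G := (P : Subgroup G) with hP'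
  set Zc : Subgroup P' := center P' with hZc
  set Z : Subgroup G := Zc.map P'.subtype with hZ
  obtain ⟨z0, hz0⟩ := exists_prime_orderOf_dvd_card' p (hcz.symm.dvd : p ∣ Nat.card Zc)
  set z : G := ((z0 : P') : G) with hzdef
  have hzo : orderOf z = p := by rw [hzdef, orderOf_coe, orderOf_coe]; exact hz0
  have hz1 : z ≠ 1 := fun h => hp.out.ne_one (by rw [← hzo, h, orderOf_one])
  have hZz : Z = zpowers z := by
    refine (eq_of_le_of_card_ge ?_ ?_).symm
    · exact zpowers_le.2 ⟨z0, z0.2, rfl⟩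
    · rw [hZ, card_subtype, hcz, Nat.card_zpowers, hzo]
  have hzC : ∀ x ∈ P', x * z = z * x := fun x hx =>
    congrArg Subtype.val (mem_center_iff.1 z0.2 ⟨x, hx⟩)
  obtain ⟨l, hl⟩ := IsCyclic.exists_ofOrder_eq_natCard (α := (ZMod p)ˣ)
  rw [Nat.card_units, Nat.card_zmod] at hl
  -- the diagonal elements
  have hdiag : ∀ i, ∃ a ∈ A i, a ∉ Z ∧ ∃ g, DiagElt P z a (l : ZMod p) g := by
    intro i
    obtain ⟨a, ha, haZ, y, hya, ⟨w, hw, hyw⟩, hyA, k, hyk⟩ := hy i
    obtain ⟨hZA, hnc, hcomm⟩ := extraspecial_setup P ⟨⟨hPp, hfr, hcom⟩, hcz⟩ hcard (hAc i) (hAP i)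
    refine ⟨a, ha, haZ, exists_diagElt P (hAc i) (hAP i) hexp (hZA (hZz ▸ mem_zpowers z : z ∈ Z))
      ha hzC ?_ (hnc a ha haZ) hz1 (hZz ▸ haZ) ⟨y, hya, fun hyz => hyw ?_, hyA, k, hyk⟩ l.ne_zero⟩
    · exact fun x hx => hZz ▸ hcomm a (hAP i ha) x hx
    · rw [hZz] at hw
      obtain ⟨j, rfl⟩ := mem_zpowers_iff.1 hw
      rw [← conj_zpow, hyz]
  choose a ha haZ g hgn hgz hga using hdiag
  -- the plane `P / Z(P)`
  haveI : Zc.Normal := inferInstance
  letI : CommGroup (P' ⧸ Zc) :=
    { (inferInstance : Group (P' ⧸ Zc)) with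
      mul_comm := fun x y => by
        obtain ⟨x, rfl⟩ := QuotientGroup.mk'_surjective Zc x
        obtain ⟨y, rfl⟩ := QuotientGroup.mk'_surjective Zc y
        rw [← map_mul, ← map_mul]
        refine QuotientGroup.eq.2 ?_
        have e : (x * y)⁻¹ * (y * x) = ⁅y⁻¹, x⁻¹⁆ := by rw [commutatorElement_def]; group
        rw [e]
        show _ ∈ Zc
        rw [← hcom]
        exact commutator_mem_commutator (mem_top _) (mem_top _) }
  haveI : Module (ZMod p) (Additive (P' ⧸ Zc)) := AddCommGroup.zmodModule fun x => by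
    obtain ⟨u, hu⟩ := QuotientGroup.mk'_surjective Zc x.toMul
    show Additive.ofMul (x.toMul ^ p) = 0
    rw [← hu, ← map_pow, show u ^ p = 1 from Subtype.ext (hexp _ u.2), map_one]
    rfl
  have hVcard : Nat.card (Additive (P' ⧸ Zc)) = p ^ 2 := by
    have h := Zc.index_mul_card
    rw [hcz, hcard, pow_succ] at h
    exact Nat.eq_of_mul_eq_mul_right hp.out.pos h
  haveI : Finite (Additive (P' ⧸ Zc)) := inferInstanceAs (Finite (P' ⧸ Zc))
  haveI : Module.Finite (ZMod p) (Additive (P' ⧸ Zc)) := Module.Finite.of_finite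
  have hrank : Module.finrank (ZMod p) (Additive (P' ⧸ Zc)) = 2 := by
    have h := Module.natCard_eq_pow_finrank (K := ZMod p) (V := Additive (P' ⧸ Zc))
    rw [hVcard, Nat.card_zmod] at h
    exact (Nat.pow_right_injective hp.out.two_le h).symm
  set N := normalizer (P' : Set G) with hN
  let η : N → (P' ⧸ Zc →* P' ⧸ Zc) := fun g =>
    QuotientGroup.map Zc Zc (P'.normalizerMonoidHom g).toMonoidHom fun x hx => by
      rw [mem_comap, MulEquiv.coe_toMonoidHom, hZc, mem_center_iff]
      intro w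
      obtain ⟨w, rfl⟩ := (P'.normalizerMonoidHom g).surjective w
      rw [← map_mul, ← map_mul, mem_center_iff.1 hx w]
  let Ψ : N →* Module.End (ZMod p) (Additive (P' ⧸ Zc)) :=
    { toFun := fun g => (MonoidHom.toAdditive (η g)).toZModLinearMap p
      map_one' := by
        refine LinearMap.ext fun x => ?_
        obtain ⟨u, hu⟩ := QuotientGroup.mk'_surjective Zc x.toMul
        show Additive.ofMul (η 1 x.toMul) = x
        rw [← hu]
        show Additive.ofMul (QuotientGroup.mk' Zc ((P'.normalizerMonoidHom 1) u)) = x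
        rw [map_one, MulAut.one_apply, hu, ofMul_toMul]
      map_mul' := fun g h => by
        refine LinearMap.ext fun x => ?_
        obtain ⟨u, hu⟩ := QuotientGroup.mk'_surjective Zc x.toMul
        show Additive.ofMul (η (g * h) x.toMul) = Additive.ofMul (η g (η h x.toMul))
        rw [← hu]
        show Additive.ofMul (QuotientGroup.mk' Zc ((P'.normalizerMonoidHom (g * h)) u)) =
          Additive.ofMul (QuotientGroup.mk' Zc
            ((P'.normalizerMonoidHom g) ((P'.normalizerMonoidHom h) u)))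
        rw [map_mul, MulAut.mul_apply] }
  let bV : Module.Basis (Fin 2) (ZMod p) (Additive (P' ⧸ Zc)) := Module.finBasisOfFinrankEq _ _ hrank
  let Φ : N →* GL (Fin 2) (ZMod p) :=
    (Units.map (LinearMap.toMatrixAlgEquiv bV).toAlgHom.toRingHom.toMonoidHom).comp Ψ.toHomUnits
  have hΦv : ∀ g, (Φ g : Matrix (Fin 2) (Fin 2) (ZMod p)) = LinearMap.toMatrixAlgEquiv bV (Ψ g) :=
    fun g => rfl
  -- scalars
  have hscalar : ∀ g : N, Φ g ∈ center (GL (Fin 2) (ZMod p)) →
      ∃ c : ZMod p, Ψ g = c • LinearMap.id := by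
    intro g hg
    rw [GeneralLinearGroup.center_eq_range_scalar] at hg
    obtain ⟨c, hc⟩ := hg
    refine ⟨c, (LinearMap.toMatrixAlgEquiv bV).injective ?_⟩
    rw [← hΦv, ← hc, ← Module.End.one_eq_id, map_smul, map_one]
    ext i j
    by_cases hij : i = j <;> simp [hij]
  let θ : N →* CfsgLib.PSL2Sub.PG (ZMod p) := ProjGenLinGroup.mk.comp Φ
  set H := θ.range with hH
  have hHp : ¬ p ∣ Nat.card H := by
    have hle : P'.subgroupOf N ≤ θ.ker := by
      intro u hu
      have h1 : Φ u = 1 := by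
        refine Units.ext ?_
        rw [hΦv, Units.val_one]
        rw [show Ψ u = 1 from ?_, map_one]
        refine LinearMap.ext fun x => ?_
        obtain ⟨w, hw⟩ := QuotientGroup.mk'_surjective Zc x.toMul
        show Additive.ofMul (η u x.toMul) = x
        rw [← hw]
        show Additive.ofMul (QuotientGroup.mk' Zc ((P'.normalizerMonoidHom u) w)) = x
        have : QuotientGroup.mk' Zc ((P'.normalizerMonoidHom u) w) = QuotientGroup.mk' Zc w := by
          have e : (P'.normalizerMonoidHom u) w =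
              (⟨(u : G), hu⟩ : P') * w * (⟨(u : G), hu⟩ : P')⁻¹ := Subtype.ext rfl
          rw [e, map_mul, map_mul, map_inv, mul_comm (QuotientGroup.mk' Zc _) (QuotientGroup.mk' Zc w),
            mul_inv_cancel_right]
        rw [this, hw, ofMul_toMul]
      rw [MonoidHom.mem_ker]
      show ProjGenLinGroup.mk (Φ u) = 1
      rw [h1, map_one]
    intro hd
    rw [hH, ← index_ker] at hd
    exact (P.subtype le_normalizer).not_dvd_index (hd.trans (index_dvd_of_le hle))
  let gN : ι → N := fun i => ⟨g i, hgn i⟩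
  refine ⟨H, hHp, fun i => ⟨θ (gN i), ⟨gN i, rfl⟩⟩, ?_, ?_⟩
  -- vectors of the lines
  all_goals
    let v : ι → (Additive (P' ⧸ Zc)) := fun i => Additive.ofMul (QuotientGroup.mk' Zc ⟨a i, hAP i (ha i)⟩)
    have hv0 : ∀ i, v i ≠ 0 := fun i h0 => haZ i
      ⟨⟨a i, hAP i (ha i)⟩, (QuotientGroup.eq_one_iff _).1 (congrArg Additive.toMul h0), rfl⟩
    have heig : ∀ i, Ψ (gN i) (v i) = ((l⁻¹ : (ZMod p)ˣ) : ZMod p) • v i := by
      intro i
      have h1 : ((l⁻¹ : (ZMod p)ˣ) : ZMod p) = (l : ZMod p)⁻¹ := Units.val_inv_eq_inv_val _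
      rw [h1, ← ZMod.natCast_zmod_val ((l : ZMod p)⁻¹), Nat.cast_smul_eq_nsmul]
      show Additive.ofMul (QuotientGroup.mk' Zc ((P'.normalizerMonoidHom (gN i)) ⟨a i, hAP i (ha i)⟩)) =
        _ • Additive.ofMul (QuotientGroup.mk' Zc ⟨a i, hAP i (ha i)⟩)
      rw [← ofMul_pow, ← map_pow]
      congr 1
      refine (QuotientGroup.eq.2 ?_).symm
      have h2 := hga i
      rw [← hZz] at h2
      obtain ⟨w, hw, hwe⟩ := h2
      have hwe' : g i * a i * (g i)⁻¹ = (w : G) * a i ^ ((l : ZMod p)⁻¹).val := by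
        rw [show (w : G) = _ from hwe]; group
      have : (⟨a i, hAP i (ha i)⟩ : P') ^ ((l : ZMod p)⁻¹).val = (⟨a i, hAP i (ha i)⟩ : P') ^
          ((l : ZMod p)⁻¹).val := rfl
      have e : ((⟨a i, hAP i (ha i)⟩ : P') ^ ((l : ZMod p)⁻¹).val)⁻¹ *
          ((P'.normalizerMonoidHom (gN i)) ⟨a i, hAP i (ha i)⟩) = w := by
        refine Subtype.ext ?_
        show (a i ^ ((l : ZMod p)⁻¹).val)⁻¹ * (g i * a i * (g i)⁻¹) = (w : G)
        have hcm := congrArg Subtype.val
          (mem_center_iff.1 hw ((⟨a i, hAP i (ha i)⟩ : P') ^ ((l : ZMod p)⁻¹).val))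
        simp only [coe_mul, SubmonoidClass.coe_pow] at hcm
        rw [hwe', ← hcm]
        group
      rw [e]
      exact hw
  · intro i k hk
    have hk' : Φ (gN i) ^ k ∈ center (GL (Fin 2) (ZMod p)) := by
      rw [← ProjGenLinGroup.mk_eq_one, map_pow]
      exact congrArg Subtype.val hk
    rw [← map_pow] at hk'
    obtain ⟨c, hc⟩ := hscalar _ hk'
    -- `c` from the eigenvector
    have hpow : ∀ n : ℕ, Ψ (gN i ^ n) (v i) = (((l⁻¹ : (ZMod p)ˣ) ^ n : (ZMod p)ˣ) : ZMod p) • v i := by
      intro n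
      induction n with
      | zero => simp
      | succ n ih =>
        rw [pow_succ', map_mul, Module.End.mul_apply, ih, map_smul, heig, smul_smul, pow_succ,
          Units.val_mul]
    have hcv : c = (((l⁻¹ : (ZMod p)ˣ) ^ k : (ZMod p)ˣ) : ZMod p) := by
      have h := hpow k
      rw [hc, LinearMap.smul_apply, LinearMap.id_apply] at h
      by_contra hne
      refine hv0 i ?_
      have h' : (c - (((l⁻¹ : (ZMod p)ˣ) ^ k : (ZMod p)ˣ) : ZMod p)) • v i = 0 := by
        rw [sub_smul, h, sub_self]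
      exact (smul_eq_zero.1 h').resolve_left (sub_ne_zero.2 hne)
    -- the effect on a commutator with `z`
    obtain ⟨x, hx, hxa⟩ : ∃ x ∈ P', x * a i * x⁻¹ ≠ a i :=
      (extraspecial_setup P ⟨⟨hPp, hfr, hcom⟩, hcz⟩ hcard (hAc i) (hAP i)).2.1 _ (ha i) (haZ i)
    have hact : ∀ u : P', ∃ w ∈ Zc, (P'.normalizerMonoidHom (gN i ^ k)) u = w * u ^ c.val := by
      intro u
      have h := LinearMap.congr_fun hc (Additive.ofMul (QuotientGroup.mk' Zc u))
      rw [LinearMap.smul_apply, LinearMap.id_apply, ← ZMod.natCast_zmod_val c,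
        Nat.cast_smul_eq_nsmul, ← ofMul_pow, ← map_pow] at h
      have h' : QuotientGroup.mk' Zc ((P'.normalizerMonoidHom (gN i ^ k)) u) =
          QuotientGroup.mk' Zc (u ^ c.val) := h
      refine ⟨(P'.normalizerMonoidHom (gN i ^ k)) u * (u ^ c.val)⁻¹, ?_, by group⟩
      rw [← QuotientGroup.eq_one_iff]
      show QuotientGroup.mk' Zc _ = 1
      rw [map_mul, map_inv, h', mul_inv_cancel]
    obtain ⟨w₁, hw₁, e₁⟩ := hact ⟨x, hx⟩
    obtain ⟨w₂, hw₂, e₂⟩ := hact ⟨a i, hAP i (ha i)⟩
    set σ := P'.normalizerMonoidHom (gN i ^ k) with hσ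
    set X : P' := ⟨x, hx⟩
    set Y : P' := ⟨a i, hAP i (ha i)⟩
    set C : P' := ⁅X, Y⁆ with hCdef
    have hCz : C ∈ Zc := by
      rw [← hcom]; exact commutator_mem_commutator (mem_top _) (mem_top _)
    have cmul : ∀ u u' v' : P', ⁅u * u', v'⁆ = ⁅u, v'⁆ * ⁅u', v'⁆ := fun u u' v' => by
      have hm : ⁅u', v'⁆ ∈ Zc := by
        rw [← hcom]; exact commutator_mem_commutator (mem_top _) (mem_top _)
      have h1 : ⁅u * u', v'⁆ = (u * ⁅u', v'⁆ * u⁻¹) * ⁅u, v'⁆ := by
        simp [commutatorElement_def, mul_assoc]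
      rw [h1, mem_center_iff.1 hm u, mul_inv_cancel_right, (mem_center_iff.1 hm _).symm]
    have cinv : ∀ u v' : P', ⁅u, v'⁆ = ⁅v', u⁆⁻¹ := fun u v' => (commutatorElement_inv v' u).symm
    have cpow : ∀ (n : ℕ) (u v' : P'), ⁅u ^ n, v'⁆ = ⁅u, v'⁆ ^ n := by
      intro n u v'
      induction n with
      | zero => simp
      | succ n ih => rw [pow_succ, cmul, ih, pow_succ]
    have c0 : ∀ w ∈ Zc, ∀ v' : P', ⁅w, v'⁆ = 1 := fun w hw v' =>
      commutatorElement_eq_one_iff_mul_comm.2 (mem_center_iff.1 hw v').symm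
    have hσC : σ C = C ^ (c.val * c.val) := by
      rw [hCdef, map_commutatorElement, e₁, e₂, cmul, c0 _ hw₁, one_mul, cpow, cinv X _, cmul,
        c0 _ hw₂, one_mul, cpow, ← inv_pow, ← cinv X Y, ← pow_mul]
    have hC1 : (C : G) ≠ 1 := fun h => hxa (by
      have : x * a i * x⁻¹ * (a i)⁻¹ = 1 := h
      exact mul_inv_eq_one.1 this)
    have hCG : (C : G) ∈ Z := ⟨C, hCz, rfl⟩
    rw [hZz] at hCG
    obtain ⟨j, hj⟩ := mem_zpowers_iff.1 hCG
    -- conjugation by `g ^ k` on `z`
    have hgk : ∀ n : ℕ, (g i) ^ n * z * ((g i) ^ n)⁻¹ = z ^ (((l ^ n : (ZMod p)ˣ) : ZMod p)).val := by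
      intro n
      induction n with
      | zero => simp [ZMod.val_one]
      | succ n ih =>
        calc (g i) ^ (n + 1) * z * ((g i) ^ (n + 1))⁻¹
            = g i * ((g i) ^ n * z * ((g i) ^ n)⁻¹) * (g i)⁻¹ := by rw [pow_succ']; group
          _ = _ := by
            rw [ih, ← conj_pow, hgz i, ← zmod_pow_mul (hzo ▸ pow_orderOf_eq_one z), pow_succ',
              Units.val_mul]
    have hzc : (g i) ^ k * z * ((g i) ^ k)⁻¹ = z ^ (c * c).val := by
      have e := congrArg Subtype.val hσC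
      have e' : (g i) ^ k * (C : G) * ((g i) ^ k)⁻¹ = (C : G) ^ (c.val * c.val) := e
      rw [← hj, ← conj_zpow] at e'
      have hjp : ¬ (p : ℤ) ∣ j := by
        intro hd
        refine hC1 ?_
        rw [← hj, ← orderOf_dvd_iff_zpow_eq_one, hzo]
        exact hd
      obtain ⟨a', b', hab⟩ : IsCoprime (p : ℤ) j :=
        (Prime.coprime_iff_not_dvd (Nat.prime_iff_prime_int.1 hp.out)).2 hjp
      have hzj : z = (z ^ j) ^ b' := by
        conv_lhs => rw [← zpow_one z, ← hab, _root_.zpow_add, mul_comm a', _root_.zpow_mul, zpow_natCast,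
          show z ^ p = 1 from hzo ▸ pow_orderOf_eq_one z, _root_.one_zpow, one_mul, mul_comm b', _root_.zpow_mul]
      have hzp : z ^ p = 1 := hzo ▸ pow_orderOf_eq_one z
      calc (g i) ^ k * z * ((g i) ^ k)⁻¹ = ((g i ^ k * z * (g i ^ k)⁻¹) ^ j) ^ b' := by
            rw [conj_zpow, conj_zpow, ← hzj]
        _ = ((z ^ j) ^ (c.val * c.val)) ^ b' := by rw [e']
        _ = z ^ (c.val * c.val) := by
            rw [← zpow_natCast (z ^ j), ← _root_.zpow_mul, mul_comm ((c.val * c.val : ℕ) : ℤ) b', _root_.zpow_mul,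
              ← hzj, zpow_natCast]
        _ = _ := by rw [ZMod.val_mul, ← pow_eq_pow_mod _ hzp]
    rw [hgk k, pow_inj_mod, hzo, Nat.mod_eq_of_lt (ZMod.val_lt _),
      Nat.mod_eq_of_lt (ZMod.val_lt _)] at hzc
    have heq := ZMod.val_injective p hzc
    rw [hcv, ← Units.val_mul] at heq
    have hu : l ^ k = (l⁻¹) ^ k * (l⁻¹) ^ k := Units.ext heq
    rw [← hl, orderOf_dvd_iff_pow_eq_one, show 3 * k = k + (k + k) by ring, pow_add]
    calc l ^ k * l ^ (k + k) = (l⁻¹) ^ k * (l⁻¹) ^ k * (l ^ k * l ^ k) := by rw [← hu, pow_add]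
      _ = 1 := by rw [inv_pow]; group
  · intro f hf hcomm h3
    let u : Fin 3 → N := fun i => gN (f i)
    -- `θ (u 0)` squared is nontrivial, and commutes strictly with the others
    have hkey : ∀ j, Φ (u j) * Φ (u 0) ^ 2 = Φ (u 0) ^ 2 * Φ (u j) := by
      intro j
      have h1 : θ (u j) * θ (u 0) = θ (u 0) * θ (u j) := congrArg Subtype.val (hcomm j 0).eq
      set M := Φ (u j)
      set M0 := Φ (u 0)
      have h2 : (M0 * M)⁻¹ * (M * M0) ∈ center (GL (Fin 2) (ZMod p)) := by
        rw [← ProjGenLinGroup.mk_eq_one, map_mul, map_inv, inv_mul_eq_one]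
        exact ((map_mul ProjGenLinGroup.mk M0 M).trans h1.symm).trans (map_mul ProjGenLinGroup.mk M M0).symm
      set s := (M0 * M)⁻¹ * (M * M0) with hs
      have hsq : s * s = 1 := by
        rw [GeneralLinearGroup.center_eq_range_scalar] at h2
        obtain ⟨d, hd⟩ := h2
        have hdet : GeneralLinearGroup.det s = 1 := by
          rw [hs, map_mul, map_inv, map_mul, map_mul, mul_comm (GeneralLinearGroup.det M),
            inv_mul_cancel]
        rw [← hd] at hdet ⊢
        rw [← map_mul]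
        have : (d * d : (ZMod p)ˣ) = 1 := by
          have h' := congrArg Units.val hdet
          simp [Matrix.det_fin_two] at h'
          rcases h' with rfl | rfl <;> simp
        rw [this, map_one]
      have hsc := mem_center_iff.1 h2
      have e : M * M0 = M0 * M * s := by rw [hs]; group
      calc M * M0 ^ 2 = (M * M0) * M0 := by rw [sq, mul_assoc]
        _ = M0 * M * (s * M0) := by rw [e, mul_assoc]
        _ = M0 * M * (M0 * s) := by rw [hsc M0]
        _ = M0 * (M * M0) * s := by simp only [mul_assoc]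
        _ = M0 * (M0 * M * s) * s := by rw [e]
        _ = M0 * M0 * M * (s * s) := by simp only [mul_assoc]
        _ = _ := by rw [hsq, mul_one, sq]
    refine no_three_eigenlines hrank (fun i => if i = 0 then Ψ (u 0 ^ 2) else Ψ (u i))
      (fun i => v (f i)) (fun i => if i = 0 then
        ((l⁻¹ : (ZMod p)ˣ) : ZMod p) * ((l⁻¹ : (ZMod p)ˣ) : ZMod p) else ((l⁻¹ : (ZMod p)ˣ) : ZMod p))
      (fun i => hv0 (f i)) ?_ ?_ ?_ ?_
    · intro i j hij t ht
      refine hij (hf (hA ?_))
      -- both lines are `A`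
      have hle : zpowers z ⊔ zpowers (a (f i)) ≤ A (f i) := sup_le
        (zpowers_le.2 ((extraspecial_setup P ⟨⟨hPp, hfr, hcom⟩, hcz⟩ hcard (hAc _) (hAP _)).1
          (hZz ▸ mem_zpowers z : z ∈ Z))) (zpowers_le.2 (ha _))
      have hfull : ∀ m, A (f m) = zpowers z ⊔ zpowers (a (f m)) := by
        intro m
        have hle : zpowers z ⊔ zpowers (a (f m)) ≤ A (f m) := sup_le
          (zpowers_le.2 ((extraspecial_setup P ⟨⟨hPp, hfr, hcom⟩, hcz⟩ hcard (hAc _) (hAP _)).1
            (hZz ▸ mem_zpowers z : z ∈ Z))) (zpowers_le.2 (ha _))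
        refine (eq_of_le_of_card_ge hle ?_).symm
        obtain ⟨k, -, hk⟩ := (Nat.dvd_prime_pow hp.out).1 (hAc (f m) ▸ card_dvd_of_le hle)
        have hlt : zpowers z < zpowers z ⊔ zpowers (a (f m)) := lt_of_le_of_ne le_sup_left fun h =>
          haZ (f m) (hZz ▸ (h.symm ▸ mem_sup_right (mem_zpowers _)))
        have h1 := Set.Finite.card_lt_card (Set.toFinite _) hlt
        rw [SetLike.coe_sort_coe, SetLike.coe_sort_coe, Nat.card_zpowers, hzo, hk] at h1
        rw [hAc, hk]
        refine Nat.pow_le_pow_right hp.out.pos ?_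
        by_contra hk2
        have : p ^ k ≤ p ^ 1 := Nat.pow_le_pow_right hp.out.pos (by omega)
        rw [pow_one] at this
        omega
      have hmem : a (f j) ∈ zpowers z ⊔ zpowers (a (f i)) := by
        have ht' : QuotientGroup.mk' Zc ⟨a (f j), hAP _ (ha _)⟩ =
            QuotientGroup.mk' Zc ((⟨a (f i), hAP _ (ha _)⟩ : P') ^ t.val) := by
          have := ht
          rw [← ZMod.natCast_zmod_val t, Nat.cast_smul_eq_nsmul] at this
          rw [map_pow]
          exact congrArg Additive.toMul this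
        obtain ⟨w, hw, hwe⟩ : ∃ w ∈ Zc, (⟨a (f j), hAP _ (ha _)⟩ : P') =
            w * (⟨a (f i), hAP _ (ha _)⟩ : P') ^ t.val := by
          refine ⟨⟨a (f j), hAP _ (ha _)⟩ * ((⟨a (f i), hAP _ (ha _)⟩ : P') ^ t.val)⁻¹, ?_, by group⟩
          rw [← QuotientGroup.eq_one_iff]
          show QuotientGroup.mk' Zc _ = 1
          rw [map_mul, map_inv, ht', mul_inv_cancel]
        have hval : a (f j) = (w : G) * a (f i) ^ t.val := congrArg Subtype.val hwe
        rw [hval]
        exact mul_mem (mem_sup_left (hZz ▸ (⟨w, hw, rfl⟩ : (w : G) ∈ Z)))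
          (mem_sup_right (pow_mem (mem_zpowers _) _))
      refine (eq_of_le_of_card_ge ?_ (by rw [hAc, hAc])).symm
      rw [hfull j, hfull i]
      exact sup_le le_sup_left (zpowers_le.2 hmem)
    · intro i
      by_cases hi : i = 0
      · subst hi
        simp only [if_true]
        rw [sq, map_mul, Module.End.mul_apply, heig, map_smul, heig, smul_smul]
      · simp only [hi, if_false]
        exact heig (f i)
    · intro i t ht
      have back : ∀ x : N, Ψ x = t • LinearMap.id → θ x = 1 := by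
        intro x hx
        show ProjGenLinGroup.mk (Φ x) = 1
        rw [ProjGenLinGroup.mk_eq_one, mem_center_iff]
        intro y
        refine Units.ext ?_
        rw [Units.val_mul, Units.val_mul, hΦv, hx, ← Module.End.one_eq_id, map_smul, map_one]
        simp
      by_cases hi : i = 0
      · subst hi
        simp only [if_true] at ht
        have h2 : (⟨θ (gN (f 0)), ⟨gN (f 0), rfl⟩⟩ : H) ^ 2 = 1 := Subtype.ext (by
          rw [SubmonoidClass.coe_pow, ← map_pow]
          exact back _ ht)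
        have := Nat.le_of_dvd two_pos (orderOf_dvd_of_pow_eq_one h2)
        have := h3 0
        simp only [u] at this
        omega
      · simp only [hi, if_false] at ht
        have h1 : θ (u i) = 1 := back _ ht
        have h1' : (⟨θ (gN (f i)), ⟨gN (f i), rfl⟩⟩ : H) = 1 := Subtype.ext h1
        have := h3 i
        simp only at this
        rw [h1', orderOf_one] at this
        omega
    · intro j
      have h1 : Ψ (u j) * Ψ (u 0 ^ 2) = Ψ (u 0 ^ 2) * Ψ (u j) := by
        refine (LinearMap.toMatrixAlgEquiv bV).injective ?_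
        rw [map_mul, map_mul, ← hΦv, ← hΦv, map_pow, ← Units.val_mul, ← Units.val_mul, hkey j]
      by_cases hj : j = 0
      · subst hj; rfl
      · simp only [hj, if_false, if_true]
        exact h1

end CfsgLib.Case
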