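import Cfsg.Agent.Lib.Case.ExtraspecialHyp

/-!
The hypotheses of `lines_bound` when all nontrivial elements of `P` are conjugate.
-/

set_option autoImplicit false

namespace CfsgLib.Case

open Subgroup

variable {G : Type*} [Group G] [Finite G] {p : ℕ} [hp : Fact p.Prime]

theorem hy_of_conj (P : Sylow p G) (hE : Cfsg.IsExtraspecial p (P : Subgroup G))
    (hcard : Nat.card (P : Subgroup G) = p ^ 3) (hexp : ∀ x ∈ (P : Subgroup G), x ^ p = 1)
    (hconj : ∀ x y : (P : Subgroup G), x ≠ 1 → y ≠ 1 → ∃ g : G, g * (x : G) * g⁻¹ = (y : G))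
    {A : Subgroup G} (hA : Nat.card A = p ^ 2) (hAP : A ≤ (P : Subgroup G)) :
    ∃ a ∈ A, a ∉ (center (P : Subgroup G)).map (P : Subgroup G).subtype ∧
      ∃ y : G, y * a * y⁻¹ = a ∧
        (∃ z ∈ (center (P : Subgroup G)).map (P : Subgroup G).subtype, y * z * y⁻¹ ≠ z) ∧
        y ∈ normalizer (A : Set G) ∧ ∃ k, orderOf y = p ^ k := by
  set Z := (center (P : Subgroup G)).map (P : Subgroup G).subtype with hZ
  have hZc : Nat.card Z = p := by rw [hZ, card_subtype]; exact hE.2
  have hZA : Z ≤ A := (extraspecial_setup P hE hcard hA hAP).1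
  obtain ⟨⟨z, hz⟩, hzo⟩ := exists_prime_orderOf_dvd_card' p hZc.symm.dvd
  rw [orderOf_mk] at hzo
  have hz1 : z ≠ 1 := fun h => hp.out.ne_one (by rw [← hzo, h, orderOf_one])
  obtain ⟨a, ha, haZ⟩ : ∃ a ∈ A, a ∉ Z := by
    by_contra! h
    have := card_le_of_le (show A ≤ Z from h)
    rw [hA, hZc] at this
    nlinarith [hp.out.two_le]
  have haz : a ∉ zpowers z := fun h => haZ (zpowers_le.2 hz h)
  have hzA := hZA hz
  have hsup : zpowers z ⊔ zpowers a = A :=
    eq_of_le_of_card_ge (sup_le (zpowers_le.2 hzA) (zpowers_le.2 ha)) (by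
      rw [hA, card_pair (hexp z (hAP hzA)) (hexp a (hAP ha)) (isElementary_pair hA hzA ha) hz1 haz])
  obtain ⟨g, hg⟩ := hconj ⟨z, hAP hzA⟩ ⟨a, hAP ha⟩ (fun h => hz1 (congrArg Subtype.val h))
    (fun h => haZ (by rw [show a = 1 from congrArg Subtype.val h]; exact one_mem _))
  change g * z * g⁻¹ = a at hg
  set C := centralizer ({a} : Set G) with hC
  have hAC : A ≤ C := fun x hx => mem_centralizer_singleton_iff.2 (isElementary_pair hA hx ha)
  have hzC : ∀ x ∈ (P : Subgroup G), x * z = z * x := by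
    obtain ⟨z', hz', e⟩ := hz
    intro x hx
    rw [← e]
    exact congrArg Subtype.val (mem_center_iff.1 hz' ⟨x, hx⟩)
  have hgP : (P : Subgroup G).map (MulAut.conj g).toMonoidHom ≤ C := by
    rintro _ ⟨x, hx, rfl⟩
    refine mem_centralizer_singleton_iff.2 ?_
    show g * x * g⁻¹ * a = a * (g * x * g⁻¹)
    rw [← hg]
    calc g * x * g⁻¹ * (g * z * g⁻¹) = g * (x * z) * g⁻¹ := by group
      _ = g * (z * x) * g⁻¹ := by rw [hzC x hx]
      _ = _ := by group
  have hp3 : p ^ 3 ∣ Nat.card C := by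
    have h := card_dvd_of_le hgP
    rwa [card_map_of_injective (MulAut.conj g).injective, hcard] at h
  obtain ⟨S, hS⟩ := ((P.isPGroup'.to_le hAP).of_equiv (subgroupOfEquivOfLe hAC).symm).exists_le_sylow
  have hS3 : p ^ 3 ∣ Nat.card (S : Subgroup C) := S.pow_dvd_card_of_pow_dvd_card hp3
  obtain ⟨T, hT⟩ := (S.isPGroup'.map C.subtype).exists_le_sylow
  have hT3 : Nat.card (T : Subgroup G) = p ^ 3 :=
    (Nat.card_congr (T.equiv P).toEquiv).trans hcard
  have hST : (S : Subgroup C).map C.subtype = T :=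
    eq_of_le_of_card_ge hT (by
      rw [hT3, card_subtype]; exact Nat.le_of_dvd Nat.card_pos hS3)
  have hAT : A ≤ (T : Subgroup G) := by
    rw [← hST, ← map_subgroupOf_eq_of_le hAC]; exact map_mono hS
  have hTC : (T : Subgroup G) ≤ C := hST ▸ map_subtype_le _
  obtain ⟨y, hyT, hyz⟩ : ∃ y ∈ (T : Subgroup G), y * z * y⁻¹ ≠ z := by
    by_contra! h
    have hle : A.subgroupOf (T : Subgroup G) ≤ center (T : Subgroup G) := by
      intro x hx
      have hx' : (x : G) ∈ centralizer ((T : Subgroup G) : Set G) := by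
        have : A ≤ centralizer ((T : Subgroup G) : Set G) := by
          rw [← hsup]
          exact sup_le (zpowers_le.2 fun t ht => mul_inv_eq_iff_eq_mul.1 (h t ht))
            (zpowers_le.2 fun t ht => mem_centralizer_singleton_iff.1 (hTC ht))
        exact this hx
      exact mem_center_iff.2 fun t => Subtype.ext (hx' t t.2)
    have hc : Nat.card (center (T : Subgroup G)) = p :=
      (Nat.card_congr (centerCongr (T.equiv P)).toEquiv).trans hE.2
    have := card_le_of_le hle
    rw [Nat.card_congr (subgroupOfEquivOfLe hAT).toEquiv, hA, hc] at this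
    nlinarith [hp.out.two_le]
  have hnorm : (A.subgroupOf (T : Subgroup G)).Normal := by
    refine normal_of_index_eq_minFac_card ?_
    have h := (A.subgroupOf (T : Subgroup G)).index_mul_card
    rw [Nat.card_congr (subgroupOfEquivOfLe hAT).toEquiv, hA, hT3, pow_succ' p 2] at h
    rw [hT3, Nat.pow_minFac (by norm_num), hp.out.minFac_eq]
    exact Nat.eq_of_mul_eq_mul_right (pow_pos hp.out.pos 2) h
  obtain ⟨k, hk⟩ := IsPGroup.iff_orderOf.1 T.isPGroup' ⟨y, hyT⟩
  refine ⟨a, ha, haZ, y, ?_, ⟨z, hz, hyz⟩,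
    (normal_subgroupOf_iff_le_normalizer hAT).1 hnorm hyT, k, ?_⟩
  · exact mul_inv_eq_iff_eq_mul.2 (mem_centralizer_singleton_iff.1 (hTC hyT))
  · rwa [orderOf_mk] at hk

/-- An injective family of `p` subgroups of order `p²` in `P`. -/
theorem exists_max_family (P : Sylow p G) (hE : Cfsg.IsExtraspecial p (P : Subgroup G))
    (hcard : Nat.card (P : Subgroup G) = p ^ 3) (hexp : ∀ x ∈ (P : Subgroup G), x ^ p = 1) :
    ∃ A : ZMod p → Subgroup G, Function.Injective A ∧ (∀ i, A i ≤ (P : Subgroup G)) ∧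
      ∀ i, Nat.card (A i) = p ^ 2 := by
  obtain ⟨⟨z, hz⟩, hzo⟩ := exists_prime_orderOf_dvd_card' p hE.2.symm.dvd
  rw [orderOf_mk] at hzo
  obtain ⟨x, hx⟩ : ∃ x : (P : Subgroup G), x ∉ center (P : Subgroup G) := by
    by_contra! h
    have := card_le_of_le (show (⊤ : Subgroup (P : Subgroup G)) ≤ center (P : Subgroup G) from
      fun x _ => h x)
    rw [card_top, hcard, hE.2] at this
    have h2 := hp.out.two_le
    nlinarith [Nat.mul_le_mul h2 h2]
  obtain ⟨w, hw⟩ : ∃ w, w * x ≠ x * w := by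
    simpa [mem_center_iff] using hx
  have hwp : (w : G) ^ p = 1 := hexp _ w.2
  let a : ZMod p → G := fun t => ((x * w ^ t.val : (P : Subgroup G)) : G)
  have hzc : ∀ u : (P : Subgroup G), Commute (z : G) (u : G) := fun u =>
    (congrArg Subtype.val (mem_center_iff.1 hz u)).symm
  have hz1 : (z : G) ≠ 1 := fun h => hp.out.ne_one (by
    rw [← hzo, ← orderOf_coe, h, orderOf_one])
  have haz : ∀ t, a t ∉ zpowers (z : G) := by
    intro t h
    obtain ⟨j, hj⟩ := mem_zpowers_iff.1 h
    have hmem : x * w ^ t.val ∈ center (P : Subgroup G) := by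
      rw [show x * w ^ t.val = z ^ j from Subtype.ext (by simpa [a] using hj.symm)]
      exact zpow_mem hz j
    have e := mem_center_iff.1 hmem w
    rw [mul_assoc, ← pow_succ, pow_succ', ← mul_assoc, ← mul_assoc] at e
    exact hw (mul_right_cancel e)
  refine ⟨fun t => zpowers (z : G) ⊔ zpowers (a t), ?_, fun t => sup_le
    (zpowers_le.2 z.2) (zpowers_le.2 (x * w ^ t.val).2), fun t =>
    card_pair (hexp _ z.2) (hexp _ (x * w ^ t.val).2) (hzc _) hz1 (haz t)⟩
  intro s t hst
  by_contra hne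
  set B := zpowers (z : G) ⊔ zpowers (a t)
  have hB : Nat.card B = p ^ 2 := card_pair (hexp _ z.2) (hexp _ (x * w ^ t.val).2) (hzc _) hz1 (haz t)
  have hs : a s ∈ B := by
    have : a s ∈ zpowers (z : G) ⊔ zpowers (a s) := mem_sup_right (mem_zpowers _)
    rw [show zpowers (z : G) ⊔ zpowers (a s) = B from hst] at this
    exact this
  have hd : (w : G) ^ (t - s).val ∈ B := by
    have e : (a s)⁻¹ * a t = (w : G) ^ (t - s).val := by
      rw [inv_mul_eq_iff_eq_mul]
      show (x : G) * (w : G) ^ t.val = (x : G) * (w : G) ^ s.val * (w : G) ^ (t - s).val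
      rw [mul_assoc, ← zmod_pow_add hwp, add_sub_cancel]
    exact e ▸ mul_mem (inv_mem hs) (mem_sup_right (mem_zpowers _))
  have hwB : (w : G) ∈ B := by
    have e : (w : G) = ((w : G) ^ (t - s).val) ^ ((t - s)⁻¹).val := by
      rw [← zmod_pow_mul hwp, mul_inv_cancel₀ (sub_ne_zero.2 (Ne.symm hne)), ZMod.val_one, pow_one]
    rw [e]; exact pow_mem hd _
  have hxB : (x : G) ∈ B := by
    have e : (x : G) = a t * ((w : G) ^ t.val)⁻¹ := by
      show (x : G) = (x : G) * (w : G) ^ t.val * ((w : G) ^ t.val)⁻¹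
      rw [mul_inv_cancel_right]
    rw [e]; exact mul_mem (mem_sup_right (mem_zpowers _)) (inv_mem (pow_mem hwB _))
  exact hw (Subtype.ext (isElementary_pair hB hwB hxB))

end CfsgLib.Case
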