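import Cfsg.Prelude.Def_Transfer
import Cfsg.Agent.Lib.PSL2Sub.Transfer
import Cfsg.Agent.Lib.Solvable.Basic
import Mathlib.GroupTheory.PGroup
import Mathlib.GroupTheory.SpecificGroups.Dihedral
import Mathlib.FieldTheory.Finite.Basic
import Mathlib.LinearAlgebra.Matrix.ToLin
import Mathlib.Tactic

/-!
Sylow subgroups which are extraspecial of order p³ and exponent p: subgroups of order p² with
large automizers, and the bound p ≤ 13 when there are three of them.
-/

set_option autoImplicit false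
set_option linter.style.haveILetI false

namespace CfsgLib.Case

open Subgroup Matrix

/-! ### p'-subgroups of PGL₂(p) -/

theorem commute_of_cyclic_or_dihedral {X : Type*} [Group X] [Finite X]
    (h : IsCyclic X ∨ ∃ n : ℕ, Nonempty (X ≃* DihedralGroup n)) {x y : X}
    (hx : 2 < orderOf x) (hy : 2 < orderOf y) : Commute x y := by
  rcases h with h | ⟨n, ⟨e⟩⟩
  · exact IsCyclic.commutative.is_comm.comm x y
  · refine e.injective ?_
    rw [map_mul, map_mul]
    have hx' : 2 < orderOf (e x) := by rwa [e.orderOf_eq]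
    have hy' : 2 < orderOf (e y) := by rwa [e.orderOf_eq]
    revert hx' hy'
    generalize e x = u
    generalize e y = v
    intro hu hv
    cases u with
    | r i =>
      cases v with
      | r j => rw [DihedralGroup.r_mul_r, DihedralGroup.r_mul_r, add_comm]
      | sr j => rw [DihedralGroup.orderOf_sr] at hv; omega
    | sr i => rw [DihedralGroup.orderOf_sr] at hu; omega

theorem pow_eq_one_alt_five : ∀ g : alternatingGroup (Fin 5),
    g ^ 1 = 1 ∨ g ^ 2 = 1 ∨ g ^ 3 = 1 ∨ g ^ 5 = 1 := by decide +kernel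

theorem pow_eq_one_alt_four : ∀ g : alternatingGroup (Fin 4),
    g ^ 1 = 1 ∨ g ^ 2 = 1 ∨ g ^ 3 = 1 := by decide +kernel

theorem pow_eq_one_perm_four : ∀ g : Equiv.Perm (Fin 4),
    g ^ 1 = 1 ∨ g ^ 2 = 1 ∨ g ^ 3 = 1 ∨ g ^ 4 = 1 := by decide +kernel

theorem orderOf_le_of {X : Type*} [Group X] {x : X} {n k : ℕ} (h : x ^ k = 1) (hk : 0 < k)
    (hn : k ≤ n) : orderOf x ≤ n :=
  (Nat.le_of_dvd hk (orderOf_dvd_of_pow_eq_one h)).trans hn

/-- The possibilities for a subgroup of order prime to `p` of `PGL₂(p)`. -/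
theorem pgl_pprime_cases {p : ℕ} [Fact p.Prime]
    (H : Subgroup (CfsgLib.PSL2Sub.PG (ZMod p))) (hH : ¬ p ∣ Nat.card H) :
    (IsCyclic H ∨ ∃ n : ℕ, Nonempty (H ≃* DihedralGroup n)) ∨
      (∀ x : H, orderOf x ≤ 3) ∨ (∀ x : H, orderOf x ≤ 5 ∧ orderOf x ≠ 4) ∨
      Nonempty (H ≃* Equiv.Perm (Fin 4)) := by
  rcases CfsgLib.PSL2Sub.classify_finite p H with h | h | h | h | h | h | h
  · exact Or.inl (Or.inl h.1)
  · obtain ⟨A, -, -, -, -, hd⟩ := h
    exact Or.inl (Or.inr ⟨_, hd⟩)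
  · exact absurd h.1 hH
  · obtain ⟨e⟩ := h.2
    refine Or.inr (Or.inl fun x => ?_)
    rw [← e.orderOf_eq]
    rcases pow_eq_one_alt_four (e x) with h | h | h <;> exact orderOf_le_of h (by norm_num) (by norm_num)
  · exact Or.inr (Or.inr (Or.inr h.2))
  · obtain ⟨e⟩ := h.2
    refine Or.inr (Or.inr (Or.inl fun x => ?_))
    rw [← e.orderOf_eq]
    rcases pow_eq_one_alt_five (e x) with h | h | h | h
    all_goals
      have hd := orderOf_dvd_of_pow_eq_one h
      refine ⟨orderOf_le_of h (by norm_num) (by norm_num), fun h4 => ?_⟩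
      rw [h4] at hd
      norm_num at hd
  · obtain ⟨g₀, E, -, hpts, -⟩ := h
    obtain ⟨x, hx, hxp, -⟩ := (hpts (g₀ • OnePoint.infty)).2
      ⟨OnePoint.infty, by rw [inv_smul_smul]; rfl⟩
    refine absurd ?_ hH
    have ho : orderOf x = p := orderOf_eq_prime (Subtype.ext hxp) hx
    have hd := _root_.orderOf_dvd_natCard x
    rw [ho] at hd
    exact hd

/-! ### Transvections -/

section Line

variable {G : Type*} [Group G] {p : ℕ}

/-- The map of `ZMod p × ZMod p` is induced by conjugation, in coordinates `ψ`. -/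
def Induced (ψ : ZMod p × ZMod p → G) (f : ZMod p × ZMod p → ZMod p × ZMod p) : Prop :=
  ∃ g : G, ∀ v, g * ψ v * g⁻¹ = ψ (f v)

theorem induced_comp {ψ : ZMod p × ZMod p → G} {f f' : ZMod p × ZMod p → ZMod p × ZMod p}
    (h : Induced ψ f) (h' : Induced ψ f') : Induced ψ (f ∘ f') := by
  obtain ⟨g, hg⟩ := h
  obtain ⟨g', hg'⟩ := h'
  refine ⟨g * g', fun v => ?_⟩
  rw [Function.comp_apply, ← hg, ← hg']
  group

theorem induced_id (ψ : ZMod p × ZMod p → G) : Induced ψ id := ⟨1, fun v => by simp⟩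

/-- Transvection in the first coordinate. -/
def tx (t : ZMod p) (v : ZMod p × ZMod p) : ZMod p × ZMod p := (v.1 + t * v.2, v.2)

/-- Transvection in the second coordinate. -/
def ty (t : ZMod p) (v : ZMod p × ZMod p) : ZMod p × ZMod p := (v.1, v.2 + t * v.1)

variable [Fact p.Prime]

theorem induced_tx_all {ψ : ZMod p × ZMod p → G} {s : ZMod p} (hs : s ≠ 0)
    (h : Induced ψ (tx s)) (t : ZMod p) : Induced ψ (tx t) := by
  have hk : ∀ k : ℕ, Induced ψ (tx ((k : ZMod p) * s)) := by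
    intro k
    induction k with
    | zero =>
      have : (tx (p := p) ((0 : ℕ) * s)) = id := by funext v; simp [tx]
      rw [this]; exact induced_id ψ
    | succ k ih =>
      have : (tx (((k + 1 : ℕ) : ZMod p) * s)) = tx s ∘ tx ((k : ZMod p) * s) := by
        funext v; simp [tx]; ring
      rw [this]; exact induced_comp h ih
  have := hk (t / s).val
  rwa [ZMod.natCast_zmod_val, div_mul_cancel₀ t hs] at this

theorem induced_ty_all {ψ : ZMod p × ZMod p → G} {s : ZMod p} (hs : s ≠ 0)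
    (h : Induced ψ (ty s)) (t : ZMod p) : Induced ψ (ty t) := by
  have hk : ∀ k : ℕ, Induced ψ (ty ((k : ZMod p) * s)) := by
    intro k
    induction k with
    | zero =>
      have : (ty (p := p) ((0 : ℕ) * s)) = id := by funext v; simp [ty]
      rw [this]; exact induced_id ψ
    | succ k ih =>
      have : (ty (((k + 1 : ℕ) : ZMod p) * s)) = ty s ∘ ty ((k : ZMod p) * s) := by
        funext v; simp [ty]; ring
      rw [this]; exact induced_comp h ih
  have := hk (t / s).val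
  rwa [ZMod.natCast_zmod_val, div_mul_cancel₀ t hs] at this

theorem induced_diag {ψ : ZMod p × ZMod p → G} (hx : ∀ t, Induced ψ (tx t))
    (hy : ∀ t, Induced ψ (ty t)) {l : ZMod p} (hl : l ≠ 0) :
    Induced ψ (fun v => (l * v.1, l⁻¹ * v.2)) := by
  have h := induced_comp (induced_comp (induced_comp (hx l) (hy (-l⁻¹))) (hx l))
    (induced_comp (induced_comp (hx (-1)) (hy 1)) (hx (-1)))
  convert h using 1
  funext v
  simp only [Function.comp_apply, tx, ty, Prod.mk.injEq]
  constructor <;> field_simp <;> ring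

theorem zmod_pow_val {A : Type*} [Group A] {a : A} (ha : a ^ p = 1) (i : ℕ) :
    a ^ ((i : ZMod p)).val = a ^ i := by
  rw [ZMod.val_natCast, ← pow_eq_pow_mod i ha]

theorem zmod_pow_add {A : Type*} [Group A] {a : A} (ha : a ^ p = 1) (i j : ZMod p) :
    a ^ (i + j).val = a ^ i.val * a ^ j.val := by
  rw [ZMod.val_add, ← pow_eq_pow_mod _ ha, pow_add]

theorem zmod_pow_mul {A : Type*} [Group A] {a : A} (ha : a ^ p = 1) (i j : ZMod p) :
    a ^ (i * j).val = (a ^ i.val) ^ j.val := by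
  rw [ZMod.val_mul, ← pow_eq_pow_mod _ ha, pow_mul]

end Line

/-! ### The normalizer of the Sylow subgroup -/

variable {G : Type*} [Group G] [Finite G] {p : ℕ} [hp : Fact p.Prime]

/-- `g` normalizes `P`, raises the central element `z` to `l` and `a` to `l⁻¹` modulo the centre. -/
def DiagElt (P : Sylow p G) (z a : G) (l : ZMod p) (g : G) : Prop :=
  g ∈ normalizer ((P : Subgroup G) : Set G) ∧ g * z * g⁻¹ = z ^ l.val ∧
    g * a * g⁻¹ * (a ^ (l⁻¹).val)⁻¹ ∈ zpowers z

theorem isElementary_pair {z a : G} {A : Subgroup G} (hA : Nat.card A = p ^ 2) (hzA : z ∈ A)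
    (haA : a ∈ A) : Commute z a :=
  congrArg Subtype.val (IsPGroup.commutative_of_card_eq_prime_sq hA ⟨z, hzA⟩ ⟨a, haA⟩)

/-- A transvection pair on `A` gives a diagonal element of `N(P)`. -/
theorem exists_diagElt (P : Sylow p G) {A : Subgroup G} (hA : Nat.card A = p ^ 2)
    (hAP : A ≤ (P : Subgroup G)) (hexp : ∀ x ∈ (P : Subgroup G), x ^ p = 1) {z a : G}
    (hzA : z ∈ A) (haA : a ∈ A) (hzC : ∀ x ∈ (P : Subgroup G), x * z = z * x)
    (hcomm : ∀ x ∈ (P : Subgroup G), x * a * x⁻¹ * a⁻¹ ∈ zpowers z)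
    (hnc : ∃ x ∈ (P : Subgroup G), x * a * x⁻¹ ≠ a)
    (hz1 : z ≠ 1) (haz : a ∉ zpowers z)
    (hy : ∃ y : G, y * a * y⁻¹ = a ∧ y * z * y⁻¹ ≠ z ∧
      y ∈ normalizer (A : Set G) ∧ ∃ i, orderOf y = p ^ i)
    {l : ZMod p} (hl : l ≠ 0) : ∃ g, DiagElt P z a l g := by
  classical
  have hza := isElementary_pair hA hzA haA
  have hzp : z ^ p = 1 := hexp z (hAP hzA)
  have hap : a ^ p = 1 := hexp a (hAP haA)
  have hzo : orderOf z = p := orderOf_eq_prime hzp hz1
  set ψ : ZMod p × ZMod p → G := fun v => z ^ v.1.val * a ^ v.2.val with hψ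
  have hψA : ∀ v, ψ v ∈ A := fun v => mul_mem (pow_mem hzA _) (pow_mem haA _)
  have hψadd : ∀ v w, ψ (v + w) = ψ v * ψ w := fun v w => by
    simp only [hψ, Prod.fst_add, Prod.snd_add]
    rw [zmod_pow_add hzp, zmod_pow_add hap, mul_assoc, ← mul_assoc (z ^ w.1.val),
      ((hza.pow_pow w.1.val v.2.val)).eq]
    simp only [mul_assoc]
  have hψinj : ∀ v w, ψ v = ψ w → v = w := by
    intro v w h
    have h0 : ψ (v - w) = 1 := by
      have := hψadd (v - w) w
      rw [sub_add_cancel, h, right_eq_mul] at this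
      exact this
    simp only [hψ, mul_eq_one_iff_eq_inv] at h0
    have h2 : (v - w).2 = 0 := by
      by_contra h2
      refine haz ?_
      have e : a = (a ^ (v - w).2.val) ^ ((v - w).2⁻¹).val := by
        rw [← zmod_pow_mul hap, mul_inv_cancel₀ h2, ZMod.val_one, pow_one]
      rw [e]
      refine pow_mem ?_ _
      have : a ^ (v - w).2.val = (z ^ (v - w).1.val)⁻¹ := by rw [h0, inv_inv]
      rw [this]
      exact inv_mem (pow_mem (mem_zpowers z) _)
    have h1 : (v - w).1 = 0 := by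
      rw [h2, ZMod.val_zero, pow_zero, inv_one, ← orderOf_dvd_iff_pow_eq_one, hzo] at h0
      exact (ZMod.val_eq_zero _).1 (Nat.eq_zero_of_dvd_of_lt h0 (ZMod.val_lt _))
    exact sub_eq_zero.1 (Prod.ext h1 h2)
  have hψsurj : ∀ x ∈ A, ∃ v, ψ v = x := by
    let e : ZMod p × ZMod p → A := fun v => ⟨ψ v, hψA v⟩
    have hi : Function.Injective e := fun v w h => hψinj v w (congrArg Subtype.val h)
    have hc : Nat.card (ZMod p × ZMod p) = Nat.card A := by
      rw [Nat.card_prod, Nat.card_zmod, hA, sq]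
    intro x hx
    obtain ⟨v, hv⟩ := ((Nat.bijective_iff_injective_and_card e).2 ⟨hi, hc⟩).2 ⟨x, hx⟩
    exact ⟨v, congrArg Subtype.val hv⟩
  have hψe1 : ψ (1, 0) = z := by simp [hψ, ZMod.val_one]
  have hψe2 : ψ (0, 1) = a := by simp [hψ, ZMod.val_one]
  -- a conjugation is determined by the images of `z` and `a`
  have hlin : ∀ (g : G) (u w : ZMod p × ZMod p), g * z * g⁻¹ = ψ u → g * a * g⁻¹ = ψ w →
      ∀ v, g * ψ v * g⁻¹ = ψ (v.1 * u.1 + v.2 * w.1, v.1 * u.2 + v.2 * w.2) := by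
    intro g u w hu hw v
    have hpow : ∀ (n : ℕ) (x : ZMod p × ZMod p), (ψ x) ^ n = ψ (n • x) := fun n x => by
      induction n with
      | zero => simp [hψ]
      | succ n ih => rw [pow_succ, ih, succ_nsmul, hψadd]
    calc g * ψ v * g⁻¹ = (g * z * g⁻¹) ^ v.1.val * (g * a * g⁻¹) ^ v.2.val := by
          rw [conj_pow, conj_pow, hψ]; group
      _ = _ := by
          rw [hu, hw, hpow, hpow, ← hψadd]
          congr 1
          ext <;> simp
  -- both transvection groups
  have hPA : ∀ x ∈ (P : Subgroup G), ∃ s : ZMod p, x * a * x⁻¹ = ψ (s, 1) := by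
    intro x hx
    obtain ⟨i, hi⟩ := mem_zpowers_iff.1 (hcomm x hx)
    refine ⟨(i : ZMod p), ?_⟩
    have e : x * a * x⁻¹ = z ^ i * a := by rw [hi]; group
    rw [e, hψ]
    simp only [ZMod.val_one, pow_one]
    congr 1
    rw [← zpow_natCast, zpow_eq_zpow_iff_modEq, hzo, ← ZMod.intCast_eq_intCast_iff]
    simp
  have htx : ∀ t, Induced ψ (tx t) := by
    obtain ⟨x, hx, hxa⟩ := hnc
    obtain ⟨s, hs⟩ := hPA x hx
    refine induced_tx_all (s := s) (fun h0 => hxa (by rw [hs, h0, hψe2])) ⟨x, fun v => ?_⟩ 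
    rw [hlin x (1, 0) (s, 1) (by rw [hψe1, hzC x hx, mul_inv_cancel_right]) hs]
    congr 1
    ext <;> simp [tx, mul_comm]
  have hty : ∀ t, Induced ψ (ty t) := by
    obtain ⟨y, hya, hyz, hyA, i, hyo⟩ := hy
    obtain ⟨u, hu⟩ := hψsurj _ ((mem_normalizer_iff.1 hyA z).1 hzA)
    have hyv : ∀ v, y * ψ v * y⁻¹ = ψ (v.1 * u.1, v.1 * u.2 + v.2) := fun v => by
      rw [hlin y u (0, 1) hu.symm (by rw [hψe2]; exact hya)]
      simp
    have hiter : ∀ n : ℕ, ∃ b, y ^ n * z * (y ^ n)⁻¹ = ψ (u.1 ^ n, b) := by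
      intro n
      induction n with
      | zero => exact ⟨0, by rw [pow_zero, pow_zero, hψe1]; group⟩
      | succ n ih =>
        obtain ⟨b, hb⟩ := ih
        refine ⟨u.1 ^ n * u.2 + b, ?_⟩
        calc y ^ (n + 1) * z * (y ^ (n + 1))⁻¹ = y * (y ^ n * z * (y ^ n)⁻¹) * y⁻¹ := by
              rw [pow_succ']; group
          _ = _ := by rw [hb, hyv, pow_succ]
    have hu1 : u.1 = 1 := by
      obtain ⟨b, hb⟩ := hiter (p ^ i)
      rw [← hyo, pow_orderOf_eq_one, one_mul, inv_one, mul_one, ← hψe1] at hb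
      have := congrArg Prod.fst (hψinj _ _ hb)
      rw [hyo, ZMod.pow_card_pow] at this
      exact this.symm
    refine induced_ty_all (s := u.2) (fun h0 => hyz ?_) ⟨y, fun v => ?_⟩
    · rw [← hu, ← hψe1]
      congr 1
      exact Prod.ext hu1 h0
    · rw [hyv]
      congr 1
      ext <;> simp [ty, hu1, mul_comm, add_comm]
  obtain ⟨g, hg⟩ := induced_diag htx hty hl
  have hgz : g * z * g⁻¹ = z ^ l.val := by
    rw [← hψe1, hg, hψe1]; simp [hψ]
  have hga : g * a * g⁻¹ = a ^ (l⁻¹).val := by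
    rw [← hψe2, hg, hψe2]; simp [hψ]
  -- move it into the normalizer of `P`
  set C := centralizer (A : Set G) with hC
  have hAn : ∀ x ∈ (P : Subgroup G), x ∈ normalizer (A : Set G) := by
    intro x hx
    refine Subgroup.mem_normalizer_fintype fun w hw => ?_
    obtain ⟨v, rfl⟩ := hψsurj w hw
    obtain ⟨s, hs⟩ := hPA x hx
    rw [hlin x (1, 0) (s, 1) (by rw [hψe1, hzC x hx, mul_inv_cancel_right]) hs]
    exact hψA _
  have hCn : ∀ x ∈ normalizer (A : Set G), x ∈ normalizer (C : Set G) := by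
    intro x hx
    refine Subgroup.mem_normalizer_fintype fun c hc w hw => ?_
    have h := hc _ ((mem_normalizer_iff.1 (inv_mem hx) w).1 hw)
    rw [inv_inv] at h
    calc w * (x * c * x⁻¹) = x * ((x⁻¹ * w * x) * c) * x⁻¹ := by group
      _ = x * (c * (x⁻¹ * w * x)) * x⁻¹ := by rw [h]
      _ = _ := by group
  set X := (P : Subgroup G) ⊔ C with hX
  have hPC : ∀ x ∈ X, ∃ u ∈ (P : Subgroup G), ∃ c ∈ C, x = c * u := by
    intro x hx
    rw [hX, sup_comm] at hx
    have hPn : (P : Subgroup G) ≤ normalizer (C : Set G) := fun y hy => hCn y (hAn y hy)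
    obtain ⟨c, hc, u, hu, rfl⟩ := (CfsgLib.Solvable.mem_sup_of_le_normalizer hPn).1 hx
    exact ⟨u, hu, c, hc, rfl⟩
  have hgP : (P : Subgroup G).map (MulAut.conj g).toMonoidHom ≤ X := by
    rintro _ ⟨x, hx, rfl⟩
    obtain ⟨s, hs⟩ := hPA x hx
    obtain ⟨x₀, hx₀, hx₀a⟩ := hnc
    obtain ⟨s₀, hs₀⟩ := hPA x₀ hx₀
    have hs0 : s₀ ≠ 0 := fun h0 => hx₀a (by rw [hs₀, h0, hψe2])
    set n := (l * l * s / s₀).val with hn
    have hxn : ∀ m : ℕ, x₀ ^ m * a * (x₀ ^ m)⁻¹ = ψ ((m : ZMod p) * s₀, 1) := by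
      intro m
      induction m with
      | zero => rw [Nat.cast_zero, zero_mul, hψe2]; simp
      | succ m ih =>
        calc x₀ ^ (m + 1) * a * (x₀ ^ (m + 1))⁻¹ = x₀ * (x₀ ^ m * a * (x₀ ^ m)⁻¹) * x₀⁻¹ := by
              rw [pow_succ']; group
          _ = _ := by
            rw [ih, hlin x₀ (1, 0) (s₀, 1) (by rw [hψe1, hzC x₀ hx₀, mul_inv_cancel_right]) hs₀]
            congr 1
            ext <;> simp [add_mul, add_comm]
    set x' := g * x * g⁻¹ with hx'
    set v := x₀ ^ n with hv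
    have hvP : v ∈ (P : Subgroup G) := pow_mem hx₀ n
    have key : ∀ w ∈ A, x' * w * x'⁻¹ = v * w * v⁻¹ := by
      intro w hw
      obtain ⟨w, rfl⟩ := hψsurj w hw
      have hgi : ∀ u, g⁻¹ * ψ u * g = ψ (l⁻¹ * u.1, l * u.2) := fun u => by
        have h := hg (l⁻¹ * u.1, l * u.2)
        simp only [← mul_assoc, mul_inv_cancel₀ hl, inv_mul_cancel₀ hl, one_mul] at h
        rw [← h]; group
      rw [hlin v (1, 0) ((n : ZMod p) * s₀, 1)
        (by rw [hψe1, hzC v hvP, mul_inv_cancel_right]) (hxn n)]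
      calc x' * ψ w * x'⁻¹ = g * (x * (g⁻¹ * ψ w * g) * x⁻¹) * g⁻¹ := by rw [hx']; group
        _ = _ := by
          rw [hgi, hlin x (1, 0) (s, 1) (by rw [hψe1, hzC x hx, mul_inv_cancel_right]) hs, hg]
          congr 1
          rw [hn, ZMod.natCast_zmod_val, div_mul_cancel₀ _ hs0]
          ext <;> simp only [Prod.mk.injEq] <;> field_simp <;> ring
    have hc : v⁻¹ * x' ∈ C := by
      intro w hw
      have h := key w hw
      calc w * (v⁻¹ * x') = v⁻¹ * (v * w * v⁻¹) * x' := by group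
        _ = v⁻¹ * (x' * w * x'⁻¹) * x' := by rw [h]
        _ = _ := by group
    show x' ∈ X
    rw [show x' = v * (v⁻¹ * x') by group]
    exact mul_mem (mem_sup_left hvP) (mem_sup_right hc)
  have hPX : (P : Subgroup G) ≤ X := le_sup_left
  have hgPX : ((g • P : Sylow p G) : Subgroup G) ≤ X := by
    rw [Sylow.coe_subgroup_smul]; exact hgP
  obtain ⟨h, hh⟩ := MulAction.exists_smul_eq X ((g • P).subtype hgPX) (P.subtype hPX)
  rw [Sylow.smul_subtype] at hh
  have hh' : (h : G) • g • P = P := Sylow.subtype_injective hh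
  obtain ⟨u, hu, c, hc, hhc⟩ := hPC h h.2
  refine ⟨(h : G) * g, ?_, ?_, ?_⟩
  · exact Sylow.smul_eq_iff_mem_normalizer.1 (by rw [mul_smul]; exact hh')
  all_goals
    have hcfix : ∀ w ∈ A, c * w * c⁻¹ = w := fun w hw => by
      rw [← hc w hw, mul_inv_cancel_right]
  · calc (h : G) * g * z * ((h : G) * g)⁻¹ = (c * u) * (g * z * g⁻¹) * (c * u)⁻¹ := by
          rw [hhc]; group
      _ = c * (u * z ^ l.val * u⁻¹) * c⁻¹ := by rw [hgz]; group
      _ = _ := by
        rw [← conj_pow, hzC u hu, mul_inv_cancel_right, hcfix _ (pow_mem hzA _)]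
  · obtain ⟨s, hs⟩ := hPA u hu
    have e : (h : G) * g * a * ((h : G) * g)⁻¹ = (ψ (s, 1)) ^ (l⁻¹).val := by
      calc (h : G) * g * a * ((h : G) * g)⁻¹ = (c * u) * (g * a * g⁻¹) * (c * u)⁻¹ := by
            rw [hhc]; group
        _ = c * (u * a ^ (l⁻¹).val * u⁻¹) * c⁻¹ := by rw [hga]; group
        _ = _ := by rw [← conj_pow, hs, hcfix _ (pow_mem (hψA _) _)]
    rw [e, hψ]
    simp only [ZMod.val_one, pow_one]
    rw [(hza.pow_left s.val).mul_pow, mul_inv_cancel_right]
    exact pow_mem (pow_mem (mem_zpowers z) _) _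

/-! ### Lines fixed by commuting elements -/

variable {V : Type*} [AddCommGroup V] [Module (ZMod p) V]

omit [Finite G] in
/-- Three distinct lines, each an eigenline of one of two commuting nonscalar maps, in a plane:
contradiction. -/
theorem no_three_eigenlines (hV : Module.finrank (ZMod p) V = 2) [Module.Finite (ZMod p) V]
    (T : Fin 3 → V →ₗ[ZMod p] V) (v : Fin 3 → V) (c : Fin 3 → ZMod p)
    (hv : ∀ i, v i ≠ 0) (hind : ∀ i j, i ≠ j → ∀ t : ZMod p, v j ≠ t • v i)
    (heig : ∀ i, T i (v i) = c i • v i) (hns : ∀ i, ∀ t : ZMod p, T i ≠ t • LinearMap.id)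
    (hcomm : ∀ j, T j ∘ₗ T 0 = T 0 ∘ₗ T j) : False := by
  classical
  -- two independent vectors span
  have span2 : ∀ u w : V, u ≠ 0 → (∀ t : ZMod p, w ≠ t • u) →
      ∀ x : V, ∃ r s : ZMod p, x = r • u + s • w := by
    intro u w hu hw x
    have hli : LinearIndependent (ZMod p) ![u, w] := by
      rw [LinearIndependent.pair_iff' hu]
      exact fun t => (hw t).symm
    have htop := hli.span_eq_top_of_card_eq_finrank (by simp [hV])
    have hx : x ∈ Submodule.span (ZMod p) (Set.range ![u, w]) := htop ▸ Submodule.mem_top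
    rw [Matrix.range_cons, Matrix.range_cons, Matrix.range_empty, Set.union_empty,
      Set.singleton_union, Submodule.mem_span_pair] at hx
    obtain ⟨r, s, h⟩ := hx
    exact ⟨r, s, h.symm⟩
  -- each line is invariant under `T 0`
  have hinv : ∀ j, ∃ d : ZMod p, T 0 (v j) = d • v j := by
    intro j
    by_contra hd
    push Not at hd
    refine hns j (c j) (LinearMap.ext fun x => ?_)
    obtain ⟨r, s, rfl⟩ := span2 (v j) (T 0 (v j)) (hv j) hd x
    have e : T j (T 0 (v j)) = c j • T 0 (v j) := by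
      have := LinearMap.congr_fun (hcomm j) (v j)
      rw [LinearMap.comp_apply, LinearMap.comp_apply, heig j, map_smul] at this
      exact this
    simp [map_add, map_smul, heig j, e, smul_comm (c j)]
  obtain ⟨d0, h0⟩ := hinv 0
  obtain ⟨d1, h1⟩ := hinv 1
  obtain ⟨d2, h2⟩ := hinv 2
  obtain ⟨r, s, hrs⟩ := span2 (v 0) (v 1) (hv 0) (hind 0 1 (by decide)) (v 2)
  have hr : r ≠ 0 := fun h => hind 1 2 (by decide) s (by rw [hrs, h]; simp)
  have hs : s ≠ 0 := fun h => hind 0 2 (by decide) r (by rw [hrs, h]; simp)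
  have hli : LinearIndependent (ZMod p) ![v 0, v 1] := by
    rw [LinearIndependent.pair_iff' (hv 0)]
    exact fun t => (hind 0 1 (by decide) t).symm
  have e : (r * (d0 - d2)) • v 0 + (s * (d1 - d2)) • v 1 = 0 := by
    have := h2
    rw [hrs, map_add, map_smul, map_smul, h0, h1, smul_add, smul_smul, smul_smul, smul_smul,
      smul_smul] at this
    rw [mul_sub, mul_sub, sub_smul, sub_smul, mul_comm r d2, mul_comm s d2]
    rw [sub_add_sub_comm, this, sub_self]
  obtain ⟨e0, e1⟩ := LinearIndependent.pair_iff.1 hli _ _ e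
  have hd0 : d0 = d2 := sub_eq_zero.1 ((mul_eq_zero.1 e0).resolve_left hr)
  have hd1 : d1 = d2 := sub_eq_zero.1 ((mul_eq_zero.1 e1).resolve_left hs)
  refine hns 0 d2 (LinearMap.ext fun x => ?_)
  obtain ⟨a, b, rfl⟩ := span2 (v 0) (v 1) (hv 0) (hind 0 1 (by decide)) x
  simp [map_add, map_smul, h0, h1, hd0, hd1, smul_comm d2]

end CfsgLib.Case
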