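import Cfsg.Agent.Lib.Case.ExtraspecialBound
import Mathlib.Algebra.Group.Subgroup.Finite
import Mathlib.Combinatorics.Pigeonhole

/-!
Verifying the hypotheses of `lines_bound`, and reading off the bounds on `p`.
-/

set_option autoImplicit false
set_option linter.style.haveILetI false

namespace CfsgLib.Case

open Subgroup

variable {G : Type*} [Group G] {p : ℕ} [hp : Fact p.Prime]

/-- The map `(i, j) ↦ z ^ i * a ^ j` for commuting elements killed by `p`. -/
def pairHom {z a : G} (hz : z ^ p = 1) (ha : a ^ p = 1) (hc : Commute z a) :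
    Multiplicative (ZMod p × ZMod p) →* G where
  toFun v := z ^ v.toAdd.1.val * a ^ v.toAdd.2.val
  map_one' := by simp
  map_mul' v w := by
    rw [toAdd_mul, Prod.fst_add, Prod.snd_add, zmod_pow_add hz, zmod_pow_add ha, mul_assoc,
      ← mul_assoc (z ^ w.toAdd.1.val), (hc.pow_pow w.toAdd.1.val v.toAdd.2.val).eq]
    simp only [mul_assoc]

theorem pairHom_range {z a : G} (hz : z ^ p = 1) (ha : a ^ p = 1) (hc : Commute z a) :
    (pairHom hz ha hc).range = zpowers z ⊔ zpowers a := by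
  refine le_antisymm ?_ (sup_le (zpowers_le.2 ⟨Multiplicative.ofAdd (1, 0), ?_⟩)
    (zpowers_le.2 ⟨Multiplicative.ofAdd (0, 1), ?_⟩))
  · rintro _ ⟨v, rfl⟩
    exact mul_mem (mem_sup_left (pow_mem (mem_zpowers z) _))
      (mem_sup_right (pow_mem (mem_zpowers a) _))
  · simp [pairHom, ZMod.val_one]
  · simp [pairHom, ZMod.val_one]

theorem card_pair [Finite G] {z a : G} (hz : z ^ p = 1) (ha : a ^ p = 1) (hc : Commute z a)
    (hz1 : z ≠ 1) (haz : a ∉ zpowers z) : Nat.card ↥(zpowers z ⊔ zpowers a) = p ^ 2 := by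
  have h0 : Nat.card (Multiplicative (ZMod p × ZMod p)) = p ^ 2 := by
    rw [Nat.card_congr Multiplicative.toAdd, Nat.card_prod, Nat.card_zmod, sq]
  have hd : Nat.card ↥(zpowers z ⊔ zpowers a) ∣ p ^ 2 :=
    h0 ▸ pairHom_range hz ha hc ▸ card_range_dvd _
  obtain ⟨k, hk2, hk⟩ := (Nat.dvd_prime_pow hp.out).1 hd
  have hlt : zpowers z < zpowers z ⊔ zpowers a :=
    lt_of_le_of_ne le_sup_left fun h => haz (h.symm ▸ mem_sup_right (mem_zpowers a))
  have h1 := Set.Finite.card_lt_card (Set.toFinite _) hlt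
  rw [SetLike.coe_sort_coe, SetLike.coe_sort_coe, Nat.card_zpowers, orderOf_eq_prime hz hz1,
    hk] at h1
  have h3 : 1 < k := (Nat.pow_lt_pow_iff_right hp.out.one_lt).1 (by rwa [pow_one])
  rw [hk, show k = 2 by omega]

/-- The shear `z ↦ z a`, `a ↦ a` of a subgroup of order `p²`. -/
theorem exists_shear [Finite G] {A : Subgroup G} (hA : Nat.card A = p ^ 2) {z a : G}
    (hzA : z ∈ A) (haA : a ∈ A) (hz : z ^ p = 1) (ha : a ^ p = 1) (hz1 : z ≠ 1)
    (haz : a ∉ zpowers z) :
    ∃ φ : MulAut A, orderOf φ = p ∧ φ ⟨a, haA⟩ = ⟨a, haA⟩ ∧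
      φ ⟨z, hzA⟩ = ⟨z, hzA⟩ * ⟨a, haA⟩ := by
  have hc : Commute z a := isElementary_pair hA hzA haA
  have hsup : zpowers z ⊔ zpowers a = A :=
    eq_of_le_of_card_ge (sup_le (zpowers_le.2 hzA) (zpowers_le.2 haA))
      (by rw [hA, card_pair hz ha hc hz1 haz])
  let ψ : Multiplicative (ZMod p × ZMod p) →* A :=
    (pairHom hz ha hc).codRestrict A fun v =>
      mul_mem (pow_mem hzA _) (pow_mem haA _)
  have hψs : Function.Surjective ψ := by
    rintro ⟨x, hx⟩
    rw [← hsup, ← pairHom_range hz ha hc] at hx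
    obtain ⟨v, hv⟩ := hx
    exact ⟨v, Subtype.ext hv⟩
  have hψ : Function.Bijective ψ := (Nat.bijective_iff_surjective_and_card ψ).2
    ⟨hψs, by rw [Nat.card_congr Multiplicative.toAdd, Nat.card_prod, Nat.card_zmod, hA, sq]⟩
  let e := MulEquiv.ofBijective ψ hψ
  let τ : ZMod p × ZMod p ≃+ ZMod p × ZMod p :=
    { toFun := fun v => (v.1, v.2 + v.1)
      invFun := fun v => (v.1, v.2 - v.1)
      left_inv := fun v => Prod.ext rfl (add_sub_cancel_right _ _)
      right_inv := fun v => Prod.ext rfl (sub_add_cancel _ _)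
      map_add' := fun v w => Prod.ext rfl
        (show v.2 + w.2 + (v.1 + w.1) = v.2 + v.1 + (w.2 + w.1) by abel) }
  let φ : MulAut A := (e.symm.trans (AddEquiv.toMultiplicative τ)).trans e
  have hφe : ∀ v, φ (e v) = e (Multiplicative.ofAdd (τ v.toAdd)) := fun v =>
    show e (Multiplicative.ofAdd (τ (e.symm (e v)).toAdd)) = _ by rw [e.symm_apply_apply]
  have hφn : ∀ (n : ℕ) (v : ZMod p × ZMod p),
      (φ ^ n) (e (Multiplicative.ofAdd v)) = e (Multiplicative.ofAdd (v.1, v.2 + n * v.1)) := by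
    intro n v
    induction n with
    | zero => simp
    | succ n ih =>
      rw [pow_succ', MulAut.mul_apply, ih, hφe]
      refine congrArg (fun w => e (Multiplicative.ofAdd w)) (Prod.ext rfl ?_)
      show v.2 + (n : ZMod p) * v.1 + v.1 = v.2 + ((n + 1 : ℕ) : ZMod p) * v.1
      rw [Nat.cast_add, Nat.cast_one, add_mul, one_mul, add_assoc]
  have hez : e (Multiplicative.ofAdd (1, 0)) = ⟨z, hzA⟩ := Subtype.ext (by
    show pairHom hz ha hc _ = z
    simp [pairHom, ZMod.val_one])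
  have hea : e (Multiplicative.ofAdd (0, 1)) = ⟨a, haA⟩ := Subtype.ext (by
    show pairHom hz ha hc _ = a
    simp [pairHom, ZMod.val_one])
  have hφa : φ ⟨a, haA⟩ = ⟨a, haA⟩ := by
    rw [← hea, hφe]
    refine congrArg (fun w => e (Multiplicative.ofAdd w)) (Prod.ext rfl ?_)
    show (1 : ZMod p) + 0 = 1
    rw [add_zero]
  have hφz : φ ⟨z, hzA⟩ = ⟨z, hzA⟩ * ⟨a, haA⟩ := by
    rw [← hez, hφe, ← hea, ← map_mul, ← ofAdd_add]
    refine congrArg (fun w => e (Multiplicative.ofAdd w)) ?_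
    show ((1 : ZMod p), (0 : ZMod p) + 1) = (1, 0) + (0, 1)
    simp
  refine ⟨φ, orderOf_eq_prime ?_ ?_, hφa, hφz⟩
  · refine MulEquiv.ext fun x => ?_
    obtain ⟨v, rfl⟩ := e.surjective x
    rw [← ofAdd_toAdd v, hφn, ZMod.natCast_self, zero_mul, add_zero]
    rfl
  · intro h
    have h1 : (⟨z, hzA⟩ : A) = ⟨z, hzA⟩ * ⟨a, haA⟩ := by
      rw [← hφz, h]; rfl
    rw [left_eq_mul] at h1
    exact haz (by rw [show a = 1 from congrArg Subtype.val h1]; exact one_mem _)

variable [Finite G]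

/-- The element `y` demanded by `lines_bound`, from a shear induced by conjugation. -/
theorem hy_of_shear {A : Subgroup G} {z a g : G} (hap : a ^ p = 1) (ha1 : a ≠ 1)
    (hga : g * a * g⁻¹ = a) (hgz : g * z * g⁻¹ = z * a)
    (hgA : ∀ x ∈ A, g * x * g⁻¹ ∈ A) :
    ∃ y : G, y * a * y⁻¹ = a ∧ y * z * y⁻¹ ≠ z ∧ y ∈ normalizer (A : Set G) ∧
      ∃ k, orderOf y = p ^ k := by
  obtain ⟨k, m, hm, he⟩ := Nat.exists_eq_pow_mul_and_not_dvd (orderOf_pos g).ne' p hp.out.ne_one
  have hpow : ∀ n : ℕ, g ^ n * a * (g ^ n)⁻¹ = a ∧ g ^ n * z * (g ^ n)⁻¹ = z * a ^ n := by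
    intro n
    induction n with
    | zero => simp
    | succ n ih =>
      constructor
      · calc g ^ (n + 1) * a * (g ^ (n + 1))⁻¹ = g * (g ^ n * a * (g ^ n)⁻¹) * g⁻¹ := by
              rw [pow_succ']; group
          _ = a := by rw [ih.1, hga]
      · calc g ^ (n + 1) * z * (g ^ (n + 1))⁻¹ = g * (g ^ n * z * (g ^ n)⁻¹) * g⁻¹ := by
              rw [pow_succ']; group
          _ = (g * z * g⁻¹) * (g * a * g⁻¹) ^ n := by rw [ih.2, conj_pow]; group
          _ = z * a ^ (n + 1) := by rw [hgz, hga, pow_succ', mul_assoc]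
  have hgN : g ∈ normalizer (A : Set G) := by
    refine mem_normalizer_iff.2 fun x => ⟨hgA x, fun hx => ?_⟩
    let f : A → A := fun u => ⟨g * (u : G) * g⁻¹, hgA _ u.2⟩
    have hf : Function.Surjective f := Finite.injective_iff_surjective.1 fun u v h =>
      Subtype.ext (mul_left_cancel (mul_right_cancel (congrArg Subtype.val h : g * (u : G) * g⁻¹ = _)))
    obtain ⟨u, hu⟩ := hf ⟨_, hx⟩
    have : (u : G) = x := mul_left_cancel (mul_right_cancel (congrArg Subtype.val hu))
    exact this ▸ u.2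
  refine ⟨g ^ m, (hpow m).1, fun h => ?_, pow_mem hgN m, k, ?_⟩
  · rw [(hpow m).2, mul_eq_left] at h
    exact hm (orderOf_eq_prime hap ha1 ▸ orderOf_dvd_of_pow_eq_one h)
  · have hm0 : m ≠ 0 := fun h => hm (h ▸ dvd_zero p)
    rw [orderOf_pow_of_dvd hm0 (he ▸ dvd_mul_left m _), he,
      Nat.mul_div_cancel _ (Nat.pos_of_ne_zero hm0)]

/-- If the diagonal elements all have order at least six, there are no three lines. -/
theorem three_lines_false {ι : Type*} {H : Subgroup (CfsgLib.PSL2Sub.PG (ZMod p))}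
    (hH : ¬ p ∣ Nat.card H) (t : ι → H) (h6 : ∀ i, 6 ≤ orderOf (t i))
    (h3 : ∀ f : Fin 3 → ι, Function.Injective f → (∀ i j, Commute (t (f i)) (t (f j))) →
      (∀ i, 3 ≤ orderOf (t (f i))) → False)
    (f : Fin 3 → ι) (hf : Function.Injective f) : False := by
  haveI := Nat.finite_of_card_ne_zero (fun h : Nat.card H = 0 => hH (h ▸ dvd_zero p))
  rcases pgl_pprime_cases H hH with h | h | h | ⟨⟨e⟩⟩
  · exact h3 f hf (fun i j => commute_of_cyclic_or_dihedral h (by have := h6 (f i); omega)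
      (by have := h6 (f j); omega)) fun i => by have := h6 (f i); omega
  · have := h6 (f 0); have := h (t (f 0)); omega
  · have := h6 (f 0); have := (h (t (f 0))).1; omega
  · have h0 := h6 (f 0)
    rw [← e.orderOf_eq] at h0
    have : orderOf (e (t (f 0))) ≤ 4 := by
      rcases pow_eq_one_perm_four (e (t (f 0))) with h | h | h | h <;>
        exact orderOf_le_of h (by norm_num) (by norm_num)
    omega

theorem perm_four_sq_commute : ∀ x y : Equiv.Perm (Fin 4),
    x ^ 2 = y ^ 2 → x ^ 2 ≠ 1 → x ^ 4 = 1 → x * y = y * x := by decide +kernel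

theorem perm_four_sq_mem : ∀ x : Equiv.Perm (Fin 4), x ^ 4 = 1 → x ^ 2 ≠ 1 →
    x ^ 2 ≠ 1 ∧ (x ^ 2) ^ 2 = 1 ∧ Equiv.Perm.sign (x ^ 2) = 1 := by decide +kernel

theorem perm_four_card : Fintype.card
    {y : Equiv.Perm (Fin 4) // y ≠ 1 ∧ y ^ 2 = 1 ∧ Equiv.Perm.sign y = 1} = 3 := by decide +kernel

/-- If the diagonal elements all have order a multiple of four, there are no seven lines. -/
theorem seven_lines_false {ι : Type*} {H : Subgroup (CfsgLib.PSL2Sub.PG (ZMod p))}
    (hH : ¬ p ∣ Nat.card H) (t : ι → H) (h4 : ∀ i, 4 ∣ orderOf (t i))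
    (h3 : ∀ f : Fin 3 → ι, Function.Injective f → (∀ i j, Commute (t (f i)) (t (f j))) →
      (∀ i, 3 ≤ orderOf (t (f i))) → False)
    (s : Finset ι) (hs : 7 ≤ s.card) : False := by
  classical
  haveI := Nat.finite_of_card_ne_zero (fun h : Nat.card H = 0 => hH (h ▸ dvd_zero p))
  have hge : ∀ i, 4 ≤ orderOf (t i) := fun i => Nat.le_of_dvd (orderOf_pos _) (h4 i)
  haveI := Nat.finite_of_card_ne_zero (fun h : Nat.card H = 0 => hH (h ▸ dvd_zero p))
  obtain ⟨i₀, hi₀⟩ := Finset.card_pos.1 (show 0 < s.card by omega)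
  rcases pgl_pprime_cases H hH with h | h | h | ⟨⟨e⟩⟩
  · obtain ⟨u, hus, hu⟩ := Finset.exists_subset_card_eq (show 3 ≤ s.card by omega)
    let f : Fin 3 ↪ ι := (u.equivFinOfCardEq hu).symm.toEmbedding.trans (Function.Embedding.subtype _)
    exact h3 f f.injective (fun i j => commute_of_cyclic_or_dihedral h
      (by have := hge (f i); omega) (by have := hge (f j); omega))
      fun i => by have := hge (f i); omega
  · have := hge i₀; have := h (t i₀); omega
  · have := hge i₀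
    obtain ⟨h5, hne⟩ := h (t i₀)
    obtain ⟨c, hc⟩ := h4 i₀
    omega
  · have hx : ∀ i, (e (t i)) ^ 4 = 1 ∧ (e (t i)) ^ 2 ≠ 1 := by
      intro i
      have ho := hge i
      have hd := h4 i
      rw [← e.orderOf_eq] at ho hd
      obtain ⟨c, hc⟩ := hd
      have h5 : orderOf (e (t i)) = 4 := by
        rcases pow_eq_one_perm_four (e (t i)) with h | h | h | h <;>
          have := orderOf_le_of (n := _) h (by norm_num) le_rfl <;> omega
      refine ⟨orderOf_dvd_iff_pow_eq_one.1 h5.dvd, fun h => ?_⟩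
      have := orderOf_le_of h (by norm_num) le_rfl
      omega
    let σ : ι → {y : Equiv.Perm (Fin 4) // y ≠ 1 ∧ y ^ 2 = 1 ∧ Equiv.Perm.sign y = 1} :=
      fun i => ⟨(e (t i)) ^ 2, perm_four_sq_mem _ (hx i).1 (hx i).2⟩
    obtain ⟨c, -, hc⟩ := Finset.exists_lt_card_fiber_of_mul_lt_card_of_maps_to
      (s := s) (t := Finset.univ) (f := σ) (n := 2) (fun _ _ => Finset.mem_univ _)
      (by rw [Finset.card_univ, perm_four_card]; omega)
    obtain ⟨u, hus, hu⟩ := Finset.exists_subset_card_eq (show 3 ≤ _ from hc)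
    let f : Fin 3 ↪ ι := (u.equivFinOfCardEq hu).symm.toEmbedding.trans (Function.Embedding.subtype _)
    have hfc : ∀ i, σ (f i) = c := fun i =>
      (Finset.mem_filter.1 (hus ((u.equivFinOfCardEq hu).symm i).2)).2
    refine h3 f f.injective (fun i j => e.injective ?_) fun i => by have := hge (f i); omega
    rw [map_mul, map_mul]
    exact perm_four_sq_commute _ _ (congrArg Subtype.val ((hfc i).trans (hfc j).symm))
      (hx (f i)).2 (hx (f i)).1

end CfsgLib.Case
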