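import Cfsg.Agent.Lib.Transfer.Tate
import Cfsg.Agent.Lib.Fusion.SmallFix
import Cfsg.Agent.Lib.Fusion.AlperinGroup
import Cfsg.Agent.Lib.PGroup.Basic
import Mathlib.FieldTheory.Finite.Basic

/-!
Normal p-complements from subgroups of a fixed order that are closed in their normalizers
(the conjugates of `E` meet `N(E)` inside `E`).
-/

set_option autoImplicit false

namespace CfsgLib.Case

open Subgroup Cfsg
open scoped commutatorElement

variable {G : Type*} [Group G] [Finite G] {p : ℕ} [hp : Fact p.Prime]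

theorem coprime_of_smallest (hmin : ∀ q : ℕ, q.Prime → q ∣ Nat.card G → p ≤ q) {y : G}
    (hy : Nat.Coprime (orderOf y) p) : Nat.Coprime (orderOf y) (p * (p - 1)) := by
  refine Nat.Coprime.mul_right hy (Nat.coprime_of_dvd fun q hq h1 h2 => ?_)
  have hqp := hmin q hq (h1.trans (_root_.orderOf_dvd_natCard y))
  have hpos : 0 < p - 1 := Nat.sub_pos_of_lt hp.out.one_lt
  have := Nat.le_of_dvd hpos h2
  omega

/-- An element of order prime to `p (p - 1)` normalizing a cyclic `p`-group centralizes it. -/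
theorem conj_eq_of_mem_zpowers {x y : G} {a : ℕ} (hx : x ^ p ^ a = 1)
    (hy : Nat.Coprime (orderOf y) (p * (p - 1))) (h : y * x * y⁻¹ ∈ zpowers x) :
    y * x * y⁻¹ = x := by
  classical
  obtain ⟨k, hk⟩ := mem_powers_iff_mem_zpowers.2 h
  simp only at hk
  have hn : ∀ n : ℕ, y ^ n * x * (y ^ n)⁻¹ = x ^ k ^ n := by
    intro n
    induction n with
    | zero => simp
    | succ n ih =>
      calc y ^ (n + 1) * x * (y ^ (n + 1))⁻¹ = y * (y ^ n * x * (y ^ n)⁻¹) * y⁻¹ := by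
            rw [pow_succ']; group
        _ = x ^ k ^ (n + 1) := by rw [ih, ← conj_pow, ← hk, ← pow_mul, pow_succ']
  have ho := hn (orderOf y)
  rw [pow_orderOf_eq_one, one_mul, inv_one, mul_one] at ho
  obtain ⟨b, -, hb⟩ := (Nat.dvd_prime_pow hp.out).1 (orderOf_dvd_of_pow_eq_one hx)
  have h1 : (k : ZMod (orderOf x)) ^ orderOf y = 1 := by
    rw [← Nat.cast_pow, ← Nat.cast_one, ZMod.natCast_eq_natCast_iff, ← pow_eq_pow_iff_modEq,
      pow_one, ← ho]
  haveI : NeZero (orderOf x) := ⟨(orderOf_pos x).ne'⟩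
  obtain ⟨u, hu⟩ : IsUnit (k : ZMod (orderOf x)) :=
    IsUnit.of_pow_eq_one h1 (orderOf_pos y).ne'
  have hu1 : orderOf u ∣ orderOf y := orderOf_dvd_of_pow_eq_one (Units.ext (by
    rw [Units.val_pow_eq_pow_val, hu, h1, Units.val_one]))
  have hu2 : orderOf u ∣ p ^ b * (p - 1) := by
    refine (orderOf_dvd_of_pow_eq_one (ZMod.pow_totient u)).trans ?_
    rcases Nat.eq_zero_or_pos b with rfl | hb0
    · rw [hb, pow_zero, Nat.totient_one]
      exact one_dvd _
    · rw [hb, Nat.totient_prime_pow hp.out hb0]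
      exact mul_dvd_mul_right (Nat.pow_dvd_pow p (Nat.sub_le b 1)) _
  have hcop : Nat.Coprime (orderOf y) (p ^ b * (p - 1)) :=
    Nat.Coprime.mul_right (Nat.Coprime.pow_right b (Nat.Coprime.coprime_mul_right_right hy))
      (Nat.Coprime.coprime_mul_left_right hy)
  have hu3 : orderOf u = 1 := by
    have h0 := Nat.dvd_gcd hu1 hu2
    rw [show Nat.gcd (orderOf y) (p ^ b * (p - 1)) = 1 from hcop] at h0
    exact Nat.dvd_one.1 h0
  rw [orderOf_eq_one_iff] at hu3
  have h2 : x ^ k = x ^ 1 := by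
    rw [pow_eq_pow_iff_modEq, ← ZMod.natCast_eq_natCast_iff, Nat.cast_one, ← hu, hu3, Units.val_one]
  rw [← hk, h2, pow_one]

/-- `E` meets each of its conjugates inside the normalizer of `E` in `E`. -/
def ClosedInNormalizer (E : Subgroup G) : Prop :=
  ∀ g : G, E.map (MulAut.conj g).toMonoidHom ⊓ normalizer (E : Set G) ≤ E

theorem ClosedInNormalizer.conj_mem {E : Subgroup G} (hE : ClosedInNormalizer E) {x g : G}
    (hx : x ∈ E) (h : g * x * g⁻¹ ∈ normalizer (E : Set G)) : g * x * g⁻¹ ∈ E :=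
  hE g ⟨⟨x, hx, rfl⟩, h⟩

/-- A subgroup closed in its normalizer is normal in every `p`-group containing it. -/
theorem ClosedInNormalizer.le_normalizer {E P : Subgroup G} (hE : ClosedInNormalizer E)
    (hP : IsPGroup p P) (hEP : E ≤ P) : P ≤ normalizer (E : Set G) := by
  by_contra hne
  have hlt : (normalizer (E : Set G)).subgroupOf P < ⊤ :=
    lt_top_iff_ne_top.2 fun h => hne (subgroupOf_eq_top.1 h)
  haveI := hP.isNilpotent
  obtain ⟨s, hs, hsM⟩ := SetLike.exists_of_lt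
    (Group.normalizerCondition_of_isNilpotent _ hlt)
  refine hsM ?_
  refine mem_normalizer_iff.2 ?_
  have hmem : ∀ x ∈ E, (s : G) * x * (s : G)⁻¹ ∈ E := by
    intro x hx
    refine hE.conj_mem hx ?_
    have h1 : (⟨x, hEP hx⟩ : P) ∈ (normalizer (E : Set G)).subgroupOf P :=
      Subgroup.le_normalizer hx
    exact (mem_normalizer_iff.1 hs _).1 h1
  intro x
  refine ⟨hmem x, fun hx => ?_⟩
  let f : E → E := fun u => ⟨(s : G) * (u : G) * (s : G)⁻¹, hmem _ u.2⟩
  have hf : Function.Surjective f := Finite.injective_iff_surjective.1 fun u v h =>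
    Subtype.ext (mul_left_cancel (mul_right_cancel
      (congrArg Subtype.val h : (s : G) * (u : G) * (s : G)⁻¹ = _)))
  obtain ⟨u, hu⟩ := hf ⟨_, hx⟩
  have : (u : G) = x := mul_left_cancel (mul_right_cancel (congrArg Subtype.val hu))
  exact this ▸ u.2

/-- The core step: a `p'`-element normalizing `Q ≤ P` moves elements of `Q` only within `E`. -/
theorem conj_div_mem (hmin : ∀ q : ℕ, q.Prime → q ∣ Nat.card G → p ≤ q) {P : Subgroup G}
    (hP : IsPGroup p P) {m : ℕ} (hm : 1 ≤ m) (hmP : p ^ m ∣ Nat.card P)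
    (h : ∀ E : Subgroup G, E ≤ P → (Nat.card E = p ^ m ∨ (p ^ m = 2 ∧ Nat.card E = 4)) →
      ClosedInNormalizer E)
    {Q : Subgroup G} (hQ : Q ≤ P) {y : G} (hy : Nat.Coprime (orderOf y) p)
    (hyQ : y ∈ normalizer (Q : Set G)) {E : Subgroup G} (hE : E ≤ P) (hEc : Nat.card E = p ^ m)
    {x : G} (hx : x ∈ Q) : y * x * y⁻¹ * x⁻¹ ∈ E := by
  classical
  have hyc := coprime_of_smallest hmin hy
  -- closure of a subgroup under `y`
  have hclosed : ∀ {F : Subgroup G}, F ≤ P → (Nat.card F = p ^ m ∨ (p ^ m = 2 ∧ Nat.card F = 4)) →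
      ∀ u ∈ Q, u ∈ F → y * u * y⁻¹ ∈ F := fun {F} hF hFc u hu huF =>
    (h F hF hFc).conj_mem huF
      ((h F hF hFc).le_normalizer hP hF (hQ ((mem_normalizer_iff.1 hyQ u).1 hu)))
  -- elements of small order
  have hsmall : ∀ {F : Subgroup G}, F ≤ P → Nat.card F = p ^ m → ∀ u ∈ Q, u ^ p ^ m = 1 →
      y * u * y⁻¹ * u⁻¹ ∈ F := by
    intro F hF hFc u hu hum
    have hPN := (h F hF (Or.inl hFc)).le_normalizer hP hF
    obtain ⟨i, him, hi⟩ := (Nat.dvd_prime_pow hp.out).1 (orderOf_dvd_of_pow_eq_one hum)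
    set T := F ⊔ zpowers u with hT
    have hTP : T ≤ P := sup_le hF (zpowers_le.2 (hQ hu))
    have huT : u ∈ T := mem_sup_right (mem_zpowers u)
    have hTd : p ^ m ∣ Nat.card T := hFc ▸ card_dvd_of_le (le_sup_left : F ≤ T)
    obtain ⟨K, hK, hKu⟩ := Sylow.exists_subgroup_card_pow_prime_le p (G := T) hTd
      (zpowers (⟨u, huT⟩ : T)) (by rw [Nat.card_zpowers, orderOf_mk, hi]) him
    set E₁ := K.map T.subtype with hE₁
    have hE₁c : Nat.card E₁ = p ^ m := by rw [hE₁, card_subtype, hK]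
    have hE₁P : E₁ ≤ P := (map_subtype_le K).trans hTP
    have h1 : y * u * y⁻¹ ∈ T :=
      map_subtype_le K (hclosed hE₁P (Or.inl hE₁c) u hu ⟨⟨u, huT⟩, hKu (mem_zpowers _), rfl⟩)
    have huN : zpowers u ≤ normalizer (F : Set G) := zpowers_le.2 (hPN (hQ hu))
    rw [hT, ← SetLike.mem_coe, sup_comm,
      Subgroup.coe_mul_of_left_le_normalizer_right (zpowers u) F huN] at h1
    obtain ⟨w, hw, e, he, hwe⟩ := h1
    -- work modulo `F ⊓ Q`
    set N₀ := F ⊓ Q with hN₀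
    have hu0 : u ∈ normalizer (N₀ : Set G) := by
      refine mem_normalizer_iff.2 fun z => ?_
      show z ∈ F ∧ z ∈ Q ↔ u * z * u⁻¹ ∈ F ∧ u * z * u⁻¹ ∈ Q
      rw [mem_normalizer_iff.1 (hPN (hQ hu)) z, mem_normalizer_iff.1 (Subgroup.le_normalizer hu) z]
    have hy0 : y ∈ normalizer (N₀ : Set G) := by
      have hf : ∀ z ∈ N₀, y * z * y⁻¹ ∈ N₀ := fun z hz =>
        ⟨hclosed hF (Or.inl hFc) z hz.2 hz.1, (mem_normalizer_iff.1 hyQ z).1 hz.2⟩
      refine mem_normalizer_iff.2 fun z => ⟨hf z, fun hz => ?_⟩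
      let f : N₀ → N₀ := fun v => ⟨y * (v : G) * y⁻¹, hf _ v.2⟩
      obtain ⟨v, hv⟩ := (Finite.injective_iff_surjective.1 fun a b hab =>
        Subtype.ext (mul_left_cancel (mul_right_cancel
          (congrArg Subtype.val hab : y * (a : G) * y⁻¹ = _))) : Function.Surjective f) ⟨_, hz⟩
      exact (mul_left_cancel (mul_right_cancel (congrArg Subtype.val hv)) : (v : G) = z) ▸ v.2
    have hwQ : w ∈ Q := zpowers_le.2 hu hw
    have heN : e ∈ N₀ := ⟨he, (mul_mem_cancel_left hwQ).1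
      (by rw [show w * e = _ from hwe]; exact (mem_normalizer_iff.1 hyQ u).1 hu)⟩
    obtain ⟨j, rfl⟩ := mem_zpowers_iff.1 hw
    set R := normalizer (N₀ : Set G) with hR
    haveI : (N₀.subgroupOf R).Normal := normal_in_normalizer
    let π := QuotientGroup.mk' (N₀.subgroupOf R)
    have hq : π ⟨y, hy0⟩ * π ⟨u, hu0⟩ * (π ⟨y, hy0⟩)⁻¹ = π ⟨u, hu0⟩ := by
      refine conj_eq_of_mem_zpowers (p := p) (a := m) ?_ ?_ ⟨j, ?_⟩
      · rw [← map_pow, show (⟨u, hu0⟩ : R) ^ p ^ m = 1 from Subtype.ext hum, map_one]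
      · exact hyc.coprime_dvd_left
          ((orderOf_map_dvd π ⟨y, hy0⟩).trans (by rw [orderOf_mk]))
      · show π ⟨u, hu0⟩ ^ j = _
        rw [← map_inv, ← map_mul, ← map_mul, ← map_zpow]
        refine QuotientGroup.eq.2 ?_
        show ((⟨u, hu0⟩ : R) ^ j)⁻¹ * (⟨y, hy0⟩ * ⟨u, hu0⟩ * ⟨y, hy0⟩⁻¹ : R) ∈ N₀.subgroupOf R
        rw [mem_subgroupOf]
        push_cast
        rw [← show u ^ j * e = _ from hwe, inv_mul_cancel_left]
        exact heN
    rw [← map_inv, ← map_mul, ← map_mul] at hq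
    have h2 : (⟨u, hu0⟩ : R)⁻¹ * (⟨y, hy0⟩ * ⟨u, hu0⟩ * ⟨y, hy0⟩⁻¹) ∈ N₀.subgroupOf R :=
      QuotientGroup.eq.1 hq.symm
    rw [mem_subgroupOf] at h2
    push_cast at h2
    have h3 := (mem_normalizer_iff.1 hu0 _).1 h2
    rw [mul_inv_cancel_left] at h3
    exact h3.1
  by_cases hall : ∀ u ∈ Q, u ^ p ^ m = 1
  · exact hsmall hE hEc x hx (hall x hx)
  push Not at hall
  obtain ⟨x₀, hx₀, hx₀m⟩ := hall
  -- now `y` centralizes `Q`
  obtain ⟨s, hs⟩ := IsPGroup.iff_orderOf.1 hP ⟨x₀, hQ hx₀⟩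
  rw [orderOf_mk] at hs
  have hsm : m < s := by
    by_contra hle
    exact hx₀m (orderOf_dvd_iff_pow_eq_one.1 (hs ▸ pow_dvd_pow p (not_lt.1 hle)))
  set e := x₀ ^ p ^ (s - m) with he
  have heQ : e ∈ Q := pow_mem hx₀ _
  have heo : orderOf e = p ^ m := by
    rw [he, orderOf_pow_of_dvd (pow_pos hp.out.pos _).ne' (hs ▸ pow_dvd_pow p (Nat.sub_le s m)), hs,
      Nat.pow_div (Nat.sub_le s m) hp.out.pos, Nat.sub_sub_self hsm.le]
  have hye : y * e * y⁻¹ = e :=
    conj_eq_of_mem_zpowers (p := p) (a := m) (heo ▸ pow_orderOf_eq_one e) hyc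
      (hclosed (zpowers_le.2 (hQ heQ)) (Or.inl (by rw [Nat.card_zpowers, heo])) e heQ (mem_zpowers e))
  -- small elements are fixed
  have hfix : ∀ u ∈ Q, u ^ p = 1 ∨ (p = 2 ∧ u ^ 4 = 1) → y * u * y⁻¹ = u := by
    intro u hu hu4
    by_cases hum : u ^ p ^ m = 1
    · obtain ⟨j, hj⟩ := mem_zpowers_iff.1
        (hsmall (zpowers_le.2 (hQ heQ)) (by rw [Nat.card_zpowers, heo]) u hu hum)
      have hn : ∀ n : ℕ, y ^ n * u * (y ^ n)⁻¹ = (e ^ j) ^ n * u := by
        intro n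
        induction n with
        | zero => simp
        | succ n ih =>
          calc y ^ (n + 1) * u * (y ^ (n + 1))⁻¹ = y * (y ^ n * u * (y ^ n)⁻¹) * y⁻¹ := by
                rw [pow_succ']; group
            _ = (y * (e ^ j) ^ n * y⁻¹) * (y * u * y⁻¹) := by rw [ih]; group
            _ = (e ^ j) ^ n * (e ^ j * u) := by
              rw [← conj_pow, ← conj_zpow, hye, hj, inv_mul_cancel_right]
            _ = (e ^ j) ^ (n + 1) * u := by rw [pow_succ, mul_assoc]
      have ho := hn (orderOf y)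
      rw [pow_orderOf_eq_one, one_mul, inv_one, mul_one, eq_comm, mul_eq_right] at ho
      have h1 : orderOf (e ^ j) ∣ Nat.gcd (orderOf y) (p ^ m) := Nat.dvd_gcd
        (orderOf_dvd_of_pow_eq_one ho)
        (heo ▸ orderOf_dvd_of_mem_zpowers (zpow_mem (mem_zpowers e) j))
      rw [show Nat.gcd (orderOf y) (p ^ m) = 1 from hy.pow_right m, Nat.dvd_one,
        orderOf_eq_one_iff, hj, mul_inv_eq_one] at h1
      exact h1
    · -- `p ^ m = 2` and `u` has order four
      rcases hu4 with hu1 | ⟨rfl, hu4⟩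
      · exact absurd (by
          rw [show p ^ m = p * p ^ (m - 1) by rw [← pow_succ']; congr 1; omega, pow_mul, hu1,
            one_pow]) hum
      have hm1 : m = 1 := by
        by_contra hne
        refine hum ?_
        rw [show (2 : ℕ) ^ m = 4 * 2 ^ (m - 2) by
          rw [show (4 : ℕ) = 2 ^ 2 by norm_num, ← pow_add]; congr 1; omega, pow_mul, hu4, one_pow]
      subst hm1
      have hu2 : orderOf u = 4 := by
        rw [show (4 : ℕ) = 2 ^ (1 + 1) by norm_num] at hu4 ⊢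
        exact orderOf_eq_prime_pow hum hu4
      exact conj_eq_of_mem_zpowers (p := 2) (a := 2) (by simpa using hu4) hyc
        (hclosed (zpowers_le.2 (hQ hu)) (Or.inr ⟨by norm_num, by rw [Nat.card_zpowers, hu2]⟩) u hu
          (mem_zpowers u))
  have ha : Q.normalizerMonoidHom ⟨y, hyQ⟩ = 1 := by
    refine CfsgLib.Fusion.SmallFix.eq_one_of_fix_small (hP.to_le hQ) _ ?_ fun u hu => Subtype.ext ?_
    · exact hy.coprime_dvd_left ((orderOf_map_dvd _ _).trans (by rw [orderOf_mk]))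
    · exact hfix u u.2 (CfsgLib.Fusion.SmallFix.isSmall_coe.2 hu)
  have h0 := DFunLike.congr_fun ha (⟨x, hx⟩ : Q)
  have h1 : y * x * y⁻¹ = x := congrArg Subtype.val h0
  rw [h1, mul_inv_cancel]
  exact one_mem E

/-- The normal `p`-complement. -/
theorem hasNormalPComplement_of_closedInNormalizer
    (hmin : ∀ q : ℕ, q.Prime → q ∣ Nat.card G → p ≤ q) (P : Sylow p G) {m : ℕ} (hm : 1 ≤ m)
    (hmP : p ^ (m + 1) ∣ Nat.card (P : Subgroup G))
    (h : ∀ E : Subgroup G, E ≤ (P : Subgroup G) →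
      (Nat.card E = p ^ m ∨ (p ^ m = 2 ∧ Nat.card E = 4)) → ClosedInNormalizer E) :
    HasNormalPComplement p G := by
  classical
  set P' : Subgroup G := (P : Subgroup G) with hP'
  set F := (frattini P').map P'.subtype with hF
  have hmP' : p ^ m ∣ Nat.card P' := (pow_dvd_pow p (Nat.le_succ m)).trans hmP
  -- `p'`-elements
  have hp' : ∀ Q : Subgroup G, Q ≤ P' → ∀ y ∈ normalizer (Q : Set G), Nat.Coprime (orderOf y) p →
      ∀ x ∈ Q, y * x * y⁻¹ * x⁻¹ ∈ F := by
    intro Q hQ y hyQ hy x hx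
    have hdP : y * x * y⁻¹ * x⁻¹ ∈ P' :=
      mul_mem (hQ ((mem_normalizer_iff.1 hyQ x).1 hx)) (inv_mem (hQ hx))
    refine ⟨⟨_, hdP⟩, ?_, rfl⟩
    show (⟨_, hdP⟩ : P') ∈ frattini P'
    rw [frattini, Order.radical]
    simp only [Subgroup.mem_iInf]
    intro M hM
    -- `M` contains a subgroup of order `p ^ m`
    obtain ⟨k, hk⟩ := IsPGroup.iff_card.1 P.2
    obtain ⟨j, hjk, hj⟩ := (Nat.dvd_prime_pow hp.out).1 (hk ▸ M.card_subgroup_dvd_card)
    have hmj : p ^ m ∣ Nat.card M := by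
      rw [hj]
      refine pow_dvd_pow p ?_
      by_contra hlt
      obtain ⟨K, hK, hMK⟩ := Sylow.exists_subgroup_card_pow_prime_le p (G := P')
        hmP' M hj (by omega)
      have hne : M ≠ K := fun e => by
        rw [← e, hj] at hK
        have hk2 := Nat.pow_right_injective hp.out.two_le hK
        omega
      obtain rfl := hM.2 K (lt_of_le_of_ne hMK hne)
      rw [card_top, hk] at hK
      have hk1 := (Nat.pow_dvd_pow_iff_le_right hp.out.one_lt).1 (hk ▸ hmP)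
      have hk2 := Nat.pow_right_injective hp.out.two_le hK
      omega
    obtain ⟨K, hK⟩ := Sylow.exists_subgroup_card_pow_prime p (G := M) hmj
    set E := (K.map M.subtype).map P'.subtype with hE
    have hEc : Nat.card E = p ^ m := by rw [hE, card_subtype, card_subtype, hK]
    obtain ⟨z, hz, hze⟩ := conj_div_mem hmin P.2 hm hmP' h hQ hy hyQ
      (show E ≤ P' from map_subtype_le _) hEc hx
    have : z = ⟨_, hdP⟩ := Subtype.ext hze
    exact this ▸ map_subtype_le K hz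
  have hFP : F ≤ P' := map_subtype_le _
  have hFn : ∀ v ∈ P', ∀ f ∈ F, v * f * v⁻¹ ∈ F := by
    rintro v hv _ ⟨f, hf, rfl⟩
    exact ⟨⟨v, hv⟩ * f * ⟨v, hv⟩⁻¹,
      (Subgroup.normal_of_characteristic (frattini P')).conj_mem f hf _, rfl⟩
  have hcm : ∀ v ∈ P', ∀ x ∈ P', v * x * v⁻¹ * x⁻¹ ∈ F := fun v hv x hx =>
    ⟨⁅(⟨v, hv⟩ : P'), ⟨x, hx⟩⁆, CfsgLib.PGroup.commutator_le_frattini P.2 (by
      rw [_root_.commutator_def]
      exact commutator_mem_commutator (mem_top _) (mem_top _)), rfl⟩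
  -- one step of a chain
  have hstep : ∀ (Q : Sylow p G), CfsgLib.AlperinGroup.Tame P Q → ∀ n ∈
      normalizer (((P' ⊓ (Q : Subgroup G)) : Subgroup G) : Set G),
      ∀ x ∈ P' ⊓ (Q : Subgroup G), n * x * n⁻¹ * x⁻¹ ∈ F := by
    intro Q ht n hn
    set D := P' ⊓ (Q : Subgroup G) with hD
    set N := normalizer (D : Set G) with hN
    let K : Subgroup G :=
      { carrier := {g | g ∈ N ∧ ∀ x ∈ D, g * x * g⁻¹ * x⁻¹ ∈ F}
        one_mem' := ⟨one_mem _, fun x _ => by simp⟩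
        mul_mem' := fun {a b} ha hb => ⟨mul_mem ha.1 hb.1, fun x hx => by
          have e : a * b * x * (a * b)⁻¹ * x⁻¹ =
              (a * (b * x * b⁻¹) * a⁻¹ * (b * x * b⁻¹)⁻¹) * (b * x * b⁻¹ * x⁻¹) := by group
          rw [e]
          exact mul_mem (ha.2 _ ((mem_normalizer_iff.1 hb.1 x).1 hx)) (hb.2 x hx)⟩
        inv_mem' := fun {a} ha => ⟨inv_mem ha.1, fun x hx => by
          have h1 := ha.2 _ ((mem_normalizer_iff.1 (inv_mem ha.1) x).1 hx)
          have e : a⁻¹ * x * a⁻¹⁻¹ * x⁻¹ =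
              (a * (a⁻¹ * x * a⁻¹⁻¹) * a⁻¹ * (a⁻¹ * x * a⁻¹⁻¹)⁻¹)⁻¹ := by group
          rw [e]
          exact inv_mem h1⟩ }
    have hSp : IsPGroup p ((P' ⊓ N).subgroupOf N) := (P.2.to_le inf_le_left).comap_subtype
    let S : Sylow p N := hSp.toSylow ht.1
    have hsup := CfsgLib.Transfer.sylow_sup_pResidual S
    have hle : (S : Subgroup N) ⊔ pResidual p N ≤ K.subgroupOf N := by
      refine sup_le (fun v hv => ?_) ?_
      · exact ⟨v.2, fun x hx => hcm _ hv.1 x hx.1⟩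
      · rw [pResidual, closure_le]
        intro v hv
        exact ⟨v.2, hp' D inf_le_left v v.2 (by rwa [Set.mem_setOf_eq, ← orderOf_coe] at hv)⟩
    rw [hsup] at hle
    exact (hle (mem_top (⟨n, hn⟩ : N))).2
  -- fusion
  have hfus : ∀ (A : Set G) (g : G), CfsgLib.AlperinGroup.Chain P A g →
      ∀ x ∈ A, g⁻¹ * x * g * x⁻¹ ∈ F := by
    intro A g hc
    induction hc with
    | one A => intro x _; simp
    | cons A n k Q hA ht hn _ ih =>
      intro x hx
      have h1 := hstep Q ht n⁻¹ (inv_mem hn) x (hA hx)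
      have h2 := ih _ ⟨x, hx, rfl⟩
      have e : (n * k)⁻¹ * x * (n * k) * x⁻¹ =
          (k⁻¹ * (n⁻¹ * x * n) * k * (n⁻¹ * x * n)⁻¹) * (n⁻¹ * x * n⁻¹⁻¹ * x⁻¹) := by group
      rw [e]
      exact mul_mem h2 h1
  have hfocal : P'.focalSubgroup ≤ F := by
    rw [focalSubgroup_def, closure_le]
    rintro _ ⟨hgP, x, hx, u, rfl⟩
    have hconj : u * x⁻¹ * u⁻¹ ∈ P' := by
      have e : u * x⁻¹ * u⁻¹ = x⁻¹ * ⁅x, u⁆ := by rw [commutatorElement_def]; group
      rw [e]
      exact mul_mem (inv_mem hx) hgP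
    have h1 := hfus _ _ (CfsgLib.AlperinGroup.alperin P {x⁻¹} u⁻¹
      (Set.singleton_subset_iff.2 (inv_mem hx)) (by
        rw [Set.image_singleton, Set.singleton_subset_iff, inv_inv]; exact hconj)) x⁻¹ rfl
    rw [inv_inv] at h1
    have h2 := hFn x hx _ h1
    have e : x * (u * x⁻¹ * u⁻¹ * x⁻¹⁻¹) * x⁻¹ = ⁅x, u⁆ := by
      rw [commutatorElement_def]; group
    rw [e] at h2
    exact h2
  -- Tate
  refine CfsgLib.Transfer.hasNormalPComplement_of_sylow_inf_pResidual P ?_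
  have hX : ∀ X : Subgroup P', pResidual p P' ≤ X →
      X ⊔ (pResidual p G).subgroupOf P' = ⊤ → X = ⊤ := by
    intro X _ htop
    refine frattini_nongenerating (top_le_iff.mp (htop ▸ sup_le_sup_left ?_ X))
    intro a ha
    obtain ⟨b, hb, hba⟩ := hfocal (CfsgLib.Transfer.sylow_inf_pResidual_le_focal P ⟨a.2, ha⟩)
    exact (Subtype.ext hba : b = a) ▸ hb
  have h3 := CfsgLib.Transfer.tate_core P P' le_rfl hX
  rw [CfsgLib.Transfer.pResidual_eq_bot_of_isPGroup P.2] at h3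
  rw [eq_bot_iff]
  intro x hx
  have h4 : (⟨x, hx.1⟩ : P') ∈ (pResidual p G).subgroupOf P' := hx.2
  rw [h3, Subgroup.mem_bot] at h4
  exact congrArg Subtype.val h4

end CfsgLib.Case
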