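import Cfsg.Agent.Lib.Case.ScalarSupersolvable

/-!
Supersolvability from subgroups of a fixed order in the Sylow subgroups of a normal subgroup
that are closed in their normalizers.
-/

set_option autoImplicit false
set_option linter.style.haveILetI false

namespace CfsgLib.Case

open Subgroup Cfsg
open scoped commutatorElement

/-- The condition on the Sylow subgroups of `E`, as subgroups of the ambient group. -/
def SylowClosed {G : Type*} [Group G] (E : Subgroup G) : Prop :=
  ∀ (p : ℕ), p.Prime → ∀ P : Subgroup G, P ≤ E → IsPGroup p P → ¬ p ∣ P.relIndex E →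
    ¬ IsCyclic ↥P → ∃ D : Subgroup G, D ≤ P ∧ 1 < Nat.card D ∧ Nat.card D < Nat.card P ∧
      ∀ F : Subgroup G, F ≤ P → (Nat.card F = Nat.card D ∨ (Nat.card D = 2 ∧ Nat.card F = 4)) →
        ClosedInNormalizer F

variable {G : Type*} [Group G] [Finite G]

theorem exists_exponent {p : ℕ} [hp : Fact p.Prime] {P D : Subgroup G} (hP : IsPGroup p P) (hD : D ≤ P)
    (h1 : 1 < Nat.card D) (h2 : Nat.card D < Nat.card P) :
    ∃ m, 1 ≤ m ∧ Nat.card D = p ^ m ∧ p ^ (m + 1) ∣ Nat.card P := by
  obtain ⟨k, hk⟩ := IsPGroup.iff_card.1 hP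
  obtain ⟨m, -, hm⟩ := (Nat.dvd_prime_pow hp.out).1 (hk ▸ card_dvd_of_le hD)
  refine ⟨m, ?_, hm, hk ▸ pow_dvd_pow p ?_⟩
  · by_contra h
    rw [hm, show m = 0 by omega, pow_zero] at h1
    exact lt_irrefl _ h1
  · rw [hm, hk] at h2
    exact (Nat.pow_lt_pow_iff_right hp.out.one_lt).1 h2

theorem closedInNormalizer_subgroupOf {E F : Subgroup G} (hF : F ≤ E) (h : ClosedInNormalizer F) :
    ClosedInNormalizer (F.subgroupOf E) := by
  intro g x hx
  obtain ⟨⟨f, hf, rfl⟩, hxN⟩ := hx
  refine h.conj_mem (g := (g : G)) (x := (f : G)) hf ?_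
  refine mem_normalizer_iff.2 fun z => ⟨fun hz => ?_, fun hz => ?_⟩
  · exact ((mem_normalizer_iff.1 hxN) ⟨z, hF hz⟩).1 hz
  · have hzE : z ∈ E := by
      have h1 := hF hz
      have h2 : ((g : G) * f * (g : G)⁻¹)⁻¹ * (((g : G) * f * (g : G)⁻¹) * z *
          ((g : G) * f * (g : G)⁻¹)⁻¹) * ((g : G) * f * (g : G)⁻¹) ∈ E :=
        mul_mem (mul_mem (inv_mem (g * f * g⁻¹ : E).2) h1) (g * f * g⁻¹ : E).2
      simpa [mul_assoc] using h2
    exact ((mem_normalizer_iff.1 hxN) ⟨z, hzE⟩).2 hz

/-- A nontrivial group satisfying the condition has a normal nontrivial Sylow subgroup. -/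
theorem exists_normal_sylow (E : Subgroup G) (hE : SylowClosed E) (hne : E ≠ ⊥) :
    ∃ q, q.Prime ∧ ∃ Q : Subgroup G, Q ≤ E ∧ Q ≠ ⊥ ∧ IsPGroup q Q ∧ ¬ q ∣ Q.relIndex E ∧
      E ≤ normalizer (Q : Set G) := by
  induction hn : Nat.card E using Nat.strong_induction_on generalizing E with
  | _ n ih =>
    have hE1 : Nat.card E ≠ 1 := fun h1 => hne (eq_bot_of_card_eq E h1)
    set p := (Nat.card E).minFac with hpdef
    haveI hp : Fact p.Prime := ⟨Nat.minFac_prime hE1⟩
    obtain ⟨P⟩ : Nonempty (Sylow p E) := inferInstance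
    have hmin : ∀ q : ℕ, q.Prime → q ∣ Nat.card E → p ≤ q := fun q hq hqd =>
      Nat.minFac_le_of_dvd hq.two_le hqd
    set P₀ := (P : Subgroup E).map E.subtype with hP₀
    have hrel : ¬ p ∣ P₀.relIndex E := by
      rw [relIndex, hP₀, subgroupOf, comap_map_eq_self_of_injective E.subtype_injective]
      exact P.not_dvd_index
    have hcompl : HasNormalPComplement p E := by
      by_cases hcyc : IsCyclic P₀
      · haveI hc : IsCyclic (P : Subgroup E) :=
          ((P : Subgroup E).equivMapOfInjective _ E.subtype_injective).symm.isCyclic.1 hcyc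
        exact ⟨P, _, inferInstance, MonoidHom.ker_transferSylow_isComplement' P
          (IsCyclic.normalizer_le_centralizer hpdef.symm hc)⟩
      · obtain ⟨D, hDP, hD1, hD2, hD⟩ :=
          hE p hp.out P₀ (map_subtype_le _) (P.isPGroup'.map _) hrel hcyc
        obtain ⟨m, hm1, hm, hmP⟩ := exists_exponent (P.isPGroup'.map _) hDP hD1 hD2
        rw [card_subtype] at hmP
        refine hasNormalPComplement_of_closedInNormalizer hmin P hm1 hmP fun F hFP hFc => ?_
        have h1 := hD (F.map E.subtype) (map_mono hFP) (by rw [card_subtype, hm]; exact hFc)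
        have h2 := closedInNormalizer_subgroupOf (map_subtype_le F) h1
        rwa [subgroupOf, comap_map_eq_self_of_injective E.subtype_injective] at h2
    obtain ⟨P₁, N, hN, hNP⟩ := hcompl
    haveI := hN
    by_cases hNb : N = ⊥
    · have hPtop : (P₁ : Subgroup E) = ⊤ := by
        subst hNb
        exact isComplement'_bot_left.1 hNP
      refine ⟨p, hp.out, E, le_rfl, hne, ?_, ?_, le_normalizer⟩
      · exact (hPtop ▸ P₁.isPGroup').of_equiv topEquiv
      · rw [relIndex_self]; exact hp.out.not_dvd_one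
    set K := N.map E.subtype with hK
    have hKE : K ≤ E := map_subtype_le _
    have hKb : K ≠ ⊥ := by
      rwa [hK, Ne, map_eq_bot_iff_of_injective _ E.subtype_injective]
    have hKrel : K.relIndex E = Nat.card (P₁ : Subgroup E) := by
      rw [relIndex, hK, subgroupOf, comap_map_eq_self_of_injective E.subtype_injective]
      exact hNP.symm.index_eq_card
    have hKlt : Nat.card K < n := by
      rw [← hn]
      refine lt_of_le_of_ne (card_le_of_le hKE) fun hc => ?_
      have hKeq : K = E := eq_of_le_of_card_ge hKE hc.ge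
      rw [hKeq, relIndex_self] at hKrel
      have hd : p ∣ Nat.card (P₁ : Subgroup E) := P₁.dvd_card_of_dvd_card (Nat.minFac_dvd _)
      exact hp.out.not_dvd_one (hKrel ▸ hd)
    have hpK : ¬ p ∣ Nat.card K := by
      rw [hK, card_subtype, ← hNP.index_eq_card]
      exact P₁.not_dvd_index
    have hKcl : SylowClosed K := by
      intro r hr R hRK hRp hRrel hRc
      refine hE r hr R (hRK.trans hKE) hRp ?_ hRc
      rw [← relIndex_mul_relIndex R K E hRK hKE, hKrel]
      intro hd
      rcases hr.dvd_mul.1 hd with hd | hd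
      · exact hRrel hd
      · obtain ⟨j, hj⟩ := IsPGroup.iff_card.1 P₁.isPGroup'
        rw [hj] at hd
        obtain rfl := (Nat.prime_dvd_prime_iff_eq hr hp.out).1 (hr.dvd_of_dvd_pow hd)
        -- then `R` is trivial
        obtain ⟨i, hi⟩ := IsPGroup.iff_card.1 hRp
        refine hRc ?_
        have hi0 : i = 0 := by
          by_contra h0
          exact hpK ((hi ▸ dvd_pow_self p h0).trans (card_dvd_of_le hRK))
        rw [hi0, pow_zero] at hi
        haveI : Subsingleton R := (Nat.card_eq_one_iff_unique.1 hi).1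
        exact isCyclic_of_subsingleton
    obtain ⟨q, hq, Q, hQK, hQb, hQp, hQrel, hQn⟩ := ih _ hKlt K hKcl hKb rfl
    haveI : Fact q.Prime := ⟨hq⟩
    refine ⟨q, hq, Q, hQK.trans hKE, hQb, hQp, ?_, ?_⟩
    · rw [← relIndex_mul_relIndex Q K E hQK hKE, hKrel]
      intro hd
      rcases hq.dvd_mul.1 hd with hd | hd
      · exact hQrel hd
      · obtain ⟨j, hj⟩ := IsPGroup.iff_card.1 P₁.isPGroup'
        rw [hj] at hd
        obtain rfl := (Nat.prime_dvd_prime_iff_eq hq hp.out).1 (hq.dvd_of_dvd_pow hd)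
        obtain ⟨i, hi⟩ := IsPGroup.iff_card.1 hQp
        by_cases h0 : i = 0
        · rw [h0, pow_zero] at hi
          exact hQb (eq_bot_of_card_eq Q hi)
        · exact hpK ((hi ▸ dvd_pow_self p h0).trans (card_dvd_of_le hQK))
    · -- `Q` is characteristic in `K`, which is normalized by `E`
      intro e he
      have hQs : IsPGroup q (Q.subgroupOf K) := hQp.comap_subtype
      let S : Sylow q K := hQs.toSylow hQrel
      haveI : (S : Subgroup K).Normal := (normal_subgroupOf_iff_le_normalizer hQK).2 hQn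
      have hSc := S.characteristic_of_normal inferInstance
      have heK : e ∈ normalizer (K : Set G) :=
        (le_normalizer_map E.subtype (H := N)) ⟨⟨e, he⟩, by rw [normalizer_eq_top]; exact mem_top _, rfl⟩
      have h1 := characteristic_iff_map_eq.1 hSc (K.normalizerMonoidHom ⟨e, heK⟩)
      refine mem_normalizer_iff.2 fun z => ⟨fun hz => ?_, fun hz => ?_⟩
      · have h2 : K.normalizerMonoidHom ⟨e, heK⟩ ⟨z, hQK hz⟩ ∈ (S : Subgroup K) :=
          h1 ▸ ⟨⟨z, hQK hz⟩, hz, rfl⟩
        exact h2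
      · rw [← h1] at h1
        have h3 : (⟨e * z * e⁻¹, hQK hz⟩ : K) ∈
            (S : Subgroup K).map (K.normalizerMonoidHom ⟨e, heK⟩).toMonoidHom :=
          (characteristic_iff_map_eq.1 hSc (K.normalizerMonoidHom ⟨e, heK⟩)).symm ▸ hz
        obtain ⟨w, hw, hwe⟩ := h3
        have h4 : e * (w : G) * e⁻¹ = e * z * e⁻¹ := congrArg Subtype.val hwe
        exact (mul_left_cancel (mul_right_cancel h4) : (w : G) = z) ▸ hw

theorem card_sup_dvd (A Q : Subgroup G) [Q.Normal] :
    Nat.card ↥(A ⊔ Q) ∣ Nat.card A * Nat.card Q := by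
  have h := relIndex_mul_relIndex ⊥ Q (A ⊔ Q) bot_le le_sup_right
  rw [relIndex_bot_left, relIndex_bot_left, relIndex_sup_right] at h
  rw [← h, mul_comm]
  exact mul_dvd_mul_right (relIndex_dvd_card Q A) _

/-- Closedness passes to the quotient by a normal subgroup of coprime order. -/
theorem closedInNormalizer_map {p : ℕ} [hp : Fact p.Prime] (Q : Subgroup G) [Q.Normal]
    (hQ : ¬ p ∣ Nat.card Q) {F : Subgroup G} (hFp : IsPGroup p F) (hF : ClosedInNormalizer F) :
    ClosedInNormalizer (F.map (QuotientGroup.mk' Q)) := by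
  classical
  intro g' x' hx
  obtain ⟨⟨f', hf', rfl⟩, hxN⟩ := hx
  obtain ⟨f, hf, rfl⟩ := hf'
  obtain ⟨g, rfl⟩ := QuotientGroup.mk'_surjective Q g'
  set π := QuotientGroup.mk' Q with hπ
  set x := g * f * g⁻¹ with hxdef
  have hx' : (MulAut.conj (π g)).toMonoidHom (π f) = π x := by
    show π g * π f * (π g)⁻¹ = π x
    rw [hxdef, map_mul, map_mul, map_inv]
  rw [hx'] at hxN ⊢
  -- a `p`-group over `F` and `x` upstairs
  set T' := zpowers (π x) ⊔ F.map π with hT'
  have hxp : IsPGroup p (zpowers x) := by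
    refine IsPGroup.of_equiv ?_ (MulEquiv.refl _)
    obtain ⟨k, hk⟩ := IsPGroup.iff_orderOf.1 hFp ⟨f, hf⟩
    rw [orderOf_mk] at hk
    refine IsPGroup.of_card (n := k) ?_
    rw [Nat.card_zpowers, hxdef, show g * f * g⁻¹ = MulAut.conj g f from rfl,
      (MulAut.conj g).orderOf_eq, hk]
  have hTp : IsPGroup p T' := by
    refine IsPGroup.to_sup_of_normal_right' ?_ (hFp.map π) (zpowers_le.2 hxN)
    rw [← MonoidHom.map_zpowers]
    exact hxp.map π
  set U := T'.comap π with hU
  have hFU : F ≤ U := fun a ha => mem_sup_right (mem_map_of_mem π ha)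
  obtain ⟨S, hS⟩ := ((hFp.of_equiv (subgroupOfEquivOfLe hFU).symm)).exists_le_sylow
  set T := (S : Subgroup U).map U.subtype with hT
  have hTU : T ≤ U := map_subtype_le _
  have hFT : F ≤ T := by
    rw [hT, ← map_subgroupOf_eq_of_le hFU]
    exact map_mono hS
  have hker : π.ker = Q := QuotientGroup.ker_mk' Q
  have hTmap : T.map π = T' := by
    refine le_antisymm (map_le_iff_le_comap.2 hTU) ?_
    let ρ : U →* T' := (π.comp U.subtype).codRestrict T' fun u => u.2
    have hρ : Function.Surjective ρ := fun t => by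
      obtain ⟨a, ha⟩ := QuotientGroup.mk'_surjective Q t.1
      exact ⟨⟨a, by rw [hU, mem_comap, ha]; exact t.2⟩, Subtype.ext ha⟩
    have htop : (S : Subgroup U).map ρ = ⊤ := by
      have := Sylow.coe_mapSurjective hρ S
      rw [← this]
      obtain ⟨k, hk⟩ := IsPGroup.iff_card.1 hTp
      refine eq_top_of_card_eq _ ?_
      rw [(S.mapSurjective hρ).card_eq_multiplicity, hk, hp.out.factorization_pow,
        Finsupp.single_eq_same]
    intro t ht
    obtain ⟨s, hs, hst⟩ : (⟨t, ht⟩ : T') ∈ (S : Subgroup U).map ρ := htop ▸ mem_top _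
    exact ⟨s, ⟨s, hs, rfl⟩, congrArg Subtype.val hst⟩
  obtain ⟨x₁, hx₁T, hx₁⟩ : ∃ x₁ ∈ T, π x₁ = π x := by
    have : π x ∈ T.map π := hTmap ▸ mem_sup_left (mem_zpowers _)
    exact this
  -- `x₁` normalizes `F`
  have hFeq : T ⊓ (F.map π).comap π = F := by
    refine (eq_of_le_of_card_ge (le_inf hFT (le_comap_map π F)) ?_).symm
    set W := T ⊓ (F.map π).comap π with hW
    have hWp : IsPGroup p W := (S.isPGroup'.map _).to_le inf_le_left
    have hcard : Nat.card W ∣ Nat.card F * Nat.card Q := by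
      refine (card_dvd_of_le (inf_le_right : W ≤ _)).trans ?_
      rw [comap_map_eq, hker]
      exact card_sup_dvd F Q
    obtain ⟨k, hk⟩ := IsPGroup.iff_card.1 hWp
    rw [hk] at hcard ⊢
    exact Nat.le_of_dvd Nat.card_pos
      ((Nat.Coprime.dvd_mul_right (Nat.Coprime.pow_left k ((hp.out.coprime_iff_not_dvd).2 hQ))).1 hcard)
  have hx₁N : x₁ ∈ normalizer (F : Set G) := by
    refine mem_normalizer_iff.2 fun z => ?_
    rw [← hFeq]
    show z ∈ T ∧ π z ∈ F.map π ↔ x₁ * z * x₁⁻¹ ∈ T ∧ π (x₁ * z * x₁⁻¹) ∈ F.map π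
    rw [map_mul, map_mul, map_inv, hx₁, ← mem_normalizer_iff.1 hxN (π z),
      ← mem_normalizer_iff.1 (le_normalizer hx₁T) z]
  -- `x₁` is a conjugate of an element of `zpowers x`
  set Z := zpowers x ⊔ Q with hZ
  have hx₁Z : x₁ ∈ Z := by
    have h1 : x⁻¹ * x₁ ∈ Q := by
      rw [← hker, MonoidHom.mem_ker, map_mul, map_inv, hx₁, inv_mul_cancel]
    have := mul_mem (mem_sup_left (mem_zpowers x) : x ∈ Z) (mem_sup_right h1 : x⁻¹ * x₁ ∈ Z)
    rwa [mul_inv_cancel_left] at this
  have hxSyl : ¬ p ∣ ((zpowers x).subgroupOf Z).index := by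
    intro hd
    rw [← relIndex] at hd
    have h := relIndex_mul_relIndex ⊥ (zpowers x) Z bot_le le_sup_left
    rw [relIndex_bot_left, relIndex_bot_left] at h
    have h2 := card_sup_dvd (zpowers x) Q
    rw [← hZ, ← h] at h2
    exact hQ (hd.trans (Nat.dvd_of_mul_dvd_mul_left Nat.card_pos h2))
  let Sx : Sylow p Z := (hxp.comap_subtype).toSylow hxSyl
  have hx₁p : IsPGroup p (zpowers x₁) := (S.isPGroup'.map _).to_le (zpowers_le.2 hx₁T)
  obtain ⟨Sy, hSy⟩ := (hx₁p.of_equiv (subgroupOfEquivOfLe (zpowers_le.2 hx₁Z)).symm).exists_le_sylow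
  obtain ⟨c, hc⟩ := MulAction.exists_smul_eq Z Sx Sy
  have hmem : (⟨x₁, hx₁Z⟩ : Z) ∈ ((c • Sx : Sylow p Z) : Subgroup Z) := by
    rw [hc]
    exact hSy (show (x₁ : G) ∈ zpowers x₁ from mem_zpowers x₁)
  rw [CfsgLib.AlperinGroup.mem_smul_sylow_iff] at hmem
  have hmem' : (c : G)⁻¹ * x₁ * (c : G) ∈ zpowers x := hmem
  obtain ⟨j, hj⟩ := mem_zpowers_iff.1 hmem'
  have hx₁e : x₁ = ((c : G) * g) * f ^ j * ((c : G) * g)⁻¹ := by
    have : (g * f * g⁻¹) ^ j = g * f ^ j * g⁻¹ := conj_zpow.trans rfl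
    rw [hxdef, this] at hj
    calc x₁ = (c : G) * ((c : G)⁻¹ * x₁ * c) * (c : G)⁻¹ := by group
      _ = (c : G) * (g * f ^ j * g⁻¹) * (c : G)⁻¹ := by rw [← hj]
      _ = _ := by group
  have : x₁ ∈ F := by
    rw [hx₁e] at hx₁N ⊢
    exact hF.conj_mem (zpow_mem hf j) hx₁N
  exact hx₁ ▸ mem_map_of_mem π this

/-- The Sylow condition passes to the quotient by a normal Sylow subgroup. -/
theorem sylowClosed_map {q : ℕ} [hq : Fact q.Prime] (E Q : Subgroup G) [Q.Normal]
    (hQE : Q ≤ E) (hQp : IsPGroup q Q) (hQrel : ¬ q ∣ Q.relIndex E) (hE : SylowClosed E) :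
    SylowClosed (E.map (QuotientGroup.mk' Q)) := by
  classical
  intro r hr P' hP'E hP'p hP'rel hP'c
  haveI : Fact r.Prime := ⟨hr⟩
  set π := QuotientGroup.mk' Q with hπ
  have hker : π.ker = Q := QuotientGroup.ker_mk' Q
  have hrQ : ¬ r ∣ Nat.card Q := by
    intro hd
    obtain ⟨k, hk⟩ := IsPGroup.iff_card.1 hQp
    rw [hk] at hd
    obtain rfl := (Nat.prime_dvd_prime_iff_eq hr hq.out).1 (hr.dvd_of_dvd_pow hd)
    refine hP'c ?_
    obtain ⟨i, hi⟩ := IsPGroup.iff_card.1 hP'p
    have hi0 : i = 0 := by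
      by_contra h0
      refine hQrel ((hi ▸ dvd_pow_self r h0).trans ((card_dvd_of_le hP'E).trans (dvd_of_eq ?_)))
      rw [← relIndex_bot_left, ← relIndex_comap, MonoidHom.comap_bot, hker]
    rw [hi0, pow_zero] at hi
    haveI : Subsingleton P' := (Nat.card_eq_one_iff_unique.1 hi).1
    exact isCyclic_of_subsingleton
  set X := P'.comap π with hX
  have hXE : X ≤ E := by
    refine (comap_mono hP'E).trans ?_
    rw [comap_map_eq, hker, sup_eq_left.2 hQE]
  obtain ⟨S⟩ : Nonempty (Sylow r X) := inferInstance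
  set P := (S : Subgroup X).map X.subtype with hP
  have hPX : P ≤ X := map_subtype_le _
  have hrelPX : ¬ r ∣ P.relIndex X := by
    rw [relIndex, hP, subgroupOf, comap_map_eq_self_of_injective X.subtype_injective]
    exact S.not_dvd_index
  have hQX : Q ≤ X := fun a ha => by
    rw [hX, mem_comap, show π a = 1 from (QuotientGroup.eq_one_iff a).2 ha]; exact one_mem _
  have hrelXE : X.relIndex E = P'.relIndex (E.map π) := by
    rw [hX, relIndex_comap]
  have hPinj : ∀ a ∈ P, π a = 1 → a = 1 := fun a ha h1 => by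
    have haQ : a ∈ Q := (QuotientGroup.eq_one_iff a).1 h1
    obtain ⟨k, hk⟩ := IsPGroup.iff_orderOf.1 (S.isPGroup'.map X.subtype) ⟨a, ha⟩
    rw [orderOf_mk] at hk
    have hd : orderOf a ∣ Nat.card Q := by
      rw [← orderOf_mk a haQ]; exact _root_.orderOf_dvd_natCard _
    rw [← orderOf_eq_one_iff]
    by_contra h0
    rcases Nat.eq_zero_or_pos k with rfl | hk0
    · exact h0 (by rw [hk, pow_zero])
    · exact hrQ ((hk ▸ dvd_pow_self r hk0.ne').trans hd)
  have hcardP : Nat.card (P.map π) = Nat.card P := by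
    let f : P →* G ⧸ Q := π.comp P.subtype
    have hf : Function.Injective f := (injective_iff_map_eq_one f).2 fun a ha =>
      Subtype.ext (hPinj a a.2 ha)
    have : f.range = P.map π := by rw [MonoidHom.range_comp, range_subtype]
    rw [← this]
    exact (Nat.card_congr (MonoidHom.ofInjective hf).toEquiv).symm
  have hPmap : P.map π = P' := by
    refine eq_of_le_of_card_ge (map_le_iff_le_comap.2 hPX) ?_
    rw [hcardP, hP, card_subtype]
    refine Nat.le_of_dvd Nat.card_pos ?_
    obtain ⟨k, hk⟩ := IsPGroup.iff_card.1 hP'p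
    rw [hk]
    refine S.pow_dvd_card_of_pow_dvd_card ?_
    rw [← hk, hX]
    have hsurj : Function.Surjective (π : G →* G ⧸ Q) := QuotientGroup.mk'_surjective Q
    have h1 : Nat.card ((P'.comap π).map π) ∣ Nat.card (P'.comap π) := card_map_dvd _ _
    rwa [map_comap_eq_self_of_surjective hsurj] at h1
  have hrelPE : ¬ r ∣ P.relIndex E := by
    rw [← relIndex_mul_relIndex P X E hPX hXE, hrelXE]
    exact fun hd => (hr.dvd_mul.1 hd).elim hrelPX hP'rel
  have hPc : ¬ IsCyclic P := fun hc => hP'c (by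
    haveI := hc
    exact hPmap ▸ isCyclic_of_surjective (π.subgroupMap P) (π.subgroupMap_surjective P))
  obtain ⟨D, hDP, hD1, hD2, hD⟩ := hE r hr P (hPX.trans hXE) (S.isPGroup'.map _) hrelPE hPc
  have hcardle : ∀ F : Subgroup G, F ≤ P → Nat.card (F.map π) = Nat.card F := by
    intro F hF
    let f : F →* G ⧸ Q := π.comp F.subtype
    have hf : Function.Injective f := (injective_iff_map_eq_one f).2 fun a ha =>
      Subtype.ext (hPinj a (hF a.2) ha)
    have : f.range = F.map π := by rw [MonoidHom.range_comp, range_subtype]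
    rw [← this]
    exact (Nat.card_congr (MonoidHom.ofInjective hf).toEquiv).symm
  refine ⟨D.map π, hPmap ▸ map_mono hDP, by rwa [hcardle D hDP],
    by rw [hcardle D hDP, ← hPmap, hcardP]; exact hD2, fun F' hF' hFc => ?_⟩
  set F := P ⊓ F'.comap π with hF
  have hFmap : F.map π = F' := by
    refine le_antisymm (map_le_iff_le_comap.2 inf_le_right) fun a ha => ?_
    obtain ⟨b, hb, rfl⟩ : a ∈ P.map π := hPmap.symm ▸ hF' ha
    exact ⟨b, ⟨hb, ha⟩, rfl⟩
  rw [hcardle D hDP, ← hFmap, hcardle F inf_le_left] at hFc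
  rw [← hFmap]
  exact closedInNormalizer_map Q hrQ ((S.isPGroup'.map _).to_le inf_le_left) (hD F inf_le_left hFc)

/-- All subgroups of order `p ^ m` of the normal `p`-subgroup `Q` normal in `G`. -/
theorem centralizes_of_normal_subgroups {p : ℕ} [hp : Fact p.Prime] (Q : Subgroup G) [Q.Normal]
    (hQ : IsPGroup p Q) {m : ℕ} (hm : 1 ≤ m) (hmQ : p ^ (m + 1) ∣ Nat.card Q)
    (h : ∀ F : Subgroup G, F ≤ Q → (Nat.card F = p ^ m ∨ (p ^ m = 2 ∧ Nat.card F = 4)) → F.Normal)
    {y : G} (hy : y ∈ derivedPow G (p - 1)) (hyp : (orderOf y).Coprime p) {x : G} (hx : x ∈ Q) :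
    y * x * y⁻¹ = x := by
  classical
  -- elements of small order
  have hsmall : ∀ u ∈ Q, u ^ p ^ m = 1 → ∀ F : Subgroup G, F ≤ Q → Nat.card F = p ^ m →
      y * u * y⁻¹ * u⁻¹ ∈ F := by
    intro u hu hum F hF hFc
    haveI := h F hF (Or.inl hFc)
    obtain ⟨i, him, hi⟩ := (Nat.dvd_prime_pow hp.out).1 (orderOf_dvd_of_pow_eq_one hum)
    set T := F ⊔ zpowers u with hT
    have hTQ : T ≤ Q := sup_le hF (zpowers_le.2 hu)
    have huT : u ∈ T := mem_sup_right (mem_zpowers u)
    have hTd : p ^ m ∣ Nat.card T := hFc ▸ card_dvd_of_le (le_sup_left : F ≤ T)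
    obtain ⟨K, hK, hKu⟩ := Sylow.exists_subgroup_card_pow_prime_le p (G := T) hTd
      (zpowers (⟨u, huT⟩ : T)) (by rw [Nat.card_zpowers, orderOf_mk, hi]) him
    have hKn : (K.map T.subtype).Normal :=
      h _ ((map_subtype_le K).trans hTQ) (Or.inl (by rw [card_subtype, hK]))
    have hTn : T.Normal := by
      have : T = F ⊔ K.map T.subtype := le_antisymm
        (sup_le le_sup_left (le_trans (zpowers_le.2 (show u ∈ K.map T.subtype from
          ⟨⟨u, huT⟩, hKu (mem_zpowers _), rfl⟩)) le_sup_right))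
        (sup_le le_sup_left (map_subtype_le K))
      rw [this]
      infer_instance
    set π := QuotientGroup.mk' F with hπ
    have hzn : (zpowers (π u)).Normal := by
      have : zpowers (π u) = T.map π := by
        rw [hT, Subgroup.map_sup, MonoidHom.map_zpowers, QuotientGroup.map_mk'_self, bot_sup_eq]
      rw [this]
      exact hTn.map π (QuotientGroup.mk'_surjective F)
    have hq := commute_derivedPow_cyclic (p := p) (a := m)
      (x := π u) (y := π y) (by rw [← map_pow, hum, map_one]) hzn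
      (derivedPow_map (QuotientGroup.mk'_surjective F) (p - 1) ▸ mem_map_of_mem π hy)
      (hyp.coprime_dvd_left (orderOf_map_dvd π y))
    rw [← map_inv, ← map_mul, ← map_mul] at hq
    have h2 := QuotientGroup.eq.1 hq.symm
    have h3 := (inferInstance : F.Normal).conj_mem _ h2 u
    rwa [mul_inv_cancel_left] at h3
  by_cases hall : ∀ u ∈ Q, u ^ p ^ m = 1
  · -- trivial on the Frattini quotient
    have hle := CfsgLib.Solvable.le_centralizer_of_trivial_on_frattini_quotient (A := zpowers y) (K := Q)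
      (by
        obtain ⟨k, hk⟩ := IsPGroup.iff_card.1 hQ
        obtain ⟨j, -, hj⟩ := (Nat.dvd_prime_pow hp.out).1 (hk ▸ (frattini Q).card_subgroup_dvd_card)
        rw [Nat.card_zpowers, hj]
        exact hyp.pow_right j)
      (by
        intro a ha u hu
        have hmemQ : a * u * a⁻¹ * u⁻¹ ∈ Q :=
          mul_mem (‹Q.Normal›.conj_mem u hu a) (inv_mem hu)
        refine ⟨⟨_, hmemQ⟩, ?_, rfl⟩
        show (⟨_, hmemQ⟩ : Q) ∈ frattini Q
        rw [frattini, Order.radical]
        simp only [Subgroup.mem_iInf]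
        intro M hM
        obtain ⟨k, hk⟩ := IsPGroup.iff_card.1 hQ
        obtain ⟨j, hjk, hj⟩ := (Nat.dvd_prime_pow hp.out).1 (hk ▸ M.card_subgroup_dvd_card)
        have hmj : p ^ m ∣ Nat.card M := by
          rw [hj]
          refine pow_dvd_pow p ?_
          by_contra hlt
          obtain ⟨K, hK, hMK⟩ := Sylow.exists_subgroup_card_pow_prime_le p (G := Q)
            ((pow_dvd_pow p (Nat.le_succ m)).trans hmQ) M hj (by omega)
          have hne : M ≠ K := fun e => by
            rw [← e, hj] at hK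
            have hk2 := Nat.pow_right_injective hp.out.two_le hK
            omega
          obtain rfl := hM.2 K (lt_of_le_of_ne hMK hne)
          rw [card_top, hk] at hK
          have hk1 := (Nat.pow_dvd_pow_iff_le_right hp.out.one_lt).1 (hk ▸ hmQ)
          have hk2 := Nat.pow_right_injective hp.out.two_le hK
          omega
        obtain ⟨K, hK⟩ := Sylow.exists_subgroup_card_pow_prime p (G := M) hmj
        set F := (K.map M.subtype).map Q.subtype with hF
        have hFc : Nat.card F = p ^ m := by rw [hF, card_subtype, card_subtype, hK]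
        haveI := h F (map_subtype_le _) (Or.inl hFc)
        -- `zpowers y` acts trivially modulo `F`
        have h0 := hsmall u hu (hall u hu) F (map_subtype_le _) hFc
        have hc : ∀ b ∈ zpowers y, Commute (QuotientGroup.mk' F b) (QuotientGroup.mk' F u) := by
          intro b hb
          obtain ⟨i, rfl⟩ := mem_zpowers_iff.1 hb
          rw [map_zpow]
          refine Commute.zpow_left ?_ i
          have : QuotientGroup.mk' F (y * u * y⁻¹ * u⁻¹) = 1 := (QuotientGroup.eq_one_iff _).2 h0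
          rw [map_mul, map_mul, map_mul, map_inv, map_inv] at this
          exact commutatorElement_eq_one_iff_commute.1 this
        have h1 : a * u * a⁻¹ * u⁻¹ ∈ F := (QuotientGroup.eq_one_iff _).1 (by
          show QuotientGroup.mk' F (a * u * a⁻¹ * u⁻¹) = 1
          rw [map_mul, map_mul, map_mul, map_inv, map_inv]
          exact commutatorElement_eq_one_iff_commute.2 (hc a ha))
        obtain ⟨z, hz, hze⟩ := h1
        have : z = ⟨_, hmemQ⟩ := Subtype.ext hze
        exact this ▸ map_subtype_le K hz)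
    exact mul_inv_eq_iff_eq_mul.2 ((hle (mem_zpowers y) x hx).symm)
  push Not at hall
  obtain ⟨x₀, hx₀, hx₀m⟩ := hall
  obtain ⟨s, hs⟩ := IsPGroup.iff_orderOf.1 hQ ⟨x₀, hx₀⟩
  rw [orderOf_mk] at hs
  have hsm : m < s := by
    by_contra hle
    exact hx₀m (orderOf_dvd_iff_pow_eq_one.1 (hs ▸ pow_dvd_pow p (not_lt.1 hle)))
  set e := x₀ ^ p ^ (s - m) with he
  have heQ : e ∈ Q := pow_mem hx₀ _
  have heo : orderOf e = p ^ m := by
    rw [he, orderOf_pow_of_dvd (pow_pos hp.out.pos _).ne' (hs ▸ pow_dvd_pow p (Nat.sub_le s m)), hs,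
      Nat.pow_div (Nat.sub_le s m) hp.out.pos, Nat.sub_sub_self hsm.le]
  have hen : (zpowers e).Normal := h _ (zpowers_le.2 heQ) (Or.inl (by rw [Nat.card_zpowers, heo]))
  have hye : y * e * y⁻¹ = e :=
    commute_derivedPow_cyclic (p := p) (a := m) (heo ▸ pow_orderOf_eq_one e) hen hy hyp
  have hfix : ∀ u ∈ Q, u ^ p = 1 ∨ (p = 2 ∧ u ^ 4 = 1) → y * u * y⁻¹ = u := by
    intro u hu hu4
    by_cases hum : u ^ p ^ m = 1
    · obtain ⟨j, hj⟩ := mem_zpowers_iff.1
        (hsmall u hu hum _ (zpowers_le.2 heQ) (by rw [Nat.card_zpowers, heo]))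
      have hn : ∀ n : ℕ, y ^ n * u * (y ^ n)⁻¹ = (e ^ j) ^ n * u := by
        intro n
        induction n with
        | zero => simp
        | succ n ih =>
          calc y ^ (n + 1) * u * (y ^ (n + 1))⁻¹ = y * (y ^ n * u * (y ^ n)⁻¹) * y⁻¹ := by
                rw [pow_succ']; group
            _ = (y * (e ^ j) ^ n * y⁻¹) * (y * u * y⁻¹) := by rw [ih]; group
            _ = (e ^ j) ^ n * (e ^ j * u) := by
              rw [← conj_pow, ← conj_zpow, hye, hj, inv_mul_cancel_right]
            _ = (e ^ j) ^ (n + 1) * u := by rw [pow_succ, mul_assoc]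
      have ho := hn (orderOf y)
      rw [pow_orderOf_eq_one, one_mul, inv_one, mul_one, eq_comm, mul_eq_right] at ho
      have h1 : orderOf (e ^ j) ∣ Nat.gcd (orderOf y) (p ^ m) := Nat.dvd_gcd
        (orderOf_dvd_of_pow_eq_one ho)
        (heo ▸ orderOf_dvd_of_mem_zpowers (zpow_mem (mem_zpowers e) j))
      rw [show Nat.gcd (orderOf y) (p ^ m) = 1 from hyp.pow_right m, Nat.dvd_one,
        orderOf_eq_one_iff, hj, mul_inv_eq_one] at h1
      exact h1
    · rcases hu4 with hu1 | ⟨rfl, hu4⟩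
      · exact absurd (by
          rw [show p ^ m = p * p ^ (m - 1) by rw [← pow_succ']; congr 1; omega, pow_mul, hu1,
            one_pow]) hum
      have hm1 : m = 1 := by
        by_contra hne
        refine hum ?_
        rw [show (2 : ℕ) ^ m = 4 * 2 ^ (m - 2) by
          rw [show (4 : ℕ) = 2 ^ 2 by norm_num, ← pow_add]; congr 1; omega, pow_mul, hu4, one_pow]
      subst hm1
      have hu2 : orderOf u = 4 := by
        rw [show (4 : ℕ) = 2 ^ (1 + 1) by norm_num] at hu4 ⊢
        exact orderOf_eq_prime_pow hum hu4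
      exact commute_derivedPow_cyclic (p := 2) (a := 2) (by simpa using hu4)
        (h _ (zpowers_le.2 hu) (Or.inr ⟨by norm_num, by rw [Nat.card_zpowers, hu2]⟩)) hy hyp
  have hyN : y ∈ normalizer (Q : Set G) := by rw [normalizer_eq_top]; exact mem_top y
  have ha : Q.normalizerMonoidHom ⟨y, hyN⟩ = 1 := by
    refine CfsgLib.Fusion.SmallFix.eq_one_of_fix_small hQ _ ?_ fun u hu => Subtype.ext ?_
    · exact hyp.coprime_dvd_left ((orderOf_map_dvd _ _).trans (by rw [orderOf_mk]))
    · exact hfix u u.2 (CfsgLib.Fusion.SmallFix.isSmall_coe.2 hu)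
  have h0 := DFunLike.congr_fun ha (⟨x, hx⟩ : Q)
  exact congrArg Subtype.val h0

/-- The supersolvability criterion. -/
theorem supersolvable_of_sylowClosed (E : Subgroup G) [E.Normal]
    (hGE : Cfsg.IsSupersolvable (G ⧸ E)) (hE : SylowClosed E) : Cfsg.IsSupersolvable G := by
  revert E
  refine CfsgLib.Supersolvable.groupInduction (P := fun G _ _ => ∀ (E : Subgroup G) [E.Normal],
    Cfsg.IsSupersolvable (G ⧸ E) → SylowClosed E → Cfsg.IsSupersolvable G)
    (fun G _ _ ih E _ hGE hE => ?_) G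
  classical
  by_cases hEb : E = ⊥
  · subst hEb
    exact CfsgLib.Supersolvable.of_mulEquiv QuotientGroup.quotientBot hGE
  obtain ⟨q, hq, Q, hQE, hQb, hQp, hQrel, hQn⟩ := exists_normal_sylow E hE hEb
  haveI : Fact q.Prime := ⟨hq⟩
  haveI hQnormal : Q.Normal := by
    have hQs : IsPGroup q (Q.subgroupOf E) := hQp.comap_subtype
    let S : Sylow q E := hQs.toSylow hQrel
    haveI : (S : Subgroup E).Normal := (normal_subgroupOf_iff_le_normalizer hQE).2 hQn
    haveI := S.characteristic_of_normal inferInstance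
    have hS : (S : Subgroup E).map E.subtype = Q := map_subgroupOf_eq_of_le hQE
    rw [← hS]
    infer_instance
  haveI : (E.map (QuotientGroup.mk' Q)).Normal :=
    Subgroup.Normal.map inferInstance _ (QuotientGroup.mk'_surjective Q)
  have hGQ : Cfsg.IsSupersolvable (G ⧸ Q) :=
    ih (G ⧸ Q) (CfsgLib.Supersolvable.card_quotient_lt hQb) (E.map (QuotientGroup.mk' Q))
      (CfsgLib.Supersolvable.of_mulEquiv (QuotientGroup.quotientQuotientEquivQuotient Q E hQE).symm hGE)
      (sylowClosed_map E Q hQE hQp hQrel hE)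
  by_cases hc : IsCyclic Q
  · exact CfsgLib.Supersolvable.of_quotient_cyclic Q hGQ
  obtain ⟨D, hDQ, hD1, hD2, hD⟩ := hE q hq Q hQE hQp hQrel hc
  obtain ⟨m, hm1, hm, hmQ⟩ := exists_exponent hQp hDQ hD1 hD2
  refine supersolvable_of_derivedPow_centralizes (p := q) Q hQp hGQ fun y hy hyp x hx =>
    centralizes_of_normal_subgroups Q hQp hm1 hmQ (fun F hF hFc => ?_) hy hyp hx
  have hcl := hD F hF (hm ▸ hFc)
  refine ⟨fun f hf g => hcl.conj_mem hf ?_⟩
  exact hcl.le_normalizer hQp hF (hQnormal.conj_mem f (hF hf) g)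

end CfsgLib.Case
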