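import Cfsg.Agent.Lib.Case.IsolatedPMinimal
import Cfsg.Agent.Lib.Components.Permute
import Cfsg.Agent.Lib.KazarinClass.Basic
import Cfsg.Agent.Lib.Solvable.CoprimeAction

/-!
The normal closure `Y` of `O^p(P)` for an isolated `p`-minimal `P`, in the insoluble case:
`Y/O_p(Y)` is a product of components permuted transitively by `S`, of order divisible by `p`.
-/

set_option autoImplicit false
set_option linter.style.haveILetI false
set_option linter.unusedSectionVars false

namespace CfsgLib.Case.IsoP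

open Subgroup Cfsg CfsgLib.LocalEven
open CfsgLib.LocalStr (pRes)
open scoped commutatorElement

/-- An element acting on a perfect group `Y` with `[q, Y] ≤ Z(Y)` centralises `Y`. -/
theorem mul_comm_of_commutator_central {H : Type*} [Group H] {Y : Subgroup H}
    (hperf : ⁅Y, Y⁆ = Y) {q : H} (hq : q ∈ normalizer (Y : Set H))
    (hz : ∀ y ∈ Y, ∀ w ∈ Y, Commute (q * y * q⁻¹ * y⁻¹) w) :
    ∀ y ∈ Y, y * q = q * y := by
  have hone : ∀ q : H, q * 1 * q⁻¹ * (1 : H)⁻¹ = 1 := fun q => by group
  have hmul : ∀ q a b : H, q * b * q⁻¹ * b⁻¹ * a⁻¹ = a⁻¹ * (q * b * q⁻¹ * b⁻¹) →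
      q * (a * b) * q⁻¹ * (a * b)⁻¹ = q * a * q⁻¹ * a⁻¹ * (q * b * q⁻¹ * b⁻¹) :=
    fun q a b e => by
      calc q * (a * b) * q⁻¹ * (a * b)⁻¹
          = q * a * q⁻¹ * (q * b * q⁻¹ * b⁻¹ * a⁻¹) := by group
        _ = q * a * q⁻¹ * (a⁻¹ * (q * b * q⁻¹ * b⁻¹)) := by rw [e]
        _ = _ := by group
  let c : ↥Y → ↥(Subgroup.center ↥Y) := fun y =>
    ⟨⟨q * y * q⁻¹ * (y : H)⁻¹,
        Y.mul_mem (LocalStr.conj_mem_of_mem_normalizer hq y.2) (Y.inv_mem y.2)⟩,
      mem_center_iff.2 fun w => Subtype.ext (hz y y.2 w w.2).eq.symm⟩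
  let f : ↥Y →* ↥(Subgroup.center ↥Y) :=
    { toFun := c
      map_one' := Subtype.ext (Subtype.ext (hone q))
      map_mul' := fun a b => Subtype.ext (Subtype.ext
        (hmul q a b (hz b b.2 _ (Y.inv_mem a.2)).eq)) }
  intro y hy
  have htop : commutator ↥Y = ⊤ := by
    refine map_injective Y.subtype_injective ?_
    rw [map_subtype_commutator, hperf, ← MonoidHom.range_eq_map, range_subtype]
  have h1 : (⟨y, hy⟩ : ↥Y) ∈ f.ker :=
    have hk : commutator ↥Y ≤ f.ker := by
      rw [commutator_def, commutator_le]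
      intro a _ b _
      rw [MonoidHom.mem_ker, map_commutatorElement, commutatorElement_eq_one_iff_mul_comm]
      exact Subtype.ext (mem_center_iff.1 (f b).2 (f a).1)
    hk (htop.symm ▸ mem_top _)
  have h2 : q * y * q⁻¹ * y⁻¹ = 1 :=
    congrArg (fun x : ↥(Subgroup.center ↥Y) => ((x : ↥Y) : H)) (MonoidHom.mem_ker.1 h1)
  rw [mul_inv_eq_one, mul_inv_eq_iff_eq_mul] at h2
  exact h2.symm

/-- A solvable subgroup normalised by a product of components centralises it. -/
theorem le_centralizer_of_solvable {H : Type*} [Group H] [Finite H] {Y M : Subgroup H}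
    {T : Set (Subgroup H)} (hT : ∀ K ∈ T, IsComponent K) (hY : Y = sSup T)
    (hM : Group.IsSolvable ↥M) (hn : Y ≤ normalizer (M : Set H)) :
    Y ≤ centralizer (M : Set H) := by
  subst hY
  exact sSup_le fun K hK => Components.le_centralizer_of_commutator_eq_bot
    (Components.component_commutator_solvable (hT K hK) hM ((le_sSup hK).trans hn))

/-- A `q` whose centraliser in `Y` has prime power index, where `Y` is a product of components
normalised by `q` with order coprime to that of `q`, centralises `Y` (Kazarin). -/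
theorem mul_comm_of_index_prime_pow {H : Type*} [Group H] [Finite H] {Y C : Subgroup H}
    {T : Set (Subgroup H)} (hT : ∀ K ∈ T, IsComponent K) (hY : Y = sSup T)
    {q : H} (hq : q ∈ normalizer (Y : Set H)) (hcop : (Nat.card ↥Y).Coprime (orderOf q))
    (hC : C ≤ Y) (hCq : ∀ c ∈ C, c * q = q * c) {r k : ℕ} (hr : r.Prime)
    (hidx : C.relIndex Y = r ^ k) : ∀ y ∈ Y, y * q = q * y := by
  set X := Y ⊔ zpowers q with hX
  set qX : X := ⟨q, mem_sup_right (mem_zpowers q)⟩ with hqX
  have hZn : zpowers q ≤ normalizer (Y : Set H) := zpowers_le.2 hq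
  have hdY : Disjoint Y (zpowers q) :=
    disjoint_of_coprime_natCard (by rwa [Nat.card_zpowers])
  have hZC : zpowers q ≤ normalizer (C : Set H) := by
    refine le_trans ?_ (centralizer_le_normalizer _)
    rw [zpowers_le, mem_centralizer_iff]
    exact fun c hc => hCq c hc
  set D := C ⊔ zpowers q with hD
  have hDX : D ≤ X := sup_le_sup hC le_rfl
  have hidxD : D.relIndex X = r ^ k := by
    have e1 : Nat.card ↥X = Nat.card ↥Y * Nat.card ↥(zpowers q) :=
      Solvable.card_sup_of_disjoint hZn hdY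
    have e2 : Nat.card ↥D = Nat.card ↥C * Nat.card ↥(zpowers q) :=
      Solvable.card_sup_of_disjoint hZC (hdY.mono_left hC)
    have e3 : Nat.card ↥(D.subgroupOf X) * D.relIndex X = Nat.card ↥X :=
      Subgroup.card_mul_index _
    have e4 : Nat.card ↥(C.subgroupOf Y) * C.relIndex Y = Nat.card ↥Y :=
      Subgroup.card_mul_index _
    rw [Nat.card_congr (subgroupOfEquivOfLe hDX).toEquiv, e1, e2, ← e4,
      Nat.card_congr (subgroupOfEquivOfLe hC).toEquiv] at e3
    have hpos : 0 < Nat.card ↥C * Nat.card ↥(zpowers q) :=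
      Nat.mul_pos Nat.card_pos Nat.card_pos
    rw [← hidx]
    exact Nat.eq_of_mul_eq_mul_left hpos (e3.trans (by ring))
  obtain ⟨j, -, hj⟩ : ∃ j, j ≤ k ∧ (centralizer ({qX} : Set X)).index = r ^ j := by
    refine (Nat.dvd_prime_pow hr).1 (hidxD ▸ index_dvd_of_le ?_)
    intro x hx
    rw [mem_subgroupOf] at hx
    rw [mem_centralizer_singleton_iff]
    refine Subtype.ext ?_
    have : D ≤ centralizer ({q} : Set H) := sup_le (fun c hc => mem_centralizer_singleton_iff.2
      (hCq c hc)) (zpowers_le.2 (mem_centralizer_singleton_iff.2 rfl))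
    exact mem_centralizer_singleton_iff.1 (this hx)
  set N := (normalClosure ({qX} : Set X)).map X.subtype with hN
  have hNs : Group.IsSolvable ↥N := by
    haveI := KazarinClass.isSolvable_normalClosure hr _ qX rfl ⟨j, hj⟩
    exact Group.isSolvable_of_surjective (f := (X.subtype).subgroupMap (normalClosure {qX}))
      (MonoidHom.subgroupMap_surjective _ _)
  have hNn : X ≤ normalizer (N : Set H) := LocalStr.map_subtype_le_normalizer inferInstance
  have hqN : q ∈ N := ⟨qX, subset_normalClosure rfl, rfl⟩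
  have hMs : Group.IsSolvable ↥(Y ⊓ N) :=
    haveI := hNs
    Group.isSolvable_of_isSolvable_injective (inclusion_injective (inf_le_right : Y ⊓ N ≤ N))
  have hMn : Y ≤ normalizer ((Y ⊓ N : Subgroup H) : Set H) := fun y hy =>
    inf_normalizer_le_normalizer_inf ⟨le_normalizer hy, hNn (mem_sup_left hy)⟩
  have hc := le_centralizer_of_solvable hT hY hMs hMn
  have hperf : ⁅Y, Y⁆ = Y := le_antisymm (commutator_le_self _) (by
    conv_lhs => rw [hY]
    exact sSup_le fun K hK => (Components.component_commutator_self (hT K hK)).symm.trans_le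
      (commutator_mono (hY ▸ le_sSup hK) (hY ▸ le_sSup hK)))
  refine mul_comm_of_commutator_central hperf hq fun y hy w hw => ?_
  have h1 : q * y * q⁻¹ * y⁻¹ ∈ Y ⊓ N := by
    refine ⟨Y.mul_mem (LocalStr.conj_mem_of_mem_normalizer hq hy) (Y.inv_mem hy), ?_⟩
    have := N.mul_mem hqN
      ((mem_normalizer_iff.1 (hNn (mem_sup_left hy)) q⁻¹).1 (N.inv_mem hqN))
    simpa [mul_assoc] using this
  exact mem_centralizer_iff.1 (hc hw) _ h1

namespace Setup

variable {G : Type*} [Group G] [Finite G] {p : ℕ} [hp : Fact p.Prime]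
variable {S : Sylow p G} {P L : Subgroup G} (h : Setup S P L)
include h

/-- `P` is isolated in `Y S` as well. -/
theorem isolated_in_sup (Y : Subgroup G) :
    ¬ pCoreOf p ((normalizer ((S : Subgroup G) : Set G) ⊓ (Y ⊔ (S : Subgroup G))) ⊔
      ⨆ P' : {P' : Subgroup G // (S : Subgroup G) ≤ P' ∧ P' ≤ Y ⊔ (S : Subgroup G) ∧
        IsPMinimal p ↥P' ∧ P' ≠ P}, (P' : Subgroup G)) ≤ pCoreOf p P := by
  set L₀ := (normalizer ((S : Subgroup G) : Set G) ⊓ (Y ⊔ (S : Subgroup G))) ⊔
      ⨆ P' : {P' : Subgroup G // (S : Subgroup G) ≤ P' ∧ P' ≤ Y ⊔ (S : Subgroup G) ∧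
        IsPMinimal p ↥P' ∧ P' ≠ P}, (P' : Subgroup G)
  intro hle
  refine h.hiso (le_trans ?_ hle)
  have hS : (S : Subgroup G) ≤ L₀ :=
    le_trans (le_inf le_normalizer le_sup_right) le_sup_left
  have hL : L₀ ≤ L := sup_le (inf_le_left.trans h.normalizer_S_le)
    (iSup_le fun P' => h.pMinimal_le P'.2.1 P'.2.2.2.1 P'.2.2.2.2)
  exact LocalStr.le_pCoreOf (h.pCoreOf_L_le_S.trans hS)
    (hL.trans (LocalStr.le_normalizer_pCoreOf L)) (LocalStr.isPGroup_pCoreOf L)

section Quot

variable [hn : (pCore p G).Normal]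

local notation "π" => QuotientGroup.mk' (pCore p G)

variable {Y : Subgroup G} (hY : Y = normalClosure ((pRes p P : Subgroup G) : Set G))
include hY

theorem not_Q_le_centralizer_Y :
    ¬ (pCoreOf p L).map π ≤ centralizer (Y.map π : Set (G ⧸ pCore p G)) := by
  intro h1
  apply h.not_P_le_normalizer
  rw [← h.pRes_sup]
  refine sup_le (fun a ha => ?_) (h.S_le_L.trans (LocalStr.le_normalizer_pCoreOf L))
  refine mem_normalizer_of_conj_le' (fun q hq => ?_)
  have h2 := (mem_centralizer_iff.1 (h1 (mem_map_of_mem π hq))) _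
    (mem_map_of_mem π (h.A_le_Y hY ha))
  have h3 : π (a * q * a⁻¹ * q⁻¹) = 1 := by
    rw [map_mul, map_mul, map_mul, map_inv, map_inv, h2]
    simp
  have h4 : a * q * a⁻¹ * q⁻¹ ∈ pCoreOf p L := h.R_le_Q ((QuotientGroup.eq_one_iff _).1 h3)
  simpa [mul_assoc] using mul_mem h4 hq

theorem isSolvable_of_map (hs : Group.IsSolvable ↥(Y.map π)) : Group.IsSolvable ↥Y := by
  refine KazarinClass.isSolvable_of_map π Y hs ?_
  rw [QuotientGroup.ker_mk']
  haveI := ((Solvable.pCore_isPGroup p G).to_le (inf_le_right : Y ⊓ pCore p G ≤ _)).isNilpotent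
  exact inferInstance

theorem map_Y_eq_sSup (hns : ¬ Group.IsSolvable ↥Y) :
    Y.map π = sSup {K | IsComponent K ∧ K ≤ Y.map π} := by
  haveI hYn := h.Y_normal hY
  haveI hYbn : (Y.map π).Normal := hYn.map _ (QuotientGroup.mk'_surjective _)
  set T := {K : Subgroup (G ⧸ pCore p G) | IsComponent K ∧ K ≤ Y.map π} with hT
  have hE : sSup T ≤ Y.map π := sSup_le fun K hK => hK.2
  haveI hEn : (sSup T).Normal := Components.normal_sSup_of_conj fun g K hK =>
    ⟨Components.component_map_conj hK.1 g, (map_mono hK.2).trans (le_of_eq (by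
      exact Components.map_conj_eq_of_mem_normalizer (le_normalizer_of_normal (mem_top g))))⟩
  refine le_antisymm ?_ hE
  rcases h.Y_le_or_le hY (N := (sSup T).comap π) with h1 | h1
  · exact map_le_iff_le_comap.2 h1
  · exfalso
    have hc : sSup T ≤ centralizer (sSup T : Subgroup (G ⧸ pCore p G)) :=
      hE.trans (h.map_Y_le_centralizer hY h1)
    have hempty : ∀ K ∈ T, False := fun K hK =>
      Components.component_commutator_self_ne_bot hK.1 (commutator_eq_bot_iff_le_centralizer.2
        (((le_sSup hK).trans hc).trans (centralizer_le (le_sSup hK))))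
    have h2 : Y.map π ≤ fittingSubgroup (G ⧸ pCore p G) := by
      rw [GenFittingSub.subnormal_le_genFitting_eq (Subgroup.Normal.isSubnormal inferInstance)
        (h.map_Y_le_genFitting hY)]
      exact sup_le (sSup_le fun K hK => (hempty K hK).elim) inf_le_left
    refine hns (h.isSolvable_of_map hY ?_)
    haveI := Components.isSolvable_fitting (G := G ⧸ pCore p G)
    exact Group.isSolvable_of_isSolvable_injective (inclusion_injective h2)

/-- The components below `Y` form one orbit of `S`. -/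
theorem transitive (hns : ¬ Group.IsSolvable ↥Y) {K₁ K₂ : Subgroup (G ⧸ pCore p G)}
    (h1 : IsComponent K₁) (h1' : K₁ ≤ Y.map π) (h2 : IsComponent K₂) (h2' : K₂ ≤ Y.map π) :
    ∃ s ∈ (S : Subgroup G), K₁.map (MulAut.conj (π s)).toMonoidHom = K₂ := by
  classical
  haveI hYn := h.Y_normal hY
  haveI hYbn : (Y.map π).Normal := hYn.map _ (QuotientGroup.mk'_surjective _)
  set Yb := Y.map π with hYb
  set Qb := (pCoreOf p L).map π with hQb
  set Sb := (S : Subgroup G).map π with hSb
  set T := {K : Subgroup (G ⧸ pCore p G) | IsComponent K ∧ K ≤ Yb} with hT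
  have hYT : Yb = sSup T := h.map_Y_eq_sSup hY hns
  have hYlayer : Yb ≤ layer (G ⧸ pCore p G) :=
    hYT.trans_le (sSup_le fun K hK => Components.component_le_layer hK.1)
  have hTconj : ∀ g, ∀ K ∈ T, K.map (MulAut.conj g).toMonoidHom ∈ T := fun g K hK =>
    ⟨Components.component_map_conj hK.1 g, (map_mono hK.2).trans (le_of_eq (by
      exact Components.map_conj_eq_of_mem_normalizer (le_normalizer_of_normal (mem_top g))))⟩
  -- orbit products
  have hU : ∀ K ∈ T, (pRes p P).map π ≤ Components.orbitJoin Sb K ∨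
      Qb ≤ centralizer (Components.orbitJoin Sb K : Set (G ⧸ pCore p G)) := by
    intro K hK
    set U := Components.orbitJoin Sb K
    have hUY : U ≤ Yb := sSup_le fun _ ⟨g, _, hg⟩ => hg ▸ (hTconj g K hK).2
    have hYU : Yb ≤ normalizer (U : Set (G ⧸ pCore p G)) := by
      refine LocalStr.le_normalizer_iff_map_le.2 fun y hy => ?_
      refine Components.map_sSup_subset _ ?_
      rintro K' ⟨g, hg, rfl⟩
      refine ⟨g, hg, ?_⟩
      exact (Components.map_conj_eq_of_mem_normalizer
        (Components.layer_le_normalizer_component (Components.component_map_conj hK.1 g)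
          (hYlayer hy))).symm
    have hUs : U.IsSubnormal := Components.isSubnormal_of_le_normalizer hUY hYU
      (Subgroup.Normal.isSubnormal inferInstance)
    have hUS : Sb ≤ normalizer (U : Set (G ⧸ pCore p G)) := Components.le_normalizer_orbitJoin _ _
    have hUS' : (S : Subgroup G) ≤ normalizer (U.comap π : Set G) := fun s hs => by
      have := hUS (mem_map_of_mem π hs)
      rw [mem_normalizer_iff] at this ⊢
      intro x
      simpa [mem_comap] using this (π x)
    exact (h.le_or_le_of_normalized hUS').imp (fun e => map_le_iff_le_comap.2 e)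
      (fun e => h.Q_le_centralizer hUs hUS e)
  obtain ⟨K₀, hK₀, hAK₀⟩ : ∃ K ∈ T, (pRes p P).map π ≤ Components.orbitJoin Sb K := by
    by_contra hcon
    refine h.not_Q_le_centralizer_Y hY ?_
    rw [← hYb, le_centralizer_iff]
    refine hYT.trans_le (sSup_le fun K hK => ?_)
    rcases hU K hK with h3 | h3
    · exact absurd ⟨K, hK, h3⟩ hcon
    · rw [le_centralizer_iff]
      exact h3.trans (centralizer_le (Components.le_orbitJoin _ _))
  set O := {K : Subgroup (G ⧸ pCore p G) | ∃ g ∈ Sb, K₀.map (MulAut.conj g).toMonoidHom = K}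
    with hO
  have hout : ∀ K ∈ T, K ∉ O → Qb ≤ centralizer (K : Set (G ⧸ pCore p G)) := by
    intro K hK hKO
    rcases hU K hK with h3 | h3
    · exfalso
      have hdisj : ∀ g ∈ Sb, K.map (MulAut.conj g).toMonoidHom ∉ O := by
        rintro g hg ⟨g', hg', he⟩
        refine hKO ⟨g⁻¹ * g', mul_mem (inv_mem hg) hg', ?_⟩
        rw [← Components.map_conj_map_conj, he, Components.map_conj_map_conj, inv_mul_cancel,
          Components.map_conj_one]
      have hcen : (pRes p P).map π ≤ centralizer (Yb : Set (G ⧸ pCore p G)) := by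
        rw [le_centralizer_iff]
        refine hYT.trans_le (sSup_le fun K' hK' => ?_)
        rw [le_centralizer_iff]
        by_cases hK'O : K' ∈ O
        · refine h3.trans (sSup_le ?_)
          rintro _ ⟨g, hg, rfl⟩
          exact commutator_eq_bot_iff_le_centralizer.1 (Components.component_commutator_of_ne
            (hTconj g K hK).1 hK'.1 fun e => hdisj g hg (e ▸ hK'O))
        · refine hAK₀.trans (sSup_le ?_)
          rintro _ ⟨g, hg, rfl⟩
          exact commutator_eq_bot_iff_le_centralizer.1 (Components.component_commutator_of_ne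
            (hTconj g K₀ hK₀).1 hK'.1 fun e => hK'O ⟨g, hg, e⟩)
      have h4 : Y ≤ (centralizer (Yb : Set (G ⧸ pCore p G))).comap π := by
        rw [hY]
        exact normalClosure_le_normal (map_le_iff_le_comap.1 hcen)
      exact Components.component_commutator_self_ne_bot hK.1
        (commutator_eq_bot_iff_le_centralizer.2
          ((hK.2.trans (map_le_iff_le_comap.2 h4)).trans (centralizer_le hK.2)))
    · exact h3.trans (centralizer_le (Components.le_orbitJoin _ _))
  set T₀ := {K | K ∈ T ∧ ¬ Qb ≤ centralizer (K : Set (G ⧸ pCore p G))} with hT₀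
  have hTO : T₀ ⊆ O := fun K hK => by_contra fun hn' => hK.2 (hout K hK.1 hn')
  have hSQ : ∀ g ∈ L.map π, Qb.map (MulAut.conj g).toMonoidHom = Qb := by
    intro g hg
    refine Components.map_conj_eq_of_mem_normalizer ?_
    exact le_normalizer_map π (map_mono (LocalStr.le_normalizer_pCoreOf L) hg)
  have hSbL : Sb ≤ L.map π := map_mono h.S_le_L
  have hTinv : ∀ g ∈ L.map π, ∀ K ∈ T₀, K.map (MulAut.conj g).toMonoidHom ∈ T₀ := by
    rintro g hg K ⟨hK, hKQ⟩
    refine ⟨hTconj g K hK, fun hle => hKQ ?_⟩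
    intro x hx
    rw [mem_centralizer_iff]
    intro k hk
    have hx' : g * x * g⁻¹ ∈ Qb := (hSQ g hg).le ⟨x, hx, rfl⟩
    have := mem_centralizer_iff.1 (hle hx') (g * k * g⁻¹) ⟨k, hk, rfl⟩
    have e : ∀ a b, g * a * g⁻¹ * (g * b * g⁻¹) = g * (a * b) * g⁻¹ := fun a b => by group
    rw [e, e] at this
    exact mul_left_cancel (mul_right_cancel this)
  obtain ⟨K₃, hK₃⟩ : ∃ K, K ∈ T₀ := by
    by_contra hcon
    refine h.not_Q_le_centralizer_Y hY ?_
    rw [← hYb, le_centralizer_iff]
    refine hYT.trans_le (sSup_le fun K hK => ?_)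
    rw [le_centralizer_iff]
    exact by_contra fun h3 => hcon ⟨K, hK, h3⟩
  have hOT : O ⊆ T₀ := by
    rintro _ ⟨g, hg, rfl⟩
    obtain ⟨g', hg', rfl⟩ := hTO hK₃
    have := hTinv (g * g'⁻¹) (hSbL (mul_mem hg (inv_mem hg'))) _ hK₃
    rwa [Components.map_conj_map_conj, inv_mul_cancel_right] at this
  have hall : ∀ K ∈ T, K ∈ O := by
    intro K hK
    refine hTO (Components.component_mem_of_le_sSup hK.1 (fun K' hK' => hK'.1.1) ?_)
    refine hK.2.trans ?_
    haveI : (sSup T₀).Normal := by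
      rw [← normalizer_eq_top_iff, ← top_le_iff,
        ← map_top_of_surjective π (QuotientGroup.mk'_surjective _),
        ← h.sup_eq_top (h.A_le_Y hY), Subgroup.map_sup]
      refine sup_le ?_ (LocalStr.le_normalizer_iff_map_le.2 fun g hg =>
        Components.map_sSup_subset _ fun K' hK' => hTinv g hg K' hK')
      refine LocalStr.le_normalizer_iff_map_le.2 fun y hy => ?_
      refine Components.map_sSup_subset _ fun K' hK' => ?_
      rwa [Components.map_conj_eq_of_mem_normalizer
        (Components.layer_le_normalizer_component hK'.1.1 (hYlayer hy))]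
    have hA0 : (pRes p P).map π ≤ sSup T₀ := hAK₀.trans (sSup_le fun K' hK' => le_sSup (hOT hK'))
    rw [hYb, map_le_iff_le_comap, hY]
    exact normalClosure_le_normal (map_le_iff_le_comap.1 hA0)
  obtain ⟨a, ⟨s, hs, rfl⟩, rfl⟩ := hall K₁ ⟨h1, h1'⟩
  obtain ⟨b, ⟨t, ht, rfl⟩, rfl⟩ := hall K₂ ⟨h2, h2'⟩
  refine ⟨t * s⁻¹, mul_mem ht (inv_mem hs), ?_⟩
  rw [Components.map_conj_map_conj, ← map_mul π, inv_mul_cancel_right]

/-- In the insoluble case `p` divides `|Y/O_p(Y)|`. -/
theorem dvd_card_map (hns : ¬ Group.IsSolvable ↥Y) : p ∣ Nat.card ↥(Y.map π) := by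
  classical
  by_contra hpd
  haveI hYn := h.Y_normal hY
  haveI hYbn : (Y.map π).Normal := hYn.map _ (QuotientGroup.mk'_surjective _)
  set Yb := Y.map π with hYb
  set Qb := (pCoreOf p L).map π with hQb
  set Sb := (S : Subgroup G).map π with hSb
  have hSp : IsPGroup p ↥Sb := S.isPGroup'.map π
  have hQp : IsPGroup p ↥Qb := (LocalStr.isPGroup_pCoreOf L).map π
  have hcop : ∀ {B : Subgroup (G ⧸ pCore p G)}, IsPGroup p ↥B →
      (Nat.card ↥B).Coprime (Nat.card ↥Yb) := by
    intro B hB
    obtain ⟨n, hn'⟩ := IsPGroup.iff_card.1 hB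
    rw [hn']
    exact ((Nat.Prime.coprime_iff_not_dvd hp.out).2 hpd).pow_left n
  have hsol : Group.IsSolvable ↥Sb ∨ Group.IsSolvable ↥Yb := by
    haveI := hSp.isNilpotent
    exact Or.inl inferInstance
  have hA : (pRes p P).map π ≠ ⊥ := by
    rw [ne_eq, Subgroup.map_eq_bot_iff, QuotientGroup.ker_mk']
    exact fun e => h.not_A_le_L (e.trans ((Solvable.pCore_le_sylow S).trans h.S_le_L))
  set C := Yb ⊓ centralizer (Qb : Set (G ⧸ pCore p G)) with hC
  have hsyl : ∀ r : ℕ, r.Prime → ∃ T : Subgroup (G ⧸ pCore p G), IsPGroup r ↥T ∧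
      ((pRes p P).map π ≤ T ∨ (T ≤ C ∧ ¬ r ∣ C.relIndex Yb)) := by
    intro r hr
    haveI : Fact r.Prime := ⟨hr⟩
    obtain ⟨T, hT⟩ := Solvable.exists_invariant_sylow
      (le_normalizer_of_normal : Sb ≤ normalizer (Yb : Set (G ⧸ pCore p G))) (hcop hSp) hsol r
    set T' := (T : Subgroup Yb).map Yb.subtype with hT'
    refine ⟨T', T.isPGroup'.map _, ?_⟩
    have hTS : (S : Subgroup G) ≤ normalizer (T'.comap π : Set G) := fun s hs => by
      have := hT (mem_map_of_mem π hs)
      rw [mem_normalizer_iff] at this ⊢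
      intro x
      simpa [mem_comap] using this (π x)
    rcases h.le_or_le_of_normalized hTS with h1 | h1
    · exact Or.inl (map_le_iff_le_comap.2 h1)
    right
    have hTY : T' ≤ Yb := map_subtype_le _
    have hTC : T' ≤ centralizer (Qb : Set (G ⧸ pCore p G)) := by
      intro u hu
      rw [mem_centralizer_iff]
      rintro _ ⟨q, hq, rfl⟩
      obtain ⟨x, rfl⟩ := QuotientGroup.mk'_surjective _ u
      have hxL : x ∈ L := h1 hu
      have h2 : π x * π q * (π x)⁻¹ * (π q)⁻¹ ∈ Qb ⊓ Yb := by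
        constructor
        · have := mem_map_of_mem π (mul_mem
            ((mem_normalizer_iff.1 (LocalStr.le_normalizer_pCoreOf L hxL) q).1 hq) (inv_mem hq))
          rwa [map_mul, map_mul, map_mul, map_inv, map_inv] at this
        · have := mul_mem (hTY hu) (hYbn.conj_mem _ (inv_mem (hTY hu)) (π q))
          simpa [mul_assoc] using this
      rw [(disjoint_iff.1 (disjoint_of_coprime_natCard (hcop hQp))), mem_bot, mul_inv_eq_one,
        mul_inv_eq_iff_eq_mul] at h2
      exact h2.symm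
    refine ⟨le_inf hTY hTC, fun hd => T.not_dvd_index (hd.trans (index_dvd_of_le ?_))⟩
    exact map_le_iff_le_comap.1 (le_inf hTY hTC)
  -- all primes dividing the index of `C` are equal
  obtain ⟨r, hr, k, hk⟩ : ∃ r, r.Prime ∧ ∃ k, C.relIndex Yb = r ^ k := by
    by_cases hall : ∀ r, r.Prime → ¬ r ∣ C.relIndex Yb
    · exact ⟨p, hp.out, 0, by
        rw [pow_zero]
        exact Nat.eq_one_iff_not_exists_prime_dvd.2 hall⟩
    · obtain ⟨r, hr, hrd⟩ : ∃ r, r.Prime ∧ r ∣ C.relIndex Yb := by
        by_contra hcon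
        exact hall fun r hr hd => hcon ⟨r, hr, hd⟩
      refine ⟨r, hr, ?_⟩
      refine ⟨_, Nat.eq_prime_pow_of_unique_prime_dvd ?_ ?_⟩
      · rw [relIndex]; exact index_ne_zero_of_finite
      intro d hd hdd
      by_contra hne
      obtain ⟨T, hTp, hT⟩ := hsyl r hr
      obtain ⟨U, hUp, hU⟩ := hsyl d hd
      rcases hT with hT | ⟨-, hT⟩
      · rcases hU with hU | ⟨-, hU⟩
        · haveI : Fact r.Prime := ⟨hr⟩
          haveI : Fact d.Prime := ⟨hd⟩
          refine hA (le_bot_iff.1 ((le_inf hT hU).trans (le_of_eq ?_)))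
          exact disjoint_iff.1 (IsPGroup.disjoint_of_ne r d (Ne.symm hne) T U hTp hUp)
        · exact hU hdd
      · exact hT hrd
  apply h.not_Q_le_centralizer_Y hY
  intro q hq
  rw [mem_centralizer_iff]
  have hYT := h.map_Y_eq_sSup hY hns
  refine mul_comm_of_index_prime_pow (C := C) (fun K hK => hK.1) hYT
    (le_normalizer_of_normal (mem_top q) : q ∈ normalizer (Yb : Set (G ⧸ pCore p G))) ?_
    inf_le_left (fun c hc => ((mem_centralizer_iff.1 hc.2) q hq).symm) hr hk
  have := (hcop (hQp.to_le (zpowers_le.2 hq))).symm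
  rwa [Nat.card_zpowers] at this

/-- The insoluble case, in `Y/O_p(Y)`. -/
theorem insoluble_case (hns : ¬ Group.IsSolvable ↥Y) :
    ∃ _ : (pCore p ↥Y).Normal,
      p ∣ Nat.card (↥Y ⧸ pCore p ↥Y) ∧ layer (↥Y ⧸ pCore p ↥Y) = ⊤ ∧
      ∀ K₁ K₂ : Subgroup (↥Y ⧸ pCore p ↥Y), IsComponent K₁ → IsComponent K₂ →
        ∃ s ∈ (S : Subgroup G), (K₂.comap (QuotientGroup.mk' (pCore p ↥Y))).map Y.subtype =
          ((K₁.comap (QuotientGroup.mk' (pCore p ↥Y))).map Y.subtype).map
            (MulAut.conj s).toMonoidHom := by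
  haveI hYn := h.Y_normal hY
  haveI hYbn : (Y.map π).Normal := hYn.map _ (QuotientGroup.mk'_surjective _)
  haveI hYR : (pCore p ↥Y).Normal := Solvable.pCore_normal p ↥Y
  refine ⟨hYR, ?_⟩
  set f := (π).subgroupMap Y with hf
  have hfs : Function.Surjective f := MonoidHom.subgroupMap_surjective _ _
  have hker : f.ker = pCore p ↥Y := by
    refine map_injective Y.subtype_injective ?_
    rw [Solvable.map_subtype_pCore_eq]
    ext x
    constructor
    · rintro ⟨y, hy, rfl⟩
      exact ⟨(QuotientGroup.eq_one_iff _).1 (congrArg Subtype.val hy), y.2⟩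
    · rintro ⟨h1, h2⟩
      exact ⟨⟨x, h2⟩, Subtype.ext ((QuotientGroup.eq_one_iff _).2 h1), rfl⟩
  let e : ↥Y ⧸ pCore p ↥Y ≃* ↥(Y.map π) :=
    (QuotientGroup.quotientMulEquivOfEq hker.symm).trans
      (QuotientGroup.quotientKerEquivOfSurjective f hfs)
  have hsn : (Y.map π).IsSubnormal := Subgroup.Normal.isSubnormal inferInstance
  refine ⟨?_, ?_, ?_⟩
  · rw [Nat.card_congr e.toEquiv]
    exact h.dvd_card_map hY hns
  · have h1 : layer ↥(Y.map π) = ⊤ := by
      refine map_injective (Y.map π).subtype_injective ?_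
      rw [Components.layer_subnormal_eq hsn, ← h.map_Y_eq_sSup hY hns, ← MonoidHom.range_eq_map,
        range_subtype]
    refine map_injective (f := e.toMonoidHom) e.injective ?_
    exact (Components.layer_map_equiv e).trans (h1.trans
      (map_top_of_surjective e.toMonoidHom e.surjective).symm)
  intro K₁ K₂ hK₁ hK₂
  set φ : ↥Y ⧸ pCore p ↥Y →* G ⧸ pCore p G := (Y.map π).subtype.comp e.toMonoidHom with hφ
  have hφy : ∀ y : Y, φ (QuotientGroup.mk' _ y) = π y := fun y => rfl
  have hcomp : ∀ K : Subgroup (↥Y ⧸ pCore p ↥Y), IsComponent K →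
      IsComponent (K.map φ) ∧ K.map φ ≤ Y.map π := by
    intro K hK
    rw [hφ, ← Subgroup.map_map]
    exact ⟨Components.component_map_subtype hsn (Components.component_map_equiv e hK),
      map_subtype_le _⟩
  have hφi : Function.Injective φ := (Y.map π).subtype_injective.comp e.injective
  have hback : ∀ K : Subgroup (↥Y ⧸ pCore p ↥Y),
      (K.comap (QuotientGroup.mk' (pCore p ↥Y))).map Y.subtype = Y ⊓ (K.map φ).comap π := by
    intro K
    ext x
    simp only [mem_map, mem_inf, mem_comap]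
    constructor
    · rintro ⟨y, hy, rfl⟩
      exact ⟨y.2, _, hy, hφy y⟩
    · rintro ⟨hx, k, hk, he⟩
      refine ⟨⟨x, hx⟩, ?_, rfl⟩
      have : QuotientGroup.mk' (pCore p ↥Y) ⟨x, hx⟩ = k := hφi ((hφy ⟨x, hx⟩).trans he.symm)
      rwa [this]
  obtain ⟨h1, h1'⟩ := hcomp K₁ hK₁
  obtain ⟨h2, h2'⟩ := hcomp K₂ hK₂
  obtain ⟨s, hs, hse⟩ := h.transitive hY hns h1 h1' h2 h2'
  refine ⟨s, hs, ?_⟩
  rw [hback, hback, ← hse]
  ext x
  simp only [mem_inf, mem_comap, mem_map, MulEquiv.coe_toMonoidHom, MulAut.conj_apply]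
  constructor
  · rintro ⟨hx, y, hy, he⟩
    refine ⟨s⁻¹ * x * s, ⟨by simpa using hYn.conj_mem x hx s⁻¹, ?_⟩, by simp [mul_assoc]⟩
    obtain ⟨k, hk, rfl⟩ := hy
    refine ⟨k, hk, ?_⟩
    rw [map_mul, map_mul, map_inv, ← he]
    simp [mul_assoc]
  · rintro ⟨y, ⟨hy, k, hk, he⟩, rfl⟩
    exact ⟨hYn.conj_mem y hy s, φ k, ⟨k, hk, rfl⟩, by rw [he]; simp⟩

end Quot

end Setup

end CfsgLib.Case.IsoP
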