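import Cfsg.Agent.Lib.LocalEven.PMinimal
import Cfsg.Agent.Lib.LocalStr.GenFitAction
import Cfsg.Agent.Lib.Components.GenFittingSub
import Cfsg.Agent.Lib.Solvable.CoprimeAbelian
import Cfsg.Agent.Lib.Solvable.Core
import Cfsg.Agent.Lib.Solvable.AbelianModule
import Cfsg.Agent.Lib.Transfer.PGroup
import Cfsg.Prelude.Def_LocalStructure

/-!
An isolated `p`-minimal subgroup `P`: `O^p(P)` lies in the preimage of `F*(G/O_p(G))`; if its normal
closure `Y` is solvable then it equals `Y`, and `Y/O_p(Y)` is a `t`-group of class at most 2.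
-/

set_option autoImplicit false
set_option linter.style.haveILetI false
set_option linter.unusedSectionVars false

namespace CfsgLib.Case.IsoP

open Subgroup Cfsg CfsgLib.LocalEven CfsgLib.Amalgam
open CfsgLib.LocalStr (pRes)
open scoped commutatorElement

variable {G : Type*} [Group G] [Finite G] {p : ℕ} [hp : Fact p.Prime]

/-- `P` is isolated with complement `L`. -/
structure Setup (S : Sylow p G) (P L : Subgroup G) : Prop where
  hSP : (S : Subgroup G) ≤ P
  hPmin : IsPMinimal p ↥P
  hL : L = normalizer ((S : Subgroup G) : Set G) ⊔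
    ⨆ P' : {P' : Subgroup G // (S : Subgroup G) ≤ P' ∧ IsPMinimal p ↥P' ∧ P' ≠ P}, (P' : Subgroup G)
  hiso : ¬ pCoreOf p L ≤ pCoreOf p P

/-- A finite subgroup mapped into itself by conjugation is normalised. -/
theorem mem_normalizer_of_conj_le' {H : Type*} [Group H] [Finite H] {R : Subgroup H} {g : H}
    (hg : ∀ r ∈ R, g * r * g⁻¹ ∈ R) : g ∈ normalizer (R : Set H) := by
  rw [mem_normalizer_iff_map_conj_eq]
  refine eq_of_le_of_card_ge ?_ (Components.card_map_conj g R).ge
  rintro _ ⟨r, hr, rfl⟩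
  exact hg r hr

namespace Setup

variable {S : Sylow p G} {P L : Subgroup G} (h : Setup S P L)
include h

theorem normalizer_S_le : normalizer ((S : Subgroup G) : Set G) ≤ L := by
  rw [h.hL]; exact le_sup_left

theorem S_le_L : (S : Subgroup G) ≤ L := le_normalizer.trans h.normalizer_S_le

theorem pMinimal_le {P' : Subgroup G} (h1 : (S : Subgroup G) ≤ P') (h2 : IsPMinimal p ↥P')
    (h3 : P' ≠ P) : P' ≤ L := by
  rw [h.hL]
  exact le_sup_of_le_right (le_iSup
    (fun P' : {P' : Subgroup G // (S : Subgroup G) ≤ P' ∧ IsPMinimal p ↥P' ∧ P' ≠ P} =>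
      (P' : Subgroup G)) ⟨P', h1, h2, h3⟩)

theorem le_or_le {H : Subgroup G} (hH : (S : Subgroup G) ≤ H) : P ≤ H ∨ H ≤ L := by
  by_cases hPH : P ≤ H
  · exact Or.inl hPH
  right
  have hmin : ∀ P'' : Subgroup H, ((S.subtype hH : Sylow p H) : Subgroup H) ≤ P'' →
      IsPMinimal p ↥P'' → P'' ≤ L.subgroupOf H := by
    intro P'' h1 h2
    have h4 : P''.map H.subtype ≤ L := by
      refine h.pMinimal_le (fun s hs => ⟨⟨s, hH hs⟩, h1 hs, rfl⟩)
        (isPMinimal_congr (P''.equivMapOfInjective _ H.subtype_injective) h2) ?_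
      intro he
      exact hPH (he ▸ map_subtype_le _)
    exact map_le_iff_le_comap.1 h4
  have key := pClosure_le_of_overgroups (S.subtype hH) (J := L.subgroupOf H)
    (fun s hs => h.S_le_L hs) (fun g hg => ?_) hmin ⊤ le_top
  · intro x hx
    obtain ⟨k, hk, n, -, hn, rfl⟩ := exists_normalizer_mul ((isSylOf_top S).of_le hH le_top) hx
    refine mul_mem ?_ (h.normalizer_S_le hn)
    revert hk
    suffices pElementClosure p H ≤ L from fun hk => this hk
    rw [pElementClosure, closure_le]
    rintro y ⟨hy, j, hj⟩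
    exact key (subset_closure ⟨mem_top (⟨y, hy⟩ : H), j, by rwa [Subgroup.orderOf_mk]⟩)
  · refine (cj_of_mem (mem_subgroupOf.2 (h.normalizer_S_le ?_))).le
    rw [mem_normalizer_iff] at hg ⊢
    intro s
    constructor
    · intro hs
      exact (hg ⟨s, hH hs⟩).1 hs
    · intro hs
      have hsH : s ∈ H := by
        have := mul_mem (mul_mem (inv_mem g.2) (hH hs)) g.2
        simpa [mul_assoc] using this
      exact (hg ⟨s, hsH⟩).2 hs

theorem pCoreOf_L_le_S : pCoreOf p L ≤ S :=
  ((isSylOf_top S).of_le h.S_le_L le_top).pCoreOf_le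

theorem pCore_le_pCoreOf_P : pCore p G ≤ pCoreOf p P :=
  LocalStr.le_pCoreOf ((Solvable.pCore_le_sylow S).trans h.hSP)
    (by
      haveI := Solvable.pCore_normal p G
      exact le_normalizer_of_normal)
    (Solvable.pCore_isPGroup p G)

theorem not_Q_le_R : ¬ pCoreOf p L ≤ pCore p G := fun hle =>
  h.hiso (hle.trans h.pCore_le_pCoreOf_P)

theorem R_le_Q : pCore p G ≤ pCoreOf p L :=
  LocalStr.le_pCoreOf ((Solvable.pCore_le_sylow S).trans h.S_le_L)
    (by
      haveI := Solvable.pCore_normal p G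
      exact le_normalizer_of_normal)
    (Solvable.pCore_isPGroup p G)

theorem not_P_le_normalizer : ¬ P ≤ normalizer (pCoreOf p L : Set G) := fun hle =>
  h.hiso (LocalStr.le_pCoreOf (h.pCoreOf_L_le_S.trans h.hSP) hle (LocalStr.isPGroup_pCoreOf L))

theorem not_P_le_L : ¬ P ≤ L := fun hle =>
  h.not_P_le_normalizer (hle.trans (LocalStr.le_normalizer_pCoreOf L))

theorem pRes_sup : pRes p P ⊔ (S : Subgroup G) = P :=
  LocalStr.pRes_sup_of_isSylOf ((isSylOf_top S).of_le h.hSP le_top)

theorem not_A_le_L : ¬ pRes p P ≤ L := fun hle =>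
  h.not_P_le_L (h.pRes_sup ▸ sup_le hle h.S_le_L)

/-- `S`-invariant subgroups either contain `O^p(P)` or lie in `L`. -/
theorem le_or_le_of_normalized {N : Subgroup G} (hN : (S : Subgroup G) ≤ normalizer (N : Set G)) :
    pRes p P ≤ N ∨ N ≤ L := by
  rcases h.le_or_le (H := N ⊔ (S : Subgroup G)) le_sup_right with h1 | h1
  · left
    refine ((LocalStr.pRes_mono h1).trans ?_)
    rw [LocalStr.pRes_sup_pGroup S.isPGroup' hN]
    exact LocalStr.pRes_le N
  · exact Or.inr (le_sup_left.trans h1)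

theorem sup_eq_top {Y : Subgroup G} (hY : pRes p P ≤ Y) : Y ⊔ L = ⊤ := by
  set H := Y ⊔ L with hH
  have hS : (S : Subgroup G) ≤ H := h.S_le_L.trans le_sup_right
  have hP : P ≤ H := h.pRes_sup ▸ sup_le (hY.trans le_sup_left) hS
  have key := pClosure_le_of_overgroups S (J := H) hS
    (fun g hg => (cj_of_mem (le_sup_right (a := Y) (h.normalizer_S_le hg))).le)
    (fun P' h1 h2 => by
      by_cases h3 : P' = P
      · exact h3.trans_le hP
      · exact (h.pMinimal_le h1 h2 h3).trans le_sup_right) ⊤ le_top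
  refine top_le_iff.1 fun x hx => ?_
  obtain ⟨k, hk, n, -, hn, rfl⟩ := exists_normalizer_mul (isSylOf_top S) hx
  exact mul_mem (key hk) (mem_sup_right (h.normalizer_S_le hn))

/-- No subnormal subgroup of `G` lying in `L` contains `O_p(L)`. -/
theorem not_Q_le_subnormal {N : Subgroup G} (hN : N.IsSubnormal) (hNL : N ≤ L)
    (hQN : pCoreOf p L ≤ N) : False := by
  refine h.not_Q_le_R (Components.le_pCore_of_isSubnormal ?_ (LocalStr.isPGroup_pCoreOf L))
  exact Components.isSubnormal_of_le_normalizer hQN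
    (hNL.trans (LocalStr.le_normalizer_pCoreOf L)) hN

/-- A subnormal `S`-invariant subgroup of `L` centralises `O_p(L)` modulo `O_p(G)`. -/
theorem commutator_le_R {N : Subgroup G} (hN : N.IsSubnormal) (hNL : N ≤ L)
    (hNS : (S : Subgroup G) ≤ normalizer (N : Set G)) : ⁅N, pCoreOf p L⁆ ≤ pCore p G := by
  have hNQ : N ≤ normalizer (pCoreOf p L : Set G) :=
    hNL.trans (LocalStr.le_normalizer_pCoreOf L)
  have h1 : N ⊓ pCoreOf p L ≤ pCore p G := by
    refine Components.le_pCore_of_isSubnormal ?_ ((LocalStr.isPGroup_pCoreOf L).to_le inf_le_right)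
    refine Components.isSubnormal_of_le_normalizer inf_le_left ?_ hN
    intro g hg
    rw [mem_normalizer_iff]
    intro x
    simp only [mem_inf]
    exact and_congr (mem_normalizer_iff.1 (le_normalizer hg) x)
      (mem_normalizer_iff.1 (hNQ hg) x)
  refine le_trans (le_inf ?_ ?_) h1
  · exact Solvable.commutator_le_of_normalizes (h.pCoreOf_L_le_S.trans hNS)
  · rw [commutator_comm]
    exact Solvable.commutator_le_of_normalizes hNQ

section Quot

variable [hn : (pCore p G).Normal]

local notation "π" => QuotientGroup.mk' (pCore p G)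

theorem map_Q_ne_bot : (pCoreOf p L).map π ≠ ⊥ := fun he => h.not_Q_le_R (by
  rwa [Subgroup.map_eq_bot_iff, QuotientGroup.ker_mk'] at he)

/-- A normal subgroup of `G/O_p(G)` whose preimage lies in `L` centralises the image of `O_p(L)`. -/
theorem Q_le_centralizer {U : Subgroup (G ⧸ pCore p G)} (hU : U.IsSubnormal)
    (hUS : (S : Subgroup G).map π ≤ normalizer (U : Set (G ⧸ pCore p G))) (hUL : U.comap π ≤ L) :
    (pCoreOf p L).map π ≤ centralizer (U : Set (G ⧸ pCore p G)) := by
  have hcom := h.commutator_le_R (hU.comap π) hUL (fun s hs => by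
    have := hUS (mem_map_of_mem π hs)
    rw [mem_normalizer_iff] at this ⊢
    intro x
    simpa [mem_comap] using this (π x))
  rw [le_centralizer_iff, ← commutator_eq_bot_iff_le_centralizer, eq_bot_iff]
  have hU' : (U.comap π).map π = U := map_comap_eq_self_of_surjective
    (QuotientGroup.mk'_surjective _) U
  rw [← hU', ← map_commutator, map_le_iff_le_comap, MonoidHom.comap_bot, QuotientGroup.ker_mk']
  exact hcom

/-- `O^p(P)` lies over `F*(G/O_p(G))`. -/
theorem le_comap_genFitting :
    pRes p P ≤ (generalizedFittingSubgroup (G ⧸ pCore p G)).comap π := by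
  set F := generalizedFittingSubgroup (G ⧸ pCore p G) with hF
  rcases h.le_or_le_of_normalized (N := F.comap π) le_normalizer_of_normal with h1 | h1
  · exact h1
  exfalso
  have hQ := h.Q_le_centralizer (U := F) (Subgroup.Normal.isSubnormal inferInstance)
    le_normalizer_of_normal h1
  set C := centralizer (F : Set (G ⧸ pCore p G))
  haveI : C.Normal := inferInstance
  have hC : C ≤ F := Components.centralizer_genFitting_le
  have hCn : Group.IsNilpotent ↥C := Solvable.isNilpotent_of_comm fun a b =>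
    Subtype.ext ((mem_centralizer_iff.1 b.2) a (hC a.2))
  have hcop := LocalStr.coprime_card_of_isNilpotent
    (Solvable.pCore_quotient_eq_bot (p := p) (pCore p G) rfl) hCn
  refine h.map_Q_ne_bot (card_eq_one.1 ?_)
  obtain ⟨k, hk⟩ := IsPGroup.iff_card.1 ((LocalStr.isPGroup_pCoreOf (p := p) L).map π)
  exact Nat.eq_one_of_dvd_coprimes
    ((hk ▸ hcop.pow_right k : (Nat.card ↥C).Coprime (Nat.card ↥((pCoreOf p L).map π))))
    (card_dvd_of_le hQ) dvd_rfl

variable {Y : Subgroup G} (hY : Y = normalClosure ((pRes p P : Subgroup G) : Set G))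
include hY

theorem A_le_Y : pRes p P ≤ Y := hY ▸ le_normalClosure

theorem Y_normal : Y.Normal := hY ▸ inferInstance

theorem Y_le_or_le {N : Subgroup G} [N.Normal] : Y ≤ N ∨ N ≤ L :=
  (h.le_or_le_of_normalized le_normalizer_of_normal).imp_left fun h1 =>
    hY ▸ normalClosure_le_normal h1

theorem not_Y_le_L : ¬ Y ≤ L := fun hle => h.not_A_le_L ((h.A_le_Y hY).trans hle)

theorem map_Y_le_genFitting : Y.map π ≤ generalizedFittingSubgroup (G ⧸ pCore p G) := by
  rw [map_le_iff_le_comap, hY]
  exact normalClosure_le_normal h.le_comap_genFitting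

/-- A normal subgroup of `G/O_p(G)` over a subgroup of `L` centralises `Y`. -/
theorem map_Y_le_centralizer {U : Subgroup (G ⧸ pCore p G)} [U.Normal] (hUL : U.comap π ≤ L) :
    Y.map π ≤ centralizer (U : Set (G ⧸ pCore p G)) := by
  haveI : (centralizer (U : Set (G ⧸ pCore p G))).Normal := inferInstance
  have hQ := h.Q_le_centralizer (U := U) (Subgroup.Normal.isSubnormal inferInstance)
    le_normalizer_of_normal hUL
  rcases h.Y_le_or_le hY (N := (centralizer (U : Set (G ⧸ pCore p G))).comap π) with h1 | h1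
  · exact map_le_iff_le_comap.2 h1
  · exact (h.not_Q_le_subnormal (Subgroup.Normal.isSubnormal inferInstance) h1
      (map_le_iff_le_comap.1 hQ)).elim

theorem exists_prime (hs : Group.IsSolvable ↥Y) :
    ∃ t : ℕ, t.Prime ∧ t ≠ p ∧ IsPGroup t ↥(Y.map π) := by
  haveI hYn := h.Y_normal hY
  haveI : (Y.map π).Normal := hYn.map _ (QuotientGroup.mk'_surjective _)
  haveI := hs
  have hYs : Group.IsSolvable ↥(Y.map π) :=
    Group.isSolvable_of_surjective (f := (π).subgroupMap Y) (MonoidHom.subgroupMap_surjective _ _)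
  have hYF : Y.map π ≤ fittingSubgroup (G ⧸ pCore p G) := by
    rw [GenFittingSub.subnormal_le_genFitting_eq (Subgroup.Normal.isSubnormal inferInstance)
      (h.map_Y_le_genFitting hY)]
    refine sup_le (sSup_le fun K hK => ?_) inf_le_left
    exact absurd hK.2 (Components.component_not_le_of_isSolvable hK.1 hYs)
  by_contra hcon
  have hall : ∀ q : (Nat.card (G ⧸ pCore p G)).primeFactors,
      pCore (q : ℕ) (G ⧸ pCore p G) ≤ L.map π := by
    intro q
    haveI : Fact (q : ℕ).Prime := ⟨(Nat.mem_primeFactors.1 q.2).1⟩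
    by_cases hq : (q : ℕ) = p
    · rw [hq, Solvable.pCore_quotient_eq_bot (p := p) (pCore p G) rfl]
      exact bot_le
    · haveI := Solvable.pCore_normal (q : ℕ) (G ⧸ pCore p G)
      rcases h.Y_le_or_le hY (N := (pCore (q : ℕ) (G ⧸ pCore p G)).comap π) with h1 | h1
      · exact absurd ⟨q, Fact.out, hq, (Solvable.pCore_isPGroup (q : ℕ) _).to_le
          (map_le_iff_le_comap.2 h1)⟩ hcon
      · have := map_mono (f := π) h1
        rwa [map_comap_eq_self_of_surjective (QuotientGroup.mk'_surjective _)] at this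
  refine h.not_Y_le_L hY ?_
  have h1 : Y.map π ≤ L.map π := hYF.trans
    ((Solvable.fittingSubgroup_eq_iSup_pCore).trans_le (iSup_le hall))
  rw [map_le_iff_le_comap] at h1
  refine h1.trans ?_
  rw [comap_map_eq, QuotientGroup.ker_mk']
  exact sup_le le_rfl ((Solvable.pCore_le_sylow S).trans h.S_le_L)

theorem commutator_map_Y_le {t : ℕ} [Fact t.Prime] (ht : IsPGroup t ↥(Y.map π)) :
    ⁅⁅Y.map π, Y.map π⁆, Y.map π⁆ = ⊥ := by
  haveI hYn := h.Y_normal hY
  haveI : (Y.map π).Normal := hYn.map _ (QuotientGroup.mk'_surjective _)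
  haveI := ht.isNilpotent
  rcases h.Y_le_or_le hY (N := (⁅Y.map π, Y.map π⁆).comap π) with h1 | h1
  · exfalso
    have h2 : ⁅Y.map π, Y.map π⁆ = Y.map π :=
      le_antisymm (commutator_le_right _ _) (map_le_iff_le_comap.2 h1)
    have h3 : ∀ n, Subgroup.lowerCentralSeries (⊤ : Subgroup ↥(Y.map π)) n = ⊤ := by
      intro n
      induction n with
      | zero => rfl
      | succ n ih =>
        rw [Subgroup.lowerCentralSeries_succ, ih]
        refine map_injective (Y.map π).subtype_injective ?_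
        rw [map_commutator, ← MonoidHom.range_eq_map, range_subtype, h2]
    have h4 := h3 (Group.nilpotencyClass ↥(Y.map π))
    rw [Subgroup.lowerCentralSeries_nilpotencyClass] at h4
    refine h.not_Y_le_L hY ?_
    have h5 : Y.map π = ⊥ := by
      rw [← range_subtype (Y.map π), MonoidHom.range_eq_map, ← h4, Subgroup.map_bot]
    rw [Subgroup.map_eq_bot_iff, QuotientGroup.ker_mk'] at h5
    exact h5.trans ((Solvable.pCore_le_sylow S).trans h.S_le_L)
  · have := h.map_Y_le_centralizer hY h1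
    rwa [← commutator_eq_bot_iff_le_centralizer, commutator_comm] at this

/-- If `Y` is a `t`-group modulo `O_p(G)` it is generated by `O^p(P)` modulo `O_p(G)`. -/
theorem map_Y_eq {t : ℕ} [ht : Fact t.Prime] (htp : t ≠ p) (hYt : IsPGroup t ↥(Y.map π)) :
    Y.map π = (pRes p P).map π := by
  classical
  haveI hYn := h.Y_normal hY
  haveI : (Y.map π).Normal := hYn.map _ (QuotientGroup.mk'_surjective _)
  set Φ := (frattini ↥(Y.map π)).map (Y.map π).subtype with hΦ
  haveI : Φ.Normal := by rw [hΦ]; infer_instance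
  have hΦY : Φ ≤ Y.map π := map_subtype_le _
  set K := Φ.comap π with hK
  have hRK : pCore p G ≤ K := by
    intro x hx
    rw [hK, mem_comap, QuotientGroup.mk'_apply, (QuotientGroup.eq_one_iff x).2 hx]
    exact one_mem _
  have hnt : Nontrivial ↥(Y.map π) := by
    rw [nontrivial_iff_ne_bot]
    intro h5
    rw [Subgroup.map_eq_bot_iff, QuotientGroup.ker_mk'] at h5
    exact h.not_Y_le_L hY (h5.trans ((Solvable.pCore_le_sylow S).trans h.S_le_L))
  have hKY : ¬ Y ≤ K := by
    intro hle
    have h1 : Y.map π ≤ Φ := map_le_iff_le_comap.2 hle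
    have h2 : frattini ↥(Y.map π) = ⊤ := by
      refine map_injective (Y.map π).subtype_injective ?_
      rw [← MonoidHom.range_eq_map, range_subtype]
      exact le_antisymm hΦY h1
    obtain ⟨M, hM⟩ : ∃ M : Subgroup ↥(Y.map π), IsCoatom M := by
      obtain h3 | ⟨M, hM, -⟩ := eq_top_or_exists_le_coatom (⊥ : Subgroup ↥(Y.map π))
      · exact absurd h3 bot_ne_top
      · exact ⟨M, hM⟩
    exact hM.1 (top_le_iff.1 (h2.symm.trans_le (Order.radical_le_coatom hM)))
  have hKL : K ≤ L := (h.Y_le_or_le hY).resolve_left hKY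
  set ψ := QuotientGroup.mk' K with hψ
  have hψs : Function.Surjective ψ := QuotientGroup.mk'_surjective K
  set V := Y.map ψ with hV
  set Qh := (pCoreOf p L).map ψ with hQh
  set A' := (pRes p P).map ψ with hA'
  set S' := (S : Subgroup G).map ψ with hS'
  haveI hVn : V.Normal := hYn.map _ hψs
  have hpre : ∀ x ∈ Y, ∀ y ∈ Y, x * y * (y * x)⁻¹ ∈ K ∧ x ^ t ∈ K := by
    intro x hx y hy
    constructor
    · rw [hK, mem_comap, hΦ]
      refine ⟨⟨_, mem_map_of_mem π hx⟩ * ⟨_, mem_map_of_mem π hy⟩ *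
        (⟨_, mem_map_of_mem π hy⟩ * ⟨_, mem_map_of_mem π hx⟩)⁻¹, ?_, by simp [mul_assoc]⟩
      haveI := hYt.isNilpotent
      refine Transfer.commutator_le_frattini ?_
      rw [mul_inv_rev, ← mul_assoc, ← commutatorElement_def]
      exact commutator_mem_commutator (mem_top _) (mem_top _)
    · rw [hK, mem_comap, hΦ]
      exact ⟨⟨_, mem_map_of_mem π hx⟩ ^ t, Transfer.pow_mem_frattini hYt _, by simp⟩
  haveI hVc : IsMulCommutative ↥V := ⟨⟨fun a b => by
    obtain ⟨x, hx, ha⟩ := a.2
    obtain ⟨y, hy, hb⟩ := b.2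
    refine Subtype.ext ?_
    have := (QuotientGroup.eq_one_iff _).2 (hpre x hx y hy).1
    rw [← QuotientGroup.mk'_apply, map_mul, map_inv, mul_inv_eq_one, map_mul, map_mul] at this
    rw [Subgroup.coe_mul, Subgroup.coe_mul, ← ha, ← hb]
    exact this⟩⟩
  have hVe : ∀ v ∈ V, v ^ t = 1 := by
    rintro _ ⟨x, hx, rfl⟩
    rw [← map_pow]
    exact (QuotientGroup.eq_one_iff _).2 (hpre x hx x hx).2
  have hVt : IsPGroup t ↥V := fun v => ⟨1, Subtype.ext (by simpa using hVe v v.2)⟩
  have hQp : IsPGroup p ↥Qh := (LocalStr.isPGroup_pCoreOf L).map ψ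
  have hS'p : IsPGroup p ↥S' := S.isPGroup'.map ψ
  have hcopQ : (Nat.card ↥Qh).Coprime (Nat.card ↥V) := IsPGroup.coprime_card_of_ne p t htp.symm _ _ hQp hVt
  have hQS : Qh ≤ S' := map_mono h.pCoreOf_L_le_S
  have hQV : Qh ≤ normalizer (V : Set (G ⧸ K)) := le_normalizer_of_normal
  have hA'V : A' ≤ V := map_mono (h.A_le_Y hY)
  -- `S'`-invariant subgroups
  have hdich : ∀ U : Subgroup (G ⧸ K), U ≤ V → S' ≤ normalizer (U : Set (G ⧸ K)) →
      A' ≤ U ∨ U ≤ centralizer (Qh : Set (G ⧸ K)) := by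
    intro U hUV hUS
    have hSU : (S : Subgroup G) ≤ normalizer (U.comap ψ : Set G) := fun s hs => by
      have := hUS (mem_map_of_mem ψ hs)
      rw [mem_normalizer_iff] at this ⊢
      intro x
      simpa [mem_comap] using this (ψ x)
    rcases h.le_or_le_of_normalized hSU with h1 | h1
    · exact Or.inl (map_le_iff_le_comap.2 h1)
    right
    intro u hu
    rw [mem_centralizer_iff]
    rintro _ ⟨q, hq, rfl⟩
    obtain ⟨x, rfl⟩ := hψs u
    have hxL : x ∈ L := h1 hu
    have h2 : ψ x * ψ q * (ψ x)⁻¹ * (ψ q)⁻¹ ∈ Qh ⊓ V := by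
      constructor
      · have := mem_map_of_mem ψ (mul_mem
          ((mem_normalizer_iff.1 (LocalStr.le_normalizer_pCoreOf L hxL) q).1 hq) (inv_mem hq))
        rwa [map_mul, map_mul, map_mul, map_inv, map_inv] at this
      · have := mul_mem (hUV hu) (hVn.conj_mem _ (inv_mem (hUV hu)) (ψ q))
        simpa [mul_assoc] using this
    rw [(disjoint_iff.1 (disjoint_of_coprime_natCard hcopQ)), mem_bot, mul_inv_eq_one,
      mul_inv_eq_iff_eq_mul] at h2
    exact h2.symm
  have hA'ne : A' ≠ ⊥ := by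
    rw [hA', ne_eq, Subgroup.map_eq_bot_iff, QuotientGroup.ker_mk']
    exact fun hle => h.not_A_le_L (hle.trans hKL)
  -- `[V, Qh] = V`
  have hnc : ¬ V ≤ centralizer (Qh : Set (G ⧸ K)) := by
    intro hle
    have h1 : (pCoreOf p L).map π ≤ centralizer (Y.map π : Set (G ⧸ pCore p G)) := by
      refine Solvable.le_centralizer_of_trivial_on_frattini_quotient ?_ ?_
      · exact IsPGroup.coprime_card_of_ne p t htp.symm _ _ ((LocalStr.isPGroup_pCoreOf L).map π)
          (hYt.to_subgroup _)
      · rintro _ ⟨q, hq, rfl⟩ _ ⟨y, hy, rfl⟩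
        have h2 := (mem_centralizer_iff.1 (hle (mem_map_of_mem ψ hy))) _ (mem_map_of_mem ψ hq)
        have h3 : q * y * q⁻¹ * y⁻¹ ∈ K := by
          rw [← QuotientGroup.eq_one_iff, ← QuotientGroup.mk'_apply, map_mul, map_mul, map_mul,
            map_inv, map_inv, ← hψ, h2]
          simp
        rw [hK, mem_comap, map_mul, map_mul, map_mul, map_inv, map_inv] at h3
        exact h3
    apply h.not_P_le_normalizer
    rw [← h.pRes_sup]
    refine sup_le (fun a ha => ?_) (h.S_le_L.trans (LocalStr.le_normalizer_pCoreOf L))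
    refine mem_normalizer_of_conj_le' (fun q hq => ?_)
    have h2 := (mem_centralizer_iff.1 (h1 (mem_map_of_mem π hq))) _
      (mem_map_of_mem π (h.A_le_Y hY ha))
    have h3 : π (a * q * a⁻¹ * q⁻¹) = 1 := by
      rw [map_mul, map_mul, map_mul, map_inv, map_inv, h2]
      simp
    have h4 : a * q * a⁻¹ * q⁻¹ ∈ pCoreOf p L := h.R_le_Q ((QuotientGroup.eq_one_iff _).1 h3)
    simpa [mul_assoc] using mul_mem h4 hq
  have hDV : ⁅V, Qh⁆ = V := by
    set D := ⁅V, Qh⁆ with hD
    have hDle : D ≤ V := Solvable.commutator_le_of_normalizes hQV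
    have hDn : D.Normal := by
      rw [← normalizer_eq_top_iff, ← top_le_iff, ← map_top_of_surjective ψ hψs,
        ← h.sup_eq_top (h.A_le_Y hY), Subgroup.map_sup]
      refine sup_le (Solvable.le_normalizer_commutator_left V Qh) ?_
      rintro _ ⟨l, hl, rfl⟩
      have hlQ : (Qh).map (MulAut.conj (ψ l)).toMonoidHom = Qh := by
        rw [hQh, Subgroup.map_map]
        have e : (MulAut.conj (ψ l)).toMonoidHom.comp ψ =
            ψ.comp (MulAut.conj l).toMonoidHom := by
          ext x; simp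
        rw [e, ← Subgroup.map_map, Components.map_conj_eq_of_mem_normalizer
          (LocalStr.le_normalizer_pCoreOf L hl)]
      rw [mem_normalizer_iff_map_conj_eq]
      show D.map (MulAut.conj (ψ l)).toMonoidHom = D
      rw [hD, map_commutator, hlQ,
        Components.map_conj_eq_of_mem_normalizer (le_normalizer_of_normal (mem_top _))]
    rcases h.Y_le_or_le hY (N := D.comap ψ) with h1 | h1
    · exact le_antisymm hDle (map_le_iff_le_comap.2 h1)
    · exfalso
      refine hnc ?_
      have hc : D ≤ centralizer (Qh : Set (G ⧸ K)) := by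
        rcases hdich D hDle le_normalizer_of_normal with h2 | h2
        · exact absurd ((map_le_iff_le_comap.1 h2).trans h1) h.not_A_le_L
        · exact h2
      have hbot : D = ⊥ := by
        rw [eq_bot_iff, ← Solvable.centralizer_inf_commutator_eq_bot hQV hcopQ]
        exact le_inf (le_inf hDle hc) le_rfl
      exact commutator_eq_bot_iff_le_centralizer.1 hbot
  have hC : V ⊓ centralizer (Qh : Set (G ⧸ K)) = ⊥ := by
    have := Solvable.centralizer_inf_commutator_eq_bot hQV hcopQ
    rw [hDV] at this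
    rwa [inf_eq_left.2 inf_le_left] at this
  -- an invariant complement
  letI : CommGroup ↥V :=
    { (inferInstance : Group ↥V) with mul_comm := fun a b => hVc.1.1 a b }
  set X : Subgroup (MulAut ↥V) := S'.map
    ((MulAut.conjNormal : (G ⧸ K) →* MulAut ↥V)) with hX
  have hXc : (Nat.card ↥X).Coprime t := by
    obtain ⟨k, hk⟩ := IsPGroup.iff_card.1
      (hS'p.map (MulAut.conjNormal : (G ⧸ K) →* MulAut ↥V))
    rw [hX, hk]
    exact ((Nat.coprime_primes hp.out ht.out).2 htp.symm).pow_left k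
  have hA'S : S' ≤ normalizer (A' : Set (G ⧸ K)) :=
    (map_mono (h.hSP.trans (LocalStr.le_normalizer_pRes_self P))).trans (le_normalizer_map ψ)
  have hinvA : Solvable.AbelianModule.Inv X (A'.subgroupOf V) := by
    rintro _ ⟨s, hs, rfl⟩ v hv
    rw [mem_subgroupOf] at hv ⊢
    simpa using (mem_normalizer_iff.1 (hA'S hs) _).1 hv
  obtain ⟨M, hMi, hMd, hMs⟩ := Solvable.AbelianModule.exists_inv_compl (p := t) hXc
    (Solvable.AbelianModule.inv_bot) hinvA Solvable.AbelianModule.inv_top bot_le le_top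
    (fun w _ => by rw [mem_bot]; exact Subtype.ext (by simpa using hVe w w.2))
  set M' := M.map V.subtype with hM'
  have hM'S : S' ≤ normalizer (M' : Set (G ⧸ K)) := by
    intro s hs
    refine mem_normalizer_of_conj_le' ?_
    rintro _ ⟨m, hm, rfl⟩
    exact ⟨_, hMi _ (mem_map_of_mem _ hs) m hm, by simp⟩
  have hVA : V ≤ A' := by
    rcases hdich M' (map_subtype_le _) hM'S with h1 | h1
    · refine absurd (le_bot_iff.1 ?_) hA'ne
      rw [← map_bot V.subtype, ← hMd]
      rintro a ha
      obtain ⟨m, hm, rfl⟩ := h1 ha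
      exact ⟨m, ⟨hm, ha⟩, rfl⟩
    · have hM0 : M' = ⊥ := le_bot_iff.1 (hC ▸ le_inf (map_subtype_le _) h1)
      rw [hM', map_eq_bot_iff_of_injective _ V.subtype_injective] at hM0
      rw [hM0, bot_sup_eq, subgroupOf_eq_top] at hMs
      exact hMs
  -- lift to `G/O_p(G)`
  refine le_antisymm ?_ (map_mono (h.A_le_Y hY))
  have hgen : ((pRes p P).map π).subgroupOf (Y.map π) ⊔ frattini ↥(Y.map π) = ⊤ := by
    rw [eq_top_iff]
    rintro ⟨_, y, hy, rfl⟩ -
    obtain ⟨a, ha, hay⟩ := hVA (mem_map_of_mem ψ hy)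
    have h1 : a⁻¹ * y ∈ K := QuotientGroup.eq.1 hay
    obtain ⟨f, hf, hfe⟩ := h1
    have he : (⟨π y, mem_map_of_mem π hy⟩ : ↥(Y.map π)) =
        ⟨π a, mem_map_of_mem π (h.A_le_Y hY ha)⟩ * f := Subtype.ext (by
      simp only [Subgroup.coe_mul]
      rw [show ((f : ↥(Y.map π)) : G ⧸ pCore p G) = π (a⁻¹ * y) from hfe, map_mul, map_inv,
        mul_inv_cancel_left])
    rw [he]
    exact mul_mem (mem_sup_left (mem_subgroupOf.2 (mem_map_of_mem π ha))) (mem_sup_right hf)
  exact subgroupOf_eq_top.1 (frattini_nongenerating hgen)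

/-- The solvable case. -/
theorem solvable_case (hs : Group.IsSolvable ↥Y) :
    pRes p P = Y ∧ ∃ _ : (pCore p ↥Y).Normal, ∃ t : ℕ, t.Prime ∧ t ≠ p ∧
      IsPGroup t (↥Y ⧸ pCore p ↥Y) ∧
      ∃ _ : Group.IsNilpotent (↥Y ⧸ pCore p ↥Y), Group.nilpotencyClass (↥Y ⧸ pCore p ↥Y) ≤ 2 := by
  obtain ⟨t, ht, htp, hYt⟩ := h.exists_prime hY hs
  haveI : Fact t.Prime := ⟨ht⟩
  haveI hYn := h.Y_normal hY
  set A := pRes p P with hA
  have hsup : A ⊔ pCore p G = Y ⊔ pCore p G := by
    have := congrArg (comap π) (h.map_Y_eq hY htp hYt)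
    rw [comap_map_eq, comap_map_eq, QuotientGroup.ker_mk'] at this
    exact this.symm
  have hAn : A.Normal := by
    have hRA : pCore p G ≤ normalizer (A : Set G) :=
      ((Solvable.pCore_le_sylow S).trans h.hSP).trans (LocalStr.le_normalizer_pRes_self P)
    have he : pRes p (A ⊔ pCore p G) = A := by
      rw [LocalStr.pRes_sup_pGroup (Solvable.pCore_isPGroup p G) hRA, hA, LocalStr.pRes_pRes]
    rw [← normalizer_eq_top_iff, ← top_le_iff, ← he, hsup]
    exact LocalStr.le_normalizer_pRes le_normalizer_of_normal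
  refine ⟨le_antisymm (h.A_le_Y hY) (hY ▸ normalClosure_le_normal le_rfl), ?_⟩
  haveI hYR : (pCore p ↥Y).Normal := Solvable.pCore_normal p ↥Y
  refine ⟨hYR, t, ht, htp, ?_⟩
  set f := (π).subgroupMap Y with hf
  have hfs : Function.Surjective f := MonoidHom.subgroupMap_surjective _ _
  have hker : f.ker = pCore p ↥Y := by
    refine map_injective Y.subtype_injective ?_
    rw [Solvable.map_subtype_pCore_eq]
    ext x
    constructor
    · rintro ⟨y, hy, rfl⟩
      exact ⟨(QuotientGroup.eq_one_iff _).1 (congrArg Subtype.val hy), y.2⟩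
    · rintro ⟨h1, h2⟩
      exact ⟨⟨x, h2⟩, Subtype.ext ((QuotientGroup.eq_one_iff _).2 h1), rfl⟩
  let e : ↥Y ⧸ pCore p ↥Y ≃* ↥(Y.map π) :=
    (QuotientGroup.quotientMulEquivOfEq hker.symm).trans
      (QuotientGroup.quotientKerEquivOfSurjective f hfs)
  refine ⟨hYt.of_equiv e.symm, ?_⟩
  haveI := hYt.isNilpotent
  haveI hnil : Group.IsNilpotent (↥Y ⧸ pCore p ↥Y) :=
    Group.nilpotent_of_mulEquiv e.symm
  refine ⟨hnil, (Group.nilpotencyClass_le_of_surjective e.symm.toMonoidHom e.symm.surjective).trans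
    ?_⟩
  rw [← Subgroup.lowerCentralSeries_eq_bot_iff_nilpotencyClass_le]
  refine map_injective (Y.map π).subtype_injective ?_
  rw [Subgroup.map_bot, Subgroup.lowerCentralSeries_succ, Subgroup.lowerCentralSeries_succ, Subgroup.lowerCentralSeries_zero,
    map_commutator, map_commutator, ← MonoidHom.range_eq_map, range_subtype]
  exact h.commutator_map_Y_le hY hYt

end Quot

end Setup

end CfsgLib.Case.IsoP
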