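import Cfsg.Prelude.Def_IsolatedElements
import Cfsg.Prelude.Def_CaseTheorems
import Cfsg.Agent.Lib.LocalEven.Isolated
import Cfsg.Agent.Lib.Components.GenFitting
import Cfsg.Agent.Lib.Components.Subnormal
import Cfsg.Agent.Lib.Balance.Orbit
import Cfsg.Agent.Lib.Transfer.Tate
import Cfsg.Agent.Lib.Fusion.SmallFix

/-!
An isolated element of order `p` in p-rank two: `F*(G)` is simple.
-/

set_option autoImplicit false
set_option linter.style.haveILetI false

namespace CfsgLib.Case.IsolatedRankTwo

open Subgroup Cfsg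
open scoped Pointwise

variable {G : Type*} [Group G] [Finite G] {p : ℕ} [hp : Fact p.Prime]

theorem pow_eq_one_of_mem_zpowers {z u : G} (hu : u ∈ zpowers z) (hz : z ^ p = 1) : u ^ p = 1 := by
  obtain ⟨i, rfl⟩ := mem_zpowers_iff.1 hu
  rw [← zpow_natCast, ← zpow_mul, mul_comm, zpow_mul, zpow_natCast, hz, one_zpow]

/-- In p-rank two an element of order `p` commuting with `z, x` is a product of powers of them. -/
theorem exists_zpow_mul (hrank : Cfsg.PRankLE p 2 G) {z x u : G} (hz : orderOf z = p) (hx : x ^ p = 1)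
    (hu : u ^ p = 1) (hzx : Commute z x) (hzu : Commute z u) (hxu : Commute x u)
    (hxz : x ∉ zpowers z) : ∃ i j : ℤ, u = z ^ i * x ^ j := by
  set A := zpowers z ⊔ zpowers x with hA
  set B := A ⊔ zpowers u with hB
  have hgen : ∀ a ∈ B, a ∈ closure ({z, x, u} : Set G) := by
    intro a ha
    refine (sup_le (sup_le ?_ ?_) ?_ : B ≤ closure ({z, x, u} : Set G)) ha <;>
      exact zpowers_le.2 (subset_closure (by simp))
  have hcl : ∀ a ∈ ({z, x, u} : Set G), ∀ b ∈ ({z, x, u} : Set G), Commute a b := by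
    intro a ha b hb
    simp only [Set.mem_insert_iff, Set.mem_singleton_iff] at ha hb
    rcases ha with rfl | rfl | rfl <;> rcases hb with rfl | rfl | rfl <;>
      first | exact Commute.refl _ | assumption | exact Commute.symm ‹_›
  have hcomm : ∀ a ∈ B, ∀ b ∈ B, Commute a b := by
    intro a ha b hb
    have h1 : closure ({z, x, u} : Set G) ≤ centralizer ((closure ({z, x, u} : Set G) : Subgroup G) : Set G) := by
      rw [centralizer_closure, closure_le]
      exact fun a ha b hb => (hcl b hb a ha).eq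
    exact (h1 (hgen b hb) a (hgen a ha))
  have hpow : ∀ a ∈ B, a ^ p = 1 := by
    intro a ha
    have h := hgen a ha
    induction h using closure_induction with
    | mem b hb =>
      simp only [Set.mem_insert_iff, Set.mem_singleton_iff] at hb
      rcases hb with rfl | rfl | rfl
      · exact hz ▸ pow_orderOf_eq_one b
      · exact hx
      · exact hu
    | one => exact one_pow p
    | mul a b ha' hb' iha ihb =>
      have hle : closure ({z, x, u} : Set G) ≤ B := by
        rw [closure_le]
        intro c hc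
        simp only [Set.mem_insert_iff, Set.mem_singleton_iff] at hc
        rcases hc with rfl | rfl | rfl
        · exact mem_sup_left (mem_sup_left (mem_zpowers _))
        · exact mem_sup_left (mem_sup_right (mem_zpowers _))
        · exact mem_sup_right (mem_zpowers _)
      rw [(hcomm a (hle ha') b (hle hb')).mul_pow, iha (hle ha'), ihb (hle hb'), one_mul]
    | inv a ha' iha =>
      rw [inv_pow, iha (by simpa using inv_mem ha), inv_one]
  have hBc := hrank B ⟨⟨fun a b => Subtype.ext (hcomm a a.2 b b.2)⟩⟩ hpow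
  have hAc : p ^ 2 ≤ Nat.card A := by
    have hAp : IsPGroup p A := fun a => ⟨1, Subtype.ext (by simpa using hpow a (mem_sup_left a.2))⟩
    obtain ⟨k, hk⟩ := IsPGroup.iff_card.1 hAp
    have hlt : zpowers z < A := lt_of_le_of_ne le_sup_left fun h =>
      hxz (h.symm ▸ mem_sup_right (mem_zpowers x))
    have h1 := Set.Finite.card_lt_card (Set.toFinite _) hlt
    rw [SetLike.coe_sort_coe, SetLike.coe_sort_coe, Nat.card_zpowers, hz, hk] at h1
    rw [hk]
    refine Nat.pow_le_pow_right hp.out.pos ?_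
    exact (Nat.pow_lt_pow_iff_right hp.out.one_lt).1 (by rwa [pow_one])
  have hAB : A = B := eq_of_le_of_card_ge le_sup_left (hBc.trans hAc)
  have huA : u ∈ A := hAB ▸ mem_sup_right (mem_zpowers u)
  have hn : zpowers x ≤ normalizer (zpowers z : Set G) := by
    refine le_trans ?_ (centralizer_le_normalizer _)
    rw [zpowers_le, mem_centralizer_iff]
    intro a ha
    obtain ⟨i, rfl⟩ := mem_zpowers_iff.1 ha
    exact (hzx.zpow_left i).eq
  rw [hA, ← SetLike.mem_coe, Subgroup.coe_mul_of_right_le_normalizer_left (zpowers z) (zpowers x) hn] at huA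
  obtain ⟨a, ha, b, hb, hab⟩ := huA
  obtain ⟨i, rfl⟩ := mem_zpowers_iff.1 ha
  obtain ⟨j, rfl⟩ := mem_zpowers_iff.1 hb
  exact ⟨i, j, hab.symm⟩

/-- An element of order `p` of an isolated cyclic group has no other conjugate in a `p`-group
containing the isolated element. -/
theorem zpow_conj_eq {x g : G} (hx : orderOf x = p) (hiso : Cfsg.IsIsolated x) {P : Subgroup G}
    (hP : IsPGroup p P) (hxP : x ∈ P) {j : ℤ} (h : g * x ^ j * g⁻¹ ∈ P) :
    g * x ^ j * g⁻¹ = x ^ j := by
  have hxp : x ^ (p : ℤ) = 1 := by rw [zpow_natCast, ← hx]; exact pow_orderOf_eq_one x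
  by_cases hj : (p : ℤ) ∣ j
  · obtain ⟨c, rfl⟩ := hj
    rw [zpow_mul, hxp, one_zpow, mul_one, mul_inv_cancel]
  obtain ⟨a, b, hab⟩ : IsCoprime (p : ℤ) j :=
    (Prime.coprime_iff_not_dvd (Nat.prime_iff_prime_int.1 hp.out)).2 hj
  have hxj : x = (x ^ j) ^ b := by
    conv_lhs => rw [← zpow_one x, ← hab, _root_.zpow_add, mul_comm a, _root_.zpow_mul, hxp,
      _root_.one_zpow, one_mul, mul_comm b, _root_.zpow_mul]
  have h1 : g * x * g⁻¹ ∈ P := by
    rw [hxj, ← conj_zpow]
    exact zpow_mem h b
  rw [← conj_zpow, CfsgLib.LocalEven.isolated_eq_of_conj_mem hiso hP hxP h1]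

theorem perfect_eq_top {X : Type*} [Group X] [Finite X] [Group.IsPerfect X] (N : Subgroup X)
    [N.Normal] (hQ : IsPGroup p (X ⧸ N)) : N = ⊤ := by
  haveI := hQ.isNilpotent
  by_contra hne
  haveI : Nontrivial (X ⧸ N) := QuotientGroup.nontrivial_iff.2 hne
  have hlt := Group.IsSolvable.commutator_lt_top_of_nontrivial (X ⧸ N)
  refine hlt.ne ?_
  have hperf : commutator X = ⊤ := Group.IsPerfect.commutator_eq_top
  rw [← Subgroup.map_top_of_surjective _ (QuotientGroup.mk'_surjective N), ← hperf,
    _root_.commutator_def, _root_.commutator_def, Subgroup.map_commutator,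
    Subgroup.map_top_of_surjective _ (QuotientGroup.mk'_surjective N)]

/-- No component has all its elements of order `p` weakly fixed. -/
theorem component_not_fixed (hp2 : p ≠ 2) (hcore : Cfsg.pPrimeCore p G = ⊥) {L : Subgroup G}
    (hL : Cfsg.IsComponent L)
    (hfix : ∀ D : Subgroup G, D ≤ L → IsPGroup p D → ∀ u ∈ D, u ^ p = 1 → ∀ g ∈ L,
      g * u * g⁻¹ ∈ D → g * u * g⁻¹ = u) : False := by
  have hcomp : HasNormalPComplement p L := by
    refine CfsgLib.Transfer.hasNormalPComplement_of_frobenius fun D hD g hg hgc => ?_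
    have ha : D.normalizerMonoidHom ⟨g, hg⟩ = 1 := by
      refine CfsgLib.Fusion.SmallFix.eq_one_of_fix_small hD _ ?_ fun u hu => ?_
      · exact hgc.coprime_dvd_left ((orderOf_map_dvd _ _).trans (by rw [orderOf_mk]))
      · have hu' : u ^ p = 1 := hu.resolve_right fun h => hp2 h.1
        refine Subtype.ext (Subtype.ext ?_)
        have h := hfix (D.map L.subtype) (map_subtype_le D) (hD.map _) ((u : L) : G)
          (mem_map_of_mem _ u.2) (by simpa using congrArg (fun a : D => ((a : L) : G)) hu') g g.2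
          (mem_map_of_mem L.subtype ((mem_normalizer_iff.1 hg _).1 u.2))
        exact h
    refine mem_centralizer_iff.2 fun d hd => ?_
    have h0 := DFunLike.congr_fun ha (⟨d, hd⟩ : D)
    have h1 : g * d * g⁻¹ = d := congrArg Subtype.val h0
    exact (mul_inv_eq_iff_eq_mul.1 h1).symm
  haveI : Group.IsPerfect L := hL.2.1
  haveI := CfsgLib.Transfer.pResidual_normal (G := L) (p := p)
  obtain ⟨k, hk⟩ := CfsgLib.Transfer.index_pResidual_eq_pow (G := L) (p := p)
  have htop := perfect_eq_top (p := p) (pResidual p L) (IsPGroup.of_card hk)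
  have hcop : (Nat.card L).Coprime p := by
    rw [Nat.coprime_comm, hp.out.coprime_iff_not_dvd]
    intro hd
    obtain ⟨t, ht⟩ := exists_prime_orderOf_dvd_card' p hd
    have h := (CfsgLib.Transfer.mem_pResidual_iff_of_hasNormalPComplement hcomp t).1
      (htop ▸ mem_top t)
    rw [ht, Nat.coprime_self] at h
    exact hp.out.ne_one h
  have h := CfsgLib.Components.le_pPrimeCore_of_isSubnormal hL.1 hcop
  rw [hcore] at h
  exact CfsgLib.Components.component_ne_bot hL (eq_bot_iff.2 h)

variable (hp2 : p ≠ 2) (hcore : Cfsg.pPrimeCore p G = ⊥) (hrank : Cfsg.PRankLE p 2 G) (x : G)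
  (hx : orderOf x = p) (hiso : Cfsg.IsIsolated x) (hnc : x ∉ Subgroup.center G)

omit [Finite G] hp in
theorem isolated_conj {x : G} (hiso : Cfsg.IsIsolated x) (h : G) : Cfsg.IsIsolated (h * x * h⁻¹) := by
  intro g hc
  have h1 := hiso (h⁻¹ * g * h) (by
    have := hc.map (MulAut.conj h⁻¹).toMonoidHom
    simpa [mul_assoc] using this)
  calc g * (h * x * h⁻¹) * g⁻¹ = h * ((h⁻¹ * g * h) * x * (h⁻¹ * g * h)⁻¹) * h⁻¹ := by group
    _ = h * x * h⁻¹ := by rw [h1]

/-- Every `p`-subgroup lies in a Sylow subgroup with a conjugate of `x`. -/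
theorem exists_sylow_conj (hx : orderOf x = p) {D : Subgroup G} (hD : IsPGroup p D) :
    ∃ (P : Sylow p G) (h : G), D ≤ P ∧ h * x * h⁻¹ ∈ (P : Subgroup G) := by
  obtain ⟨P, hP⟩ := hD.exists_le_sylow
  obtain ⟨Q, hQ⟩ := (CfsgLib.LocalEven.zpowers_isPGroup (x := x) (p := p)
    ⟨1, by rw [hx, pow_one]⟩).exists_le_sylow
  obtain ⟨h, hh⟩ := MulAction.exists_smul_eq G Q P
  refine ⟨P, h, hP, ?_⟩
  rw [← hh]
  exact Subgroup.smul_mem_pointwise_smul _ (MulAut.conj h) _ (hQ (mem_zpowers x))

include hx hiso hnc in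
theorem conj_not_mem_core (h : G) : h * x * h⁻¹ ∉ Cfsg.pCore p G := by
  intro hmem
  have hn : (Cfsg.pCore p G).Normal := CfsgLib.LocalEven.core_normal p G
  have hxR : x ∈ Cfsg.pCore p G := by
    have := hn.conj_mem _ hmem h⁻¹
    simpa [mul_assoc] using this
  refine hnc (mem_center_iff.2 fun g => ?_)
  exact mul_inv_eq_iff_eq_mul.1 (CfsgLib.LocalEven.isolated_eq_of_conj_mem hiso
    (CfsgLib.LocalEven.core_isPGroup p G) hxR (hn.conj_mem x hxR g))

include hp2 hcore hrank hx hiso hnc in
/-- If there is a component, then `O_p(G) = 1`. -/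
theorem pCore_eq_bot_of_component {L : Subgroup G} (hL : Cfsg.IsComponent L) :
    Cfsg.pCore p G = ⊥ := by
  by_contra hR
  set R := Cfsg.pCore p G with hRdef
  haveI hRn : R.Normal := CfsgLib.LocalEven.core_normal p G
  have hLR : L ≤ centralizer (R : Set G) :=
    (CfsgLib.Components.component_le_layer hL).trans (CfsgLib.Components.layer_le_centralizer_pCore p)
  refine component_not_fixed hp2 hcore hL fun D hDL hD u hu hup g hg hgu => ?_
  obtain ⟨P, h, hDP, hx'⟩ := exists_sylow_conj x hx hD
  set x' := h * x * h⁻¹ with hx'def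
  have hiso' := isolated_conj hiso h
  have hx'o : orderOf x' = p := by
    rw [hx'def, show h * x * h⁻¹ = MulAut.conj h x from rfl, MulEquiv.orderOf_eq, hx]
  -- a central element of order `p` in `R`
  have hRP : R ≤ (P : Subgroup G) := (CfsgLib.LocalEven.core_isPGroup p G).le_sylow_of_normal P
  haveI : (R.subgroupOf (P : Subgroup G)).Normal := inferInstance
  obtain ⟨⟨z, hzP⟩, hzR, hzc, hzo⟩ := CfsgLib.PGroup.exists_central_orderOf_eq P.isPGroup'
    (R.subgroupOf (P : Subgroup G)) (fun hb => hR (by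
      have := congrArg (Subgroup.map (P : Subgroup G).subtype) hb
      rwa [map_subgroupOf_eq_of_le hRP, Subgroup.map_bot] at this))
  rw [orderOf_mk] at hzo
  have hzcP : ∀ a ∈ (P : Subgroup G), Commute z a := fun a ha =>
    (congrArg Subtype.val (mem_center_iff.1 hzc ⟨a, ha⟩)).symm
  have hxz : x' ∉ zpowers z := fun hm =>
    conj_not_mem_core x hx hiso hnc h (zpowers_le.2 (show z ∈ R from hzR) hm)
  have huP := hDP hu
  have hxu : Commute x' u :=
    (mem_centralizer_singleton_iff.1
      (CfsgLib.LocalEven.isolated_central_in_pSubgroup hiso' P.isPGroup' hx' huP)).symm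
  obtain ⟨i, j, hij⟩ := exists_zpow_mul hrank hzo (hx'o ▸ pow_orderOf_eq_one x') hup
    (hzcP x' hx') (hzcP u huP) hxu hxz
  have hgz : Commute g (z ^ i) :=
    Commute.symm (hLR hg (z ^ i) (zpow_mem hzR i) : z ^ i * g = g * z ^ i)
  have he : g * u * g⁻¹ = z ^ i * (g * x' ^ j * g⁻¹) := by
    rw [hij, ← mul_assoc g, hgz.eq]; group
  have hmem : g * x' ^ j * g⁻¹ ∈ (P : Subgroup G) := by
    have h1 : g * x' ^ j * g⁻¹ = (z ^ i)⁻¹ * (g * u * g⁻¹) := by rw [he, inv_mul_cancel_left]
    rw [h1]
    exact mul_mem (inv_mem (zpow_mem hzP i)) (hDP hgu)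
  rw [he, zpow_conj_eq hx'o hiso' P.isPGroup' hx' hmem, ← hij]

include hp2 hcore hrank hx hiso hnc in
/-- There is at most one component. -/
theorem component_unique {L K : Subgroup G} (hL : Cfsg.IsComponent L) (hK : Cfsg.IsComponent K) :
    L = K := by
  by_contra hne
  have hR := pCore_eq_bot_of_component hp2 hcore hrank x hx hiso hnc hL
  have hcomm : ∀ a ∈ L, ∀ b ∈ K, Commute a b := by
    intro a ha b hb
    have h := CfsgLib.Components.le_centralizer_of_commutator_eq_bot
      (CfsgLib.Components.component_commutator_of_ne hL hK hne)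
    exact (h ha b hb).symm
  have hdisj : ∀ a ∈ L, a ∈ K → a = 1 := by
    intro a haL haK
    have h : a ∈ L ⊓ centralizer (L : Set G) := ⟨haL, fun b hb => (hcomm b hb a haK).eq⟩
    have h2 := CfsgLib.Balance.center_le_pCore (p := p) hcore hL.1 h
    rwa [hR, mem_bot] at h2
  -- a component without conjugates of `x` is `p`-nilpotent
  have key : ∀ M N : Subgroup G, Cfsg.IsComponent M → Cfsg.IsComponent N →
      (∀ a ∈ M, ∀ b ∈ N, Commute a b) → (∀ a ∈ M, a ∈ N → a = 1) →
      (∀ h : G, h * x * h⁻¹ ∉ N) → False := by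
    intro M N hM hN hc hd hxN
    obtain ⟨y, hyN, hy⟩ : ∃ y ∈ N, orderOf y = p := by
      by_contra! hcon
      have hcop : (Nat.card N).Coprime p := by
        rw [Nat.coprime_comm, hp.out.coprime_iff_not_dvd]
        intro hd'
        obtain ⟨t, ht⟩ := exists_prime_orderOf_dvd_card' p hd'
        exact hcon t t.2 (by rw [orderOf_coe, ht])
      have h := CfsgLib.Components.le_pPrimeCore_of_isSubnormal hN.1 hcop
      rw [hcore] at h
      exact CfsgLib.Components.component_ne_bot hN (eq_bot_iff.2 h)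
    refine component_not_fixed hp2 hcore hM fun D hDM hD u hu hup g hg hgu => ?_
    have hDy : IsPGroup p (D ⊔ zpowers y : Subgroup G) := by
      refine IsPGroup.to_sup_of_normal_right' hD
        (CfsgLib.LocalEven.zpowers_isPGroup ⟨1, by rw [hy, pow_one]⟩) ?_
      refine le_trans (fun d hd' => ?_) (centralizer_le_normalizer _)
      rw [mem_centralizer_iff]
      intro w hw
      exact (hc d (hDM hd') w (zpowers_le.2 hyN hw)).eq.symm
    obtain ⟨P, h, hDP, hx'⟩ := exists_sylow_conj x hx hDy
    set x' := h * x * h⁻¹ with hx'def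
    have hiso' := isolated_conj hiso h
    have hx'o : orderOf x' = p := by
      rw [hx'def, show h * x * h⁻¹ = MulAut.conj h x from rfl, MulEquiv.orderOf_eq, hx]
    have hcen : ∀ a ∈ (P : Subgroup G), Commute x' a := fun a ha =>
      (mem_centralizer_singleton_iff.1
        (CfsgLib.LocalEven.isolated_central_in_pSubgroup hiso' P.isPGroup' hx' ha)).symm
    have hyP : y ∈ (P : Subgroup G) := hDP (mem_sup_right (mem_zpowers y))
    have huP : u ∈ (P : Subgroup G) := hDP (mem_sup_left hu)
    have hxy : x' ∉ zpowers y := fun hm => hxN h (zpowers_le.2 hyN hm)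
    obtain ⟨i, j, hij⟩ := exists_zpow_mul hrank hy (hx'o ▸ pow_orderOf_eq_one x') hup
      (hcen y hyP).symm (hc u (hDM hu) y hyN).symm (hcen u huP) hxy
    have hgy : Commute g (y ^ i) := hc g hg _ (zpow_mem hyN i)
    have he : g * u * g⁻¹ = y ^ i * (g * x' ^ j * g⁻¹) := by
      rw [hij, ← mul_assoc g, hgy.eq]; group
    have hmem : g * x' ^ j * g⁻¹ ∈ (P : Subgroup G) := by
      have h1 : g * x' ^ j * g⁻¹ = (y ^ i)⁻¹ * (g * u * g⁻¹) := by rw [he, inv_mul_cancel_left]
      rw [h1]
      exact mul_mem (inv_mem (zpow_mem hyP i)) (hDP (mem_sup_left hgu))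
    rw [he, zpow_conj_eq hx'o hiso' P.isPGroup' hx' hmem, ← hij]
  by_cases hxK : ∀ h : G, h * x * h⁻¹ ∉ K
  · exact key L K hL hK hcomm hdisj hxK
  push Not at hxK
  obtain ⟨k, hk⟩ := hxK
  refine key K L hK hL (fun a ha b hb => (hcomm b hb a ha).symm) (fun a ha hb => hdisj a hb ha) ?_
  intro h hh
  set a := h * x * h⁻¹ with ha
  set b := k * x * k⁻¹ with hb
  have he : (k * h⁻¹) * a * (k * h⁻¹)⁻¹ = b := by rw [ha, hb]; group
  have h1 := isolated_conj hiso h (k * h⁻¹) (by rw [← ha, he]; exact hcomm a hh b hk)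
  rw [← ha, he] at h1
  have h2 := hdisj a hh (h1 ▸ hk)
  rw [ha, conj_eq_one_iff] at h2
  rw [h2, orderOf_one] at hx
  exact hp.out.ne_one hx.symm

include hp2 hcore hrank hx hiso hnc in
theorem isSimpleGroup_genFitting :
    IsSimpleGroup ↥(Cfsg.generalizedFittingSubgroup G) ∧
      ¬ IsMulCommutative ↥(Cfsg.generalizedFittingSubgroup G) := by
  have hF : Cfsg.fittingSubgroup G ≤ Cfsg.pCore p G := CfsgLib.Balance.fitting_le_pCore hcore
  obtain ⟨L, hL⟩ : ∃ L, Cfsg.IsComponent (L : Subgroup G) := by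
    by_contra hcon
    push Not at hcon
    have hlay := CfsgLib.Components.layer_eq_bot_iff.2 hcon
    have hFstar : Cfsg.generalizedFittingSubgroup G ≤ Cfsg.pCore p G := by
      rw [CfsgLib.Components.genFitting_eq_fitting_of_layer_eq_bot hlay]; exact hF
    obtain ⟨P, h, hRP, hx'⟩ := exists_sylow_conj x hx (CfsgLib.LocalEven.core_isPGroup p G)
    refine conj_not_mem_core x hx hiso hnc h (hFstar (CfsgLib.Components.centralizer_genFitting_le ?_))
    intro a ha
    exact mem_centralizer_singleton_iff.1 (CfsgLib.LocalEven.isolated_central_in_pSubgroup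
      (isolated_conj hiso h) P.isPGroup' hx' (hRP (hFstar ha)))
  have hR := pCore_eq_bot_of_component hp2 hcore hrank x hx hiso hnc hL
  have hlay : Cfsg.layer G = L := le_antisymm
    (sSup_le fun K hK => (component_unique hp2 hcore hrank x hx hiso hnc hK hL).le)
    (CfsgLib.Components.component_le_layer hL)
  have hFb : Cfsg.fittingSubgroup G = ⊥ := eq_bot_iff.2 (hR ▸ hF)
  have hstar : Cfsg.generalizedFittingSubgroup G = L := by
    rw [Cfsg.generalizedFittingSubgroup, hlay, hFb, sup_bot_eq]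
  rw [hstar]
  obtain ⟨hsub, hperf, hsimp⟩ := hL
  haveI := hperf
  have hZ : center L = ⊥ := by
    refine eq_bot_iff.2 fun a ha => ?_
    have h : (a : G) ∈ L ⊓ centralizer (L : Set G) :=
      ⟨a.2, fun b hb => congrArg Subtype.val (mem_center_iff.1 ha ⟨b, hb⟩)⟩
    have h2 := CfsgLib.Balance.center_le_pCore (p := p) hcore hsub h
    rw [hR, mem_bot] at h2
    exact mem_bot.2 (Subtype.ext h2)
  haveI := hsimp
  have hna : ¬ IsMulCommutative L := by
    intro hab
    haveI := hab
    refine CfsgLib.Components.component_ne_bot ⟨hsub, hperf, hsimp⟩ (eq_bot_iff.2 fun a ha => ?_)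
    have h : (⟨a, ha⟩ : L) ∈ center L :=
      mem_center_iff.2 fun b => mul_comm' b _
    rw [hZ, mem_bot] at h
    exact mem_bot.2 (congrArg Subtype.val h)
  haveI : Nontrivial L := (nontrivial_iff_ne_bot L).2
    (CfsgLib.Components.component_ne_bot ⟨hsub, hperf, hsimp⟩)
  refine ⟨IsSimpleGroup.isSimpleGroup_of_surjective
    ((QuotientGroup.quotientMulEquivOfEq hZ).trans QuotientGroup.quotientBot).toMonoidHom
    (MulEquiv.surjective _), hna⟩

end CfsgLib.Case.IsolatedRankTwo
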