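import Cfsg.Agent.Lib.Case.SL2FpfNatural

/-!
No module of exponent four for `SL₂(F)` has all elements of trace one satisfying `g² + g + 1 = 0`,
and alternating equivariant pairings between sums of natural modules, orthogonal to the elements
of trace one, vanish.
-/

set_option autoImplicit false
set_option linter.unusedSectionVars false

namespace CfsgLib.Case.SL2Fpf

open Matrix CfsgLib.RootSub CfsgLib.LocalEven.SL2Natural

variable {F : Type*} [Field F] [Fintype F] [CharP F 2]

theorem exists_ne_zero_one (h4 : 4 ≤ Fintype.card F) : ∃ a : F, a ≠ 0 ∧ a ≠ 1 := by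
  classical
  by_contra h
  push Not at h
  have : (Finset.univ : Finset F) ⊆ {0, 1} := fun a _ => by
    rcases eq_or_ne a 0 with rfl | ha
    · simp
    · simp [h a ha]
  have h5 := (Finset.card_le_card this).trans Finset.card_le_two
  rw [Finset.card_univ] at h5
  omega

theorem natCast_card_sub_one : ((Fintype.card F - 1 : ℕ) : F) = 1 := by
  rw [Nat.cast_sub Fintype.card_pos, FiniteField.cast_card_eq_zero, Nat.cast_one, zero_sub,
    CharTwo.neg_eq]

/-- A vector placed in the upper coordinate. -/
def up {k : ℕ} (p : Fin k → F) : Fin k → Fin 2 → F := fun i => ![p i, 0]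

/-- A vector placed in the lower coordinate. -/
def lo {k : ℕ} (p : Fin k → F) : Fin k → Fin 2 → F := fun i => ![0, p i]

theorem ext_two {k : ℕ} {z w : Fin k → Fin 2 → F} (h0 : ∀ i, z i 0 = w i 0)
    (h1 : ∀ i, z i 1 = w i 1) : z = w := by
  funext i j
  fin_cases j
  · exact h0 i
  · exact h1 i

variable {A : Type*} [AddCommGroup A]

/-- A module of exponent four already has exponent two. -/
theorem exp_two_of_exp_four [Finite A] (h4F : 4 ≤ Fintype.card F)
    (ρ : SpecialLinearGroup (Fin 2) F →* AddMonoid.End A)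
    (h3 : ∀ g : SpecialLinearGroup (Fin 2) F, (g : Matrix (Fin 2) (Fin 2) F).trace = 1 →
      ∀ v, v + ρ g v + ρ g (ρ g v) = 0)
    (h4 : ∀ v : A, v + v + (v + v) = 0) : ∀ v : A, v + v = 0 := by
  classical
  let N : AddSubgroup A :=
    { carrier := {v | v + v = 0}
      add_mem' := fun {a b} (ha : a + a = 0) (hb : b + b = 0) => by
        show a + b + (a + b) = 0
        rw [add_add_add_comm, ha, hb, add_zero]
      zero_mem' := add_zero 0
      neg_mem' := fun {a} (ha : a + a = 0) => by
        show -a + -a = 0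
        rw [← neg_add, ha, neg_zero] }
  let ρN : SpecialLinearGroup (Fin 2) F →* AddMonoid.End N :=
    { toFun := fun g =>
        AddMonoidHom.mk' (fun v => ⟨ρ g v, show ρ g v + ρ g v = 0 by rw [← map_add, v.2, map_zero]⟩)
          fun a b => Subtype.ext (map_add (ρ g) _ _)
      map_one' := AddMonoidHom.ext fun v => Subtype.ext (map_one_apply ρ _)
      map_mul' := fun g g' => AddMonoidHom.ext fun v => Subtype.ext (map_mul_apply ρ g g' _) }
  obtain ⟨k, ψ, hψ⟩ := exists_natural ρN (fun v => Subtype.ext v.2)
    (fun g hg v => Subtype.ext (h3 g hg v))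
  let ι : (Fin k → Fin 2 → F) →+ A := N.subtype.comp ψ.symm.toAddMonoidHom
  have hι : ∀ g z, ρ g (ι z) = ι fun i => (g : Matrix (Fin 2) (Fin 2) F) *ᵥ z i := by
    intro g z
    show ((ρN g (ψ.symm z) : N) : A) = _
    have e : ψ (ρN g (ψ.symm z)) = fun i => (g : Matrix (Fin 2) (Fin 2) F) *ᵥ z i := by
      funext i; rw [hψ, ψ.apply_symm_apply]
    rw [← ψ.symm_apply_apply (ρN g (ψ.symm z)), e]
    rfl
  have hιinj : Function.Injective ι := Subtype.val_injective.comp ψ.symm.injective
  have hN : ∀ v : A, v + v = 0 → ∃ z, ι z = v := fun v hv =>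
    ⟨ψ ⟨v, hv⟩, congrArg Subtype.val (ψ.symm_apply_apply ⟨v, hv⟩)⟩
  have hUup : ∀ a p, ρ (slU a) (ι (up p)) = ι (up p) := fun a p => by
    rw [hι]; congr 1
    refine ext_two (fun i => ?_) (fun i => ?_) <;>
      simp [up, slU_val, Matrix.mulVec, dotProduct, Fin.sum_univ_two]
  have hUlo : ∀ a p, ρ (slU a) (ι (lo p)) = ι (up (a • p)) + ι (lo p) := fun a p => by
    rw [hι, ← map_add]; congr 1
    refine ext_two (fun i => ?_) (fun i => ?_) <;>
      simp [up, lo, slU_val, Matrix.mulVec, dotProduct, Fin.sum_univ_two]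
  by_contra hcon
  push Not at hcon
  obtain ⟨v₀, hv₀⟩ := hcon
  -- an upper vector in `2A`
  obtain ⟨q, hq, v₁, hv₁⟩ : ∃ q : Fin k → F, q ≠ 0 ∧ ∃ v : A, ι (up q) = v + v := by
    obtain ⟨z, hz⟩ := hN _ (h4 v₀)
    by_cases hr : (fun i => z i 1) = 0
    · refine ⟨fun i => z i 0, fun h0 => hv₀ ?_, v₀, ?_⟩
      · rw [← hz, ext_two (w := 0) (fun i => congrFun h0 i) (fun i => congrFun hr i), map_zero]
      · rw [← hz]; congr 1
        refine ext_two (fun i => ?_) (fun i => ?_)
        · simp [up]
        · simpa [up] using (congrFun hr i).symm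
    · refine ⟨fun i => z i 1, hr, ρ (slU 1) v₀ + v₀, ?_⟩
      rw [add_add_add_comm, ← map_add, ← hz, hι, ← map_add]
      congr 1
      refine ext_two (fun i => ?_) (fun i => ?_) <;>
        simp [up, slU_val, Matrix.mulVec, dotProduct, Fin.sum_univ_two, CharTwo.add_self_eq_zero,
          add_comm (z i 0), add_assoc]
  have hT : ∀ c : F, ∃ v, v + v = ι (lo (c • q)) := by
    intro c
    rcases eq_or_ne c 0 with rfl | hc
    · exact ⟨0, by rw [add_zero, zero_smul, ← map_zero ι]; congr 1
                   exact ext_two (fun i => by simp [lo]) (fun i => by simp [lo])⟩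
    refine ⟨ρ (slW c⁻¹) v₁, ?_⟩
    rw [← map_add, ← hv₁, hι]
    congr 1
    refine ext_two (fun i => ?_) (fun i => ?_) <;>
      simp [up, lo, slW_val (inv_ne_zero hc), Matrix.mulVec, dotProduct, Fin.sum_univ_two,
        CharTwo.neg_eq]
  choose V hV using hT
  obtain ⟨a, ha0, ha1⟩ := exists_ne_zero_one h4F
  let X : F → A →+ A := fun b =>
    AddMonoidHom.mk' (fun v => ρ (slU b) v - v) fun v w => by rw [map_add]; abel
  have hX : ∀ b v, X b v = ρ (slU b) v - v := fun b v => rfl
  have hXup : ∀ b p, X b (ι (up p)) = 0 := fun b p => by rw [hX, hUup, sub_self]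
  have hXlo : ∀ b p, X b (ι (lo p)) = ι (up (b • p)) := fun b p => by
    rw [hX, hUlo, add_sub_cancel_right]
  have hXcomm : ∀ b c v, X b (X c v) = X c (X b v) := by
    intro b c v
    simp only [hX, map_sub, ← map_mul_apply, ← slU_add]
    rw [add_comm b c]; abel
  have hXX : ∀ b v, X b (X b v) = -(X b v + X b v) := by
    intro b v
    simp only [hX, map_sub, ← map_mul_apply, slU_sq, map_one_apply]
    abel
  have hneg : ∀ z, -(ι z) = ι z := fun z => by
    rw [← map_neg]; congr 1
    exact ext_two (fun i => CharTwo.neg_eq _) (fun i => CharTwo.neg_eq _)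
  have he2 : ∀ z, X 1 (V z) + X 1 (V z) = ι (up (z • q)) := fun z => by
    rw [← map_add, hV, hXlo, one_smul]
  have hG : ∀ z, ∃ y, ι y = X a (X 1 (V z)) := fun z => hN _ (by rw [← map_add, he2, hXup])
  choose g hg using hG
  -- the recursion
  have hstep : ∀ z i, g (a * z) i 0 = a * g z i 0 + (a + a * a) * z * q i := by
    intro z i
    obtain ⟨n, hn⟩ := hN (X a (V z) - X 1 (V (a * z))) (by
      rw [show X a (V z) - X 1 (V (a * z)) + (X a (V z) - X 1 (V (a * z))) =
        (X a (V z) + X a (V z)) - (X 1 (V (a * z)) + X 1 (V (a * z))) by abel,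
        ← map_add, hV, hXlo, he2, smul_smul, sub_self])
    have hsplit : n = up (fun i => n i 0) + lo (fun i => n i 1) :=
      ext_two (fun i => by simp [up, lo]) (fun i => by simp [up, lo])
    have hXn : ∀ b, X b (ι n) = ι (up (b • fun i => n i 1)) := fun b => by
      conv_lhs => rw [hsplit]
      rw [map_add ι, map_add, hXup, hXlo, zero_add]
    have h1 : ι (g z) = ι (up ((a * z) • q)) + ι (up ((1 : F) • fun i => n i 1)) := by
      rw [hg, hXcomm, ← sub_add_cancel (X a (V z)) (X 1 (V (a * z))), ← hn, map_add, hXn, hXX,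
        he2, hneg, add_comm]
    have h2 : ι (g (a * z)) = ι (up (a • (z • q))) - ι (up (a • fun i => n i 1)) := by
      rw [hg, ← hXn, eq_sub_iff_add_eq, ← map_add, hn, add_sub_cancel, hXX, ← map_add, hV, hXlo,
        hneg]
    rw [← map_add] at h1
    rw [← map_sub] at h2
    rw [congrFun (congrFun (hιinj h2) i) 0, congrFun (congrFun (hιinj h1) i) 0]
    simp only [Pi.add_apply, Pi.sub_apply, up, Matrix.cons_val_zero, Pi.smul_apply, smul_eq_mul]
    linear_combination -(a * n i 1 + a * a * z * q i) * (CharTwo.two_eq_zero (R := F))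
  have hiter : ∀ (m : ℕ) (i : Fin k),
      g (a ^ m) i 0 = a ^ m * g 1 i 0 + (m : F) * (1 + a) * a ^ m * q i := by
    intro m i
    induction m with
    | zero => simp
    | succ m ih =>
      rw [pow_succ', hstep, ih, Nat.cast_succ]
      ring
  apply hq
  funext i
  have h := hiter (Fintype.card F - 1) i
  rw [FiniteField.pow_card_sub_one_eq_one a ha0, natCast_card_sub_one, one_mul, one_mul, mul_one,
    left_eq_add] at h
  exact (mul_eq_zero.1 h).resolve_left fun h' => ha1 (CharTwo.add_eq_zero.1 h').symm

/-- An equivariant alternating pairing of sums of natural modules, orthogonal to the elements of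
trace one, vanishes. -/
theorem pairing_eq_zero (h4F : 4 ≤ Fintype.card F) {k m : ℕ}
    (c : (Fin k → Fin 2 → F) →+ (Fin k → Fin 2 → F) →+ (Fin m → Fin 2 → F))
    (heq : ∀ (g : SpecialLinearGroup (Fin 2) F) z w,
      c (fun i => (g : Matrix (Fin 2) (Fin 2) F) *ᵥ z i)
        (fun i => (g : Matrix (Fin 2) (Fin 2) F) *ᵥ w i) =
      fun i => (g : Matrix (Fin 2) (Fin 2) F) *ᵥ c z w i)
    (halt : ∀ z, c z z = 0)
    (htr : ∀ (g : SpecialLinearGroup (Fin 2) F), (g : Matrix (Fin 2) (Fin 2) F).trace = 1 →
      ∀ z, c z (fun i => (g : Matrix (Fin 2) (Fin 2) F) *ᵥ z i) = 0) :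
    ∀ z w, c z w = 0 := by
  classical
  obtain ⟨a₀, ha0, ha1⟩ := exists_ne_zero_one h4F
  let E : AddSubgroup (Matrix (Fin 2) (Fin 2) F) :=
    { carrier := {M | ∀ z, c z (fun i => M *ᵥ z i) = 0}
      add_mem' := fun {M M'} hM hM' z => by
        rw [show (fun i => (M + M') *ᵥ z i) = (fun i => M *ᵥ z i) + fun i => M' *ᵥ z i from
          funext fun i => Matrix.add_mulVec _ _ _, map_add, hM, hM', add_zero]
      zero_mem' := fun z => by simp only [Matrix.zero_mulVec]; exact map_zero _
      neg_mem' := fun {M} hM z => by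
        rw [show (fun i => (-M) *ᵥ z i) = -fun i => M *ᵥ z i from
          funext fun i => Matrix.neg_mulVec _ _, map_neg, hM, neg_zero] }
  have hmem : ∀ M : Matrix (Fin 2) (Fin 2) F, M.trace = 1 → M.det = 1 → M ∈ E := fun M ht hd =>
    htr ⟨M, hd⟩ ht
  have h2 : (2 : F) = 0 := CharTwo.two_eq_zero
  -- scalars plus multiples of the elementary matrices
  have hU : ∀ a x : F, x ≠ 0 → !![a, (a + a * a) / x; 0, a] ∈ E ∧ !![a, 0; (a + a * a) / x, a] ∈ E := by
    intro a x hx
    constructor
    · have := E.add_mem (hmem !![1 + a, (1 + a + a * a) / x; x, a]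
        (by rw [Matrix.trace_fin_two_of]; linear_combination a * h2)
        (by rw [Matrix.det_fin_two_of, div_mul_cancel₀ _ hx]
            linear_combination (-1 : F) * h2))
        (hmem !![1, 1 / x; x, 0] (by rw [Matrix.trace_fin_two_of, add_zero])
          (by rw [Matrix.det_fin_two_of, div_mul_cancel₀ _ hx]; linear_combination (-1 : F) * h2))
      convert this using 1
      ext i j
      fin_cases i <;> fin_cases j <;> simp
      all_goals first
        | linear_combination (-1 : F) * h2
        | linear_combination -x * h2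
        | linear_combination -x⁻¹ * h2
    · have := E.add_mem (hmem !![1 + a, x; (1 + a + a * a) / x, a]
        (by rw [Matrix.trace_fin_two_of]; linear_combination a * h2)
        (by rw [Matrix.det_fin_two_of, mul_div_cancel₀ _ hx]
            linear_combination (-1 : F) * h2))
        (hmem !![1, x; 1 / x, 0] (by rw [Matrix.trace_fin_two_of, add_zero])
          (by rw [Matrix.det_fin_two_of, mul_div_cancel₀ _ hx]; linear_combination (-1 : F) * h2))
      convert this using 1
      ext i j
      fin_cases i <;> fin_cases j <;> simp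
      all_goals first
        | linear_combination (-1 : F) * h2
        | linear_combination -x * h2
        | linear_combination -x⁻¹ * h2
  have he0 : a₀ + a₀ * a₀ ≠ 0 := by
    rw [show a₀ + a₀ * a₀ = a₀ * (1 + a₀) by ring]
    exact mul_ne_zero ha0 fun h => ha1 (CharTwo.add_eq_zero.1 h).symm
  have hE : ∀ y : F, !![0, y; 0, 0] ∈ E ∧ !![0, 0; y, 0] ∈ E := by
    set e := a₀ + a₀ * a₀ with he
    have hgen : ∀ y : F, y ≠ e → !![0, y; 0, 0] ∈ E ∧ !![0, 0; y, 0] ∈ E := by
      intro y hy
      have hx' : e + y ≠ 0 := fun h => hy (CharTwo.add_eq_zero.1 h).symm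
      obtain ⟨p1, p2⟩ := hU a₀ (e / (e + y)) (div_ne_zero he0 hx')
      obtain ⟨q1, q2⟩ := hU a₀ 1 one_ne_zero
      have hval : e / (e / (e + y)) + e / 1 = y := by
        field_simp
        linear_combination e * h2
      constructor
      · convert E.add_mem p1 q1 using 1
        ext i j
        fin_cases i <;> fin_cases j <;> simp [CharTwo.add_self_eq_zero]
        rw [← he] at *
        linear_combination -hval
      · convert E.add_mem p2 q2 using 1
        ext i j
        fin_cases i <;> fin_cases j <;> simp [CharTwo.add_self_eq_zero]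
        rw [← he] at *
        linear_combination -hval
    intro y
    rcases eq_or_ne y e with rfl | hy
    · have hy2 : a₀ * e ≠ e := fun h => ha1 (mul_right_cancel₀ he0 (h.trans (one_mul e).symm))
      have h1 := hgen _ hy2
      have h1' := hgen (e + a₀ * e) fun h => mul_ne_zero ha0 he0 (add_eq_left.1 h)
      constructor
      · convert E.add_mem h1.1 h1'.1 using 1
        ext i j
        fin_cases i <;> fin_cases j <;> simp
        linear_combination -(a₀ * e) * h2
      · convert E.add_mem h1.2 h1'.2 using 1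
        ext i j
        fin_cases i <;> fin_cases j <;> simp
        linear_combination -(a₀ * e) * h2
    · exact hgen y hy
  have hscal : ∀ a : F, !![a, 0; 0, a] ∈ E := by
    intro a
    have h := E.add_mem (hU a 1 one_ne_zero).1 (hE ((a + a * a) / 1)).1
    convert h using 1
    ext i j
    fin_cases i <;> fin_cases j <;> simp [CharTwo.add_self_eq_zero]
  have hswap : ∀ z w, c z w = c w z := by
    intro z w
    have h := halt (z + w)
    simp only [map_add, AddMonoidHom.add_apply, halt, zero_add, add_zero] at h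
    funext i j
    exact (CharTwo.add_eq_zero.1 (congrFun (congrFun h i) j)).symm
  have hupup : ∀ p p', c (up p) (up p') = 0 := by
    intro p p'
    have e1 : ∀ z : Fin k → Fin 2 → F, (fun i => !![0, 1; 0, 0] *ᵥ z i) = up fun i => z i 1 :=
      fun z => ext_two (fun i => by simp [up, Matrix.mulVec, dotProduct, Fin.sum_univ_two])
        (fun i => by simp [up, Matrix.mulVec, dotProduct, Fin.sum_univ_two])
    have h1 := (hE 1).1 (up p + lo p')
    have h2' := (hE 1).1 (lo p')
    rw [e1] at h1 h2'
    rw [show (fun i => (up p + lo p') i 1) = p' from funext fun i => by simp [up, lo], map_add,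
      AddMonoidHom.add_apply] at h1
    rw [show (fun i => lo p' i 1) = p' from funext fun i => by simp [lo]] at h2'
    rwa [h2', add_zero] at h1
  have hlolo : ∀ p p', c (lo p) (lo p') = 0 := by
    intro p p'
    have e1 : ∀ z : Fin k → Fin 2 → F, (fun i => !![0, 0; 1, 0] *ᵥ z i) = lo fun i => z i 0 :=
      fun z => ext_two (fun i => by simp [lo, Matrix.mulVec, dotProduct, Fin.sum_univ_two])
        (fun i => by simp [lo, Matrix.mulVec, dotProduct, Fin.sum_univ_two])
    have h1 := (hE 1).2 (lo p + up p')
    have h2' := (hE 1).2 (up p')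
    rw [e1] at h1 h2'
    rw [show (fun i => (lo p + up p') i 0) = p' from funext fun i => by simp [up, lo], map_add,
      AddMonoidHom.add_apply] at h1
    rw [show (fun i => up p' i 0) = p' from funext fun i => by simp [up]] at h2'
    rwa [h2', add_zero] at h1
  have hsc : ∀ (a : F) z w, c (a • z) w = c z (a • w) := by
    intro a z w
    have e1 : ∀ z : Fin k → Fin 2 → F, (fun i => !![a, 0; 0, a] *ᵥ z i) = a • z :=
      fun z => ext_two (fun i => by simp [Matrix.mulVec, dotProduct, Fin.sum_univ_two])
        (fun i => by simp [Matrix.mulVec, dotProduct, Fin.sum_univ_two])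
    have h := hscal a (z + w)
    have hz := hscal a z
    have hw := hscal a w
    rw [e1] at h hz hw
    simp only [smul_add, map_add, AddMonoidHom.add_apply, hz, hw, zero_add, add_zero] at h
    rw [hswap (a • z)]
    funext i j
    exact CharTwo.add_eq_zero.1 (congrFun (congrFun h i) j)
  have huplo : ∀ p r, c (up p) (lo r) = 0 := by
    intro p r
    let D : SpecialLinearGroup (Fin 2) F := ⟨!![a₀, 0; 0, a₀⁻¹], by
      rw [Matrix.det_fin_two_of, mul_inv_cancel₀ ha0, mul_zero, sub_zero]⟩
    have eup : (fun i => (D : Matrix (Fin 2) (Fin 2) F) *ᵥ up p i) = a₀ • up p :=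
      ext_two (fun i => by simp [D, up, Matrix.mulVec, dotProduct, Fin.sum_univ_two])
        (fun i => by simp [D, up, Matrix.mulVec, dotProduct, Fin.sum_univ_two])
    have elo : (fun i => (D : Matrix (Fin 2) (Fin 2) F) *ᵥ lo r i) = a₀⁻¹ • lo r :=
      ext_two (fun i => by simp [D, lo, Matrix.mulVec, dotProduct, Fin.sum_univ_two])
        (fun i => by simp [D, lo, Matrix.mulVec, dotProduct, Fin.sum_univ_two])
    have h := heq D (up p) (lo r)
    rw [eup, elo, hsc, smul_smul, mul_inv_cancel₀ ha0, one_smul] at h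
    refine ext_two (fun i => ?_) (fun i => ?_)
    · have h0 := congrFun (congrFun h i) 0
      simp only [D, Matrix.mulVec, dotProduct, Fin.sum_univ_two, Matrix.cons_val_zero,
        Matrix.cons_val_one, Matrix.of_apply, Matrix.cons_val', Matrix.empty_val',
        Matrix.cons_val_fin_one, zero_mul, add_zero] at h0
      by_contra hne
      exact ha1 (mul_right_cancel₀ hne (h0.symm.trans (one_mul _).symm))
    · have h0 := congrFun (congrFun h i) 1
      simp only [D, Matrix.mulVec, dotProduct, Fin.sum_univ_two, Matrix.cons_val_zero,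
        Matrix.cons_val_one, Matrix.of_apply, Matrix.cons_val', Matrix.empty_val',
        Matrix.cons_val_fin_one, zero_mul, zero_add] at h0
      by_contra hne
      exact ha1 (inv_eq_one.1 (mul_right_cancel₀ hne (h0.symm.trans (one_mul _).symm)))
  intro z w
  have hs : ∀ z : Fin k → Fin 2 → F, z = up (fun i => z i 0) + lo (fun i => z i 1) := fun z =>
    ext_two (fun i => by simp [up, lo]) (fun i => by simp [up, lo])
  rw [hs z, hs w]
  simp only [map_add, AddMonoidHom.add_apply, hupup, hlolo, huplo]
  rw [hswap, huplo]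
  simp

end CfsgLib.Case.SL2Fpf
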