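import Cfsg.Agent.Lib.RootSub.SL2Model
import Cfsg.Agent.Lib.LocalEven.SL2Natural
import Mathlib.RingTheory.IntegralDomain
import Mathlib.FieldTheory.Finite.Basic
import Mathlib.Algebra.CharP.Two
import Mathlib.LinearAlgebra.Dimension.Free

/-!
Modules for `SL₂(F)`, `F` of characteristic two with at least four elements, on which the elements
of trace one satisfy `g² + g + 1 = 0`: such a module of exponent two is a sum of natural modules.
-/

set_option autoImplicit false
set_option linter.unusedSectionVars false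

namespace CfsgLib.Case.SL2Fpf

open Matrix CfsgLib.RootSub CfsgLib.LocalEven.SL2Natural

/-- The operators `A a = (u_a - 1)` and `B a` (upper right block of `u_a`) on the fixed points of
`u_1`, with the relations coming from the torus and from the elements of order three. -/
structure Data (F W : Type*) [Field F] [AddCommGroup W] where
  A : F → W →+ W
  B : F → W →+ W
  two : ∀ w : W, w + w = 0
  A0 : ∀ w, A 0 w = 0
  A1 : ∀ w, A 1 w = 0
  B0 : ∀ w, B 0 w = 0
  B1 : ∀ w, B 1 w = w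
  A_add : ∀ a b w, A (a + b) w = A a w + A b w + A a (A b w)
  A_comm : ∀ a b w, A a (A b w) = A b (A a w)
  A_sq : ∀ a w, A a (A a w) = 0
  B_add : ∀ a b w, B (a + b) w = B a w + B b w + A a (B b w) + B a (A b w)
  comm : ∀ a b w, A a (B b w) + B a (A b w) = A b (B a w) + B b (A a w)
  inv : ∀ s w, s ≠ 0 → B s (B s⁻¹ w) = w
  commInv : ∀ s w, s ≠ 0 → A s⁻¹ (B s w) = B s (A s⁻¹ w)
  id11 : ∀ s a w, s ≠ 0 →
    B s (A a w) = A (s * s * a) (B s w) + B (s * s * a) (A s w + A s⁻¹ w)
  id12 : ∀ s a w, s ≠ 0 → B s (B a w) + (A s (A a w) + A s⁻¹ (A a w)) =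
    A (s * s * a) (A s w + A s⁻¹ w) + B (s * s * a) (B s⁻¹ w)
  id22 : ∀ s a w, s ≠ 0 →
    A s (B a w) + A s⁻¹ (B a w) + B s⁻¹ (A a w) = A (s * s * a) (B s⁻¹ w)

namespace Data

variable {F W : Type*} [Field F] [Fintype F] [CharP F 2] [AddCommGroup W] (D : Data F W)
include D

theorem eq_of_add {x y : W} (h : x + y = 0) : x = y := by
  rw [add_eq_zero_iff_eq_neg] at h
  rw [h, eq_comm, ← add_eq_zero_iff_eq_neg]
  exact D.two y

theorem add_eq {x y z : W} (h : x + y = z) : x = z + y := by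
  rw [← h, add_assoc, D.two, add_zero]

theorem zero_of_self {x y : W} (h : x + y = x) : y = 0 := add_eq_left.1 h

/-- The fixed points of the root group. -/
def fix : AddSubgroup W where
  carrier := {w | ∀ a, D.A a w = 0}
  add_mem' hx hy a := by rw [map_add, hx a, hy a, add_zero]
  zero_mem' a := map_zero _
  neg_mem' hx a := by rw [map_neg, hx a, neg_zero]

/-- The second term of the ascending series of fixed points. -/
def fix2 : AddSubgroup W where
  carrier := {w | ∀ a b, D.A b (D.A a w) = 0}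
  add_mem' hx hy a b := by rw [map_add, map_add, hx a b, hy a b, add_zero]
  zero_mem' a b := by rw [map_zero, map_zero]
  neg_mem' hx a b := by rw [map_neg, map_neg, hx a b, neg_zero]

theorem A_mem {w : W} (hw : w ∈ D.fix2) (a : F) : D.A a w ∈ D.fix := fun b => hw a b

theorem fix_le {w : W} (hw : w ∈ D.fix) : w ∈ D.fix2 := fun a b => by rw [hw a, map_zero]

theorem A_add' {w : W} (hw : w ∈ D.fix2) (a b : F) : D.A (a + b) w = D.A a w + D.A b w := by
  rw [D.A_add, hw b a, add_zero]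

theorem B_mem_fix {w : W} (hw : w ∈ D.fix) (s : F) : D.B s w ∈ D.fix := by
  rcases eq_or_ne s 0 with rfl | hs
  · rw [D.B0]; exact zero_mem _
  intro b
  have h := D.id11 s (b * (s * s)⁻¹) w hs
  rw [hw, map_zero, hw s, hw s⁻¹, add_zero, map_zero, add_zero] at h
  rw [show s * s * (b * (s * s)⁻¹) = b by field_simp] at h
  exact h.symm

theorem B_mem_fix2 {w : W} (hw : w ∈ D.fix2) (s : F) : D.B s w ∈ D.fix2 := by
  rcases eq_or_ne s 0 with rfl | hs
  · rw [D.B0]; exact zero_mem _
  intro b c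
  have h := D.id11 s (b * (s * s)⁻¹) w hs
  rw [show s * s * (b * (s * s)⁻¹) = b by field_simp] at h
  have h1 : D.A b (D.B s w) ∈ D.fix := by
    rw [D.add_eq h.symm]
    exact add_mem (D.B_mem_fix (D.A_mem hw _) _)
      (D.B_mem_fix (add_mem (D.A_mem hw _) (D.A_mem hw _)) _)
  exact h1 c

theorem exists_sq (b : F) : ∃ s : F, s * s = b :=
  ⟨(frobeniusEquiv F 2).symm b, by
    have h := frobeniusEquiv_symm_pow_p F 2 b
    rwa [pow_two] at h⟩

theorem B_sq_mul {w : W} (hw : w ∈ D.fix2) {s : F} (hs : s ≠ 0) (a : F) :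
    D.B (s * s * a) w = D.B s (D.B a (D.B s w)) := by
  have hv := D.B_mem_fix2 hw s
  have h := D.id12 s a (D.B s w) hs
  rw [hv a s, hv a s⁻¹, add_zero, add_zero, map_add, hv s, hv s⁻¹, add_zero, zero_add] at h
  rw [h]
  have h2 := D.inv s⁻¹ w (inv_ne_zero hs)
  rw [inv_inv] at h2
  rw [h2]

theorem B_pow {w : W} {g : F} (hg : g ≠ 0) :
    ∀ k, w ∈ D.fix2 → D.B (g ^ k) w = ((fun x => D.B g x)^[k]) w := by
  intro k
  induction k using Nat.twoStepInduction generalizing w with
  | zero => intro _; rw [pow_zero, D.B1]; rfl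
  | one => intro _; rw [pow_one]; rfl
  | more k ih _ =>
    intro hw
    rw [show g ^ (k + 2) = g * g * g ^ k by ring, D.B_sq_mul hw hg, ih (D.B_mem_fix2 hw g),
      ← Function.iterate_succ_apply, ← Function.iterate_succ_apply' (f := fun x => D.B g x)]

theorem B_mul {w : W} (hw : w ∈ D.fix2) (a b : F) : D.B (a * b) w = D.B a (D.B b w) := by
  classical
  rcases eq_or_ne a 0 with rfl | ha
  · rw [zero_mul, D.B0, D.B0]
  rcases eq_or_ne b 0 with rfl | hb
  · rw [mul_zero, D.B0, map_zero]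
  obtain ⟨g, hg⟩ := IsCyclic.exists_generator (α := Fˣ)
  obtain ⟨i, hi⟩ := mem_powers_iff_mem_zpowers.2 (hg (Units.mk0 a ha))
  obtain ⟨j, hj⟩ := mem_powers_iff_mem_zpowers.2 (hg (Units.mk0 b hb))
  have hi' : (g : F) ^ i = a := by simpa using congrArg (Units.val) hi
  have hj' : (g : F) ^ j = b := by simpa using congrArg (Units.val) hj
  rw [← hi', ← hj', ← pow_add, D.B_pow g.ne_zero _ hw, D.B_pow g.ne_zero j hw,
    Function.iterate_add_apply, ← D.B_pow g.ne_zero j hw,
    ← D.B_pow g.ne_zero i (D.B_mem_fix2 hw _)]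

theorem B_comm {w : W} (hw : w ∈ D.fix2) (a b : F) : D.B a (D.B b w) = D.B b (D.B a w) := by
  rw [← D.B_mul hw, mul_comm, D.B_mul hw]

theorem B_add' {w : W} (hw : w ∈ D.fix) (a b : F) : D.B (a + b) w = D.B a w + D.B b w := by
  rw [D.B_add, D.B_mem_fix hw b a, hw b, map_zero, add_zero, add_zero]

/-- The root group fixes every element. -/
theorem A_eq_zero [Finite W] (a : F) (v : W) : D.A a v = 0 := by
  classical
  suffices hall : ∀ w, w ∈ D.fix from hall v a
  by_contra hcon
  push Not at hcon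
  obtain ⟨w, hwM, hmax⟩ : ∃ w, w ∉ D.fix ∧ ∀ w', w' ∉ D.fix →
      (Finset.univ.filter fun b => D.A b w' = 0).card ≤
        (Finset.univ.filter fun b => D.A b w = 0).card := by
    obtain ⟨w, hw, h⟩ := Set.exists_max_image {w | w ∉ D.fix}
      (fun w' => (Finset.univ.filter fun b => D.A b w' = 0).card) (Set.toFinite _) hcon
    exact ⟨w, hw, h⟩
  have hw : w ∈ D.fix2 := by
    intro a b
    by_contra hab
    have hne : D.A a w ∉ D.fix := fun h => hab (h b)
    have hsub : (Finset.univ.filter fun b => D.A b w = 0) ⊂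
        (Finset.univ.filter fun b => D.A b (D.A a w) = 0) := by
      refine (Finset.ssubset_iff_of_subset fun c hc => ?_).2 ⟨a, ?_, ?_⟩
      · simp only [Finset.mem_filter, Finset.mem_univ, true_and] at hc ⊢
        rw [D.A_comm, hc, map_zero]
      · simp [D.A_sq]
      · simp only [Finset.mem_filter, Finset.mem_univ, true_and]
        intro h0
        exact hne (h0 ▸ zero_mem _)
    exact absurd (hmax _ hne) (not_le.2 (Finset.card_lt_card hsub))
  clear hmax a v
  refine hwM fun c => ?_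
  -- the commutator of `A` and `B` on `w`
  set Φ := fun a b => fun u : W => D.A b (D.B a u) + D.B a (D.A b u) with hΦ
  have hsym : ∀ a b u, Φ a b u = Φ b a u := by
    intro a b u
    refine D.eq_of_add ?_
    calc Φ a b u + Φ b a u = (D.A b (D.B a u) + D.B b (D.A a u)) +
          (D.A a (D.B b u) + D.B a (D.A b u)) := by simp only [hΦ]; abel
      _ = 0 := by rw [D.comm b a u, D.two]
  have hΦmem : ∀ a b u, u ∈ D.fix2 → Φ a b u ∈ D.fix := fun a b u hu =>
    add_mem (D.A_mem (D.B_mem_fix2 hu a) b) (D.B_mem_fix (D.A_mem hu b) a)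
  have hCB : ∀ s u, s ≠ 0 → D.A s (D.B s u) + D.A s⁻¹ (D.B s u) = D.A (s * s) u := by
    intro s u hs
    have h := D.id22 s 1 (D.B s u) hs
    rw [D.B1, D.A1, map_zero, add_zero, mul_one] at h
    rw [h]
    have h2 := D.inv s⁻¹ u (inv_ne_zero hs)
    rw [inv_inv] at h2
    rw [h2]
  have hself : ∀ s u, D.A s (D.B s u) = D.B s (D.A s u) := by
    intro s u
    have h := D.B_add s s u
    rw [CharTwo.add_self_eq_zero, D.B0, D.two, zero_add] at h
    exact D.eq_of_add h.symm
  have hC : ∀ s u, s ≠ 0 → u ∈ D.fix2 → D.A s u + D.A s⁻¹ u = D.B s⁻¹ (D.A (s * s) u) := by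
    intro s u hs hu
    rw [← hCB s u hs, hself, D.commInv s u hs, ← map_add]
    have h := D.B_mul (D.fix_le (add_mem (D.A_mem hu s) (D.A_mem hu s⁻¹))) s⁻¹ s
    rw [inv_mul_cancel₀ hs, D.B1] at h
    exact h
  -- `(*)`
  have hstar : ∀ s a u, s ≠ 0 → u ∈ D.fix2 → D.A (s * s * a) u =
      D.B s⁻¹ (D.A a (D.B s u)) + D.A (s * s) (D.B a u) := by
    intro s a u hs hu
    have h := D.id22 s a (D.B s u) hs
    rw [D.B_comm hu a s, hCB s _ hs] at h
    have h2 := D.inv s⁻¹ u (inv_ne_zero hs)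
    rw [inv_inv] at h2
    rw [h2] at h
    rw [← h, add_comm]
  -- `(**)`
  have hstar2 : ∀ s a u, s ≠ 0 → u ∈ D.fix2 → D.A (s * s * a) u =
      D.B s (D.A a (D.B s⁻¹ u)) + D.B a (D.A (s * s) u) := by
    intro s a u hs hu
    have h := D.id11 s a (D.B s⁻¹ u) hs
    rw [D.inv s u hs] at h
    have hv := D.B_mem_fix2 hu s⁻¹
    have e1 : D.A s (D.B s⁻¹ u) + D.A s⁻¹ (D.B s⁻¹ u) = D.B s⁻¹ (D.B s⁻¹ (D.A (s * s) u)) := by
      rw [hC s _ hs hv]
      congr 1
      have h3 := hCB s (D.B s⁻¹ u) hs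
      rw [D.inv s u hs, hC s u hs hu] at h3
      exact h3.symm
    rw [e1, ← D.B_mul (D.fix_le (D.A_mem hu _)), ← D.B_mul (D.fix_le (D.A_mem hu _))] at h
    rw [show s * s * a * (s⁻¹ * s⁻¹) = a by field_simp] at h
    exact (D.add_eq h.symm)
  have hkey : ∀ a b u, u ∈ D.fix2 → b ≠ 0 → D.B b (Φ a b (D.B b u)) = Φ a b u := by
    intro a b u hu hb
    obtain ⟨s, rfl⟩ := D.exists_sq b
    have hs : s ≠ 0 := left_ne_zero_of_mul hb
    have hform : ∀ u, u ∈ D.fix2 → Φ a (s * s) u =
        D.B s⁻¹ (D.A a (D.B s u)) + D.B s (D.A a (D.B s⁻¹ u)) := by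
      intro u hu
      have e := (hstar s a u hs hu).symm.trans (hstar2 s a u hs hu)
      show D.A (s * s) (D.B a u) + D.B a (D.A (s * s) u) = _
      rw [D.add_eq (add_comm _ _ |>.trans e)]
      abel_nf
      simp [two_zsmul, D.two]
    have hone : ∀ u, u ∈ D.fix2 → D.B s (Φ a (s * s) (D.B s u)) = Φ a (s * s) u := by
      intro u hu
      rw [hform _ (D.B_mem_fix2 hu s), map_add]
      have h2 := D.inv s⁻¹ u (inv_ne_zero hs)
      rw [inv_inv] at h2
      rw [h2, ← D.B_mul hu s s, ← D.B_mul (D.fix_le (D.A_mem hu a)) s s, D.inv s _ hs]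
      exact hsym (s * s) a u
    have hm := hΦmem a (s * s) _ (D.B_mem_fix2 (D.B_mem_fix2 hu s) s)
    rw [D.B_mul hu s s, D.B_mul (D.fix_le hm) s s, hone _ (D.B_mem_fix2 hu s), hone u hu]
  have hzero : ∀ b, b ≠ 0 → ∀ m ∈ D.fix, D.B b m = 0 → m = 0 := by
    intro b hb m hm h
    have := D.B_mul (D.fix_le hm) b⁻¹ b
    rwa [inv_mul_cancel₀ hb, D.B1, h, map_zero] at this
  have hplus : ∀ a b u, u ∈ D.fix2 → Φ a (b + 1) u = Φ a b u := by
    intro a b u hu
    simp only [hΦ]
    rw [D.A_add' (D.B_mem_fix2 hu a), D.A_add' hu, D.A1, D.A1, add_zero, add_zero]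
  have hdiag : ∀ a u, Φ a a u = 0 := fun a u => by
    show D.A a (D.B a u) + D.B a (D.A a u) = 0
    rw [hself, D.two]
  have hroot : ∀ a b, Φ a b w = 0 ∨ b * b + b + 1 = 0 := by
    intro a b
    by_cases hb : b = 0 ∨ b = 1
    · left
      rcases hb with rfl | rfl <;> simp only [hΦ, D.A0, D.A1, map_zero, add_zero]
    push Not at hb
    have hm := hΦmem a b w hw
    have hb1 : b + 1 ≠ 0 := fun h => hb.2 (CharTwo.add_eq_zero.1 h)
    have e1 : Φ a b (D.B b w) = D.B b⁻¹ (Φ a b w) := by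
      conv_rhs => rw [← hkey a b w hw hb.1]
      rw [← D.B_mul (D.fix_le (hΦmem a b _ (D.B_mem_fix2 hw b))), inv_mul_cancel₀ hb.1, D.B1]
    have e2 : Φ a b (D.B (b + 1) w) = D.B (b + 1)⁻¹ (Φ a b w) := by
      have h := hkey a (b + 1) w hw hb1
      rw [hplus a b w hw, hplus a b _ (D.B_mem_fix2 hw _)] at h
      conv_rhs => rw [← h]
      rw [← D.B_mul (D.fix_le (hΦmem a b _ (D.B_mem_fix2 hw _))), inv_mul_cancel₀ hb1, D.B1]
    have e3 : Φ a b (D.B (b + 1) w) = Φ a b (D.B b w) + Φ a b w := by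
      have hmem : D.B (b + 1) w + (D.B b w + w) ∈ D.fix := by
        have e : D.B (b + 1) w + (D.B b w + w) = D.A b w := by
          rw [D.B_add, D.B1, D.A1, map_zero]
          abel_nf
          simp [two_zsmul, D.two]
        rw [e]; exact D.A_mem hw b
      have hk : Φ a b (D.B (b + 1) w + (D.B b w + w)) = 0 := by
        simp only [hΦ]
        rw [D.B_mem_fix hmem a b, hmem b, map_zero, add_zero]
      have hlin : ∀ x y, Φ a b (x + y) = Φ a b x + Φ a b y := fun x y => by
        simp only [hΦ, map_add]; abel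
      rw [hlin, hlin] at hk
      exact D.eq_of_add hk
    rw [e1, e2] at e3
    have e4 : D.B ((b + 1)⁻¹ + b⁻¹ + 1) (Φ a b w) = 0 := by
      rw [D.B_add' hm, D.B_add' hm, D.B1, e3]
      abel_nf
      simp [two_zsmul, D.two]
    by_cases hr : (b + 1)⁻¹ + b⁻¹ + 1 = 0
    · right
      have h := congrArg (fun x => b * (b + 1) * x) hr
      simp only [mul_add, mul_one, mul_zero] at h
      rw [show b * b + b = b * (b + 1) by ring] at h
      have e : b * (b + 1) * (b + 1)⁻¹ = b := mul_inv_cancel_right₀ hb1 b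
      have e' : b * (b + 1) * b⁻¹ = b + 1 := by
        rw [mul_comm b (b + 1), mul_inv_cancel_right₀ hb.1]
      rw [e, e'] at h
      linear_combination h - b * (CharTwo.two_eq_zero (R := F))
    · exact Or.inl (hzero _ hr _ hm e4)
  have hΦ0 : ∀ a b, Φ a b w = 0 := by
    intro a b
    rcases hroot a b with h | hrb
    · exact h
    rcases hroot b a with h | hra
    · rwa [hsym]
    have hprod : (a + b) * (a + b + 1) = 0 := by
      linear_combination hra + hrb + (a * b - 1) * (CharTwo.two_eq_zero (R := F))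
    rcases mul_eq_zero.1 hprod with h | h
    · rw [CharTwo.add_eq_zero.1 h]; exact hdiag b w
    · have hab : a + 1 = b := by
        linear_combination h - b * (CharTwo.two_eq_zero (R := F))
      rw [← hab, hplus a a w hw]
      exact hdiag a w
  have hAB : ∀ a b, D.A b (D.B a w) = D.B a (D.A b w) := fun a b => D.eq_of_add (hΦ0 a b)
  have hmul : ∀ a b, b ≠ 0 → D.A (b * a) w = D.A a w + D.B a (D.A b w) := by
    intro a b hb
    obtain ⟨s, rfl⟩ := D.exists_sq b
    have hs : s ≠ 0 := left_ne_zero_of_mul hb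
    rw [hstar s a w hs hw, hAB s a, hAB a (s * s),
      ← D.B_mul (D.fix_le (D.A_mem hw a)), inv_mul_cancel₀ hs, D.B1]
  by_cases hc : c = 0 ∨ c = 1
  · rcases hc with rfl | rfl
    · exact D.A0 w
    · exact D.A1 w
  push Not at hc
  have hc1 : c + 1 ≠ 0 := fun h => hc.2 (CharTwo.add_eq_zero.1 h)
  have h1 := hmul (c + 1) c hc.1
  have h2 := hmul c (c + 1) hc1
  have e : D.A (c + 1) w = D.A c w := by rw [D.A_add' hw, D.A1, add_zero]
  rw [mul_comm, h2, e, D.B_add' (D.A_mem hw c), D.B1, ← add_assoc] at h1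
  exact D.zero_of_self h1.symm

end Data

end CfsgLib.Case.SL2Fpf
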