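import Cfsg.Agent.Lib.Case.SL2FpfModule

/-!
Modules of exponent two for `SL₂(F)` in characteristic two on which the elements of trace one satisfy
`g² + g + 1 = 0` are sums of natural modules; no such module has exponent four; equivariant
alternating pairings between such modules vanish.
-/

set_option autoImplicit false
set_option linter.unusedSectionVars false

namespace CfsgLib.Case.SL2Fpf

open Matrix CfsgLib.RootSub CfsgLib.LocalEven.SL2Natural

variable {F : Type*} [Field F] [Fintype F] [CharP F 2]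

section Identities

theorem slU_sq (a : F) : slU a * slU a = 1 := by
  rw [← slU_add, CharTwo.add_self_eq_zero, slU_zero]

theorem slL_sq (a : F) : slL a * slL a = 1 := by
  rw [← slL_add, CharTwo.add_self_eq_zero, slL_zero]

theorem slW_eq (t : F) : slW t = slU t * slL t⁻¹ * slU t := by
  rw [slW, CharTwo.neg_eq]

theorem slL_eq (a : F) : slW 1 * slU a * slW 1 = slL a := by
  apply Subtype.ext
  simp [slU_val, slL_val, slW_val (one_ne_zero : (1 : F) ≠ 0), Matrix.mul_fin_two,
    CharTwo.neg_eq]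

theorem slLU_sq {s : F} (hs : s ≠ 0) :
    slL s⁻¹ * slU s * (slL s⁻¹ * slU s) = slU s * slL s⁻¹ := by
  apply Subtype.ext
  simp [slU_val, slL_val, Matrix.mul_fin_two, hs, CharTwo.add_self_eq_zero]

theorem trace_slLU {s : F} (hs : s ≠ 0) :
    ((slL s⁻¹ * slU s : SpecialLinearGroup (Fin 2) F) : Matrix (Fin 2) (Fin 2) F).trace = 1 := by
  show ((slL s⁻¹).1 * (slU s).1).trace = 1
  rw [slL_val, slU_val, Matrix.mul_fin_two, Matrix.trace_fin_two]
  simp [hs, CharTwo.add_self_eq_zero]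

theorem slW_mul_slU {s : F} (hs : s ≠ 0) (a : F) :
    slW s * slW 1 * slU a = slU (s * s * a) * (slW s * slW 1) := by
  apply Subtype.ext
  simp [slU_val, slW_val hs, slW_val (one_ne_zero : (1 : F) ≠ 0), Matrix.mul_fin_two,
    CharTwo.neg_eq]
  field_simp

end Identities

variable {A : Type*} [AddCommGroup A]

section Exp2

variable (ρ : SpecialLinearGroup (Fin 2) F →* AddMonoid.End A) (h2 : ∀ v : A, v + v = 0)
  (h3 : ∀ g : SpecialLinearGroup (Fin 2) F, (g : Matrix (Fin 2) (Fin 2) F).trace = 1 →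
    ∀ v, v + ρ g v + ρ g (ρ g v) = 0)

include h2 in
theorem add_cancel_self (a b : A) : a + b + b = a := by rw [add_assoc, h2, add_zero]

include h2 in
theorem eq_of_add_zero {a b : A} (h : a + b = 0) : a = b := by
  rw [← zero_add b, ← h, add_cancel_self h2]

include h3 in
theorem rel {s : F} (hs : s ≠ 0) (v : A) :
    v + ρ (slL s⁻¹) (ρ (slU s) v) + ρ (slU s) (ρ (slL s⁻¹) v) = 0 := by
  have h := h3 _ (trace_slLU hs) v
  rw [← map_mul_apply ρ (slL s⁻¹ * slU s), slLU_sq hs, map_mul_apply, map_mul_apply] at h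
  exact h

/-- The fixed points of `u_1`. -/
def W0 : AddSubgroup A where
  carrier := {v | ρ (slU 1) v = v}
  add_mem' {a b} ha hb := by simp only [Set.mem_setOf_eq] at *; rw [map_add, ha, hb]
  zero_mem' := map_zero _
  neg_mem' {a} ha := by simp only [Set.mem_setOf_eq] at *; rw [map_neg, ha]

theorem coe_fixed (e : W0 ρ) : ρ (slU (1 : F)) e = e := e.2

theorem slU_mem (a : F) (e : W0 ρ) : ρ (slU a) (e : A) ∈ W0 ρ := by
  show ρ (slU (1 : F)) (ρ (slU a) e) = ρ (slU a) e
  rw [← map_mul_apply, ← slU_add, add_comm, slU_add, map_mul_apply, coe_fixed]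

/-- `X = u_1 - 1`. -/
def Xop : A →+ W0 ρ where
  toFun v := ⟨ρ (slU 1) v + v, by
    show ρ (slU (1 : F)) (ρ (slU 1) v + v) = _
    rw [map_add, ← map_mul_apply, slU_sq, map_one_apply, add_comm]⟩
  map_zero' := Subtype.ext (by simp)
  map_add' a b := Subtype.ext (by simp [add_add_add_comm])

/-- `Y = l_1 - 1`, from the fixed points of `u_1`. -/
def Yop : W0 ρ →+ A where
  toFun e := ρ (slL 1) e + e
  map_zero' := by simp
  map_add' a b := by simp [add_add_add_comm]

/-- The coordinates of an element. -/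
def mk (e f : W0 ρ) : A := e + Yop ρ f

theorem mk_add (e f e' f' : W0 ρ) : mk ρ e f + mk ρ e' f' = mk ρ (e + e') (f + f') := by
  simp only [mk, map_add, AddSubgroup.coe_add]
  abel

include h2 h3 in
theorem Xop_Yop (e : W0 ρ) : Xop ρ (Yop ρ e) = e := by
  refine Subtype.ext ?_
  show ρ (slU (1 : F)) (ρ (slL 1) e + e) + (ρ (slL 1) e + e) = e
  have h := rel ρ h3 (one_ne_zero : (1 : F) ≠ 0) (e : A)
  rw [inv_one, coe_fixed] at h
  rw [map_add, coe_fixed]
  have h' := eq_of_add_zero h2 h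
  rw [← h']
  calc (e : A) + ρ (slL 1) e + (e : A) + (ρ (slL 1) e + e)
      = ((e : A) + e) + (ρ (slL 1) e + ρ (slL 1) e) + e := by abel
    _ = e := by rw [h2, h2, zero_add, zero_add]

theorem Xop_coe (h2 : ∀ v : A, v + v = 0) (e : W0 ρ) : Xop ρ (e : A) = 0 :=
  Subtype.ext (by show ρ (slU (1 : F)) e + e = 0; rw [coe_fixed, h2])

include h2 h3 in
theorem mk_inj {e f e' f' : W0 ρ} (h : mk ρ e f = mk ρ e' f') : e = e' ∧ f = f' := by
  have h1 := congrArg (Xop ρ) h
  simp only [mk, map_add, Xop_coe ρ h2, Xop_Yop ρ h2 h3, zero_add] at h1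
  subst h1
  exact ⟨Subtype.ext (add_right_cancel h), rfl⟩

include h2 h3 in
theorem exists_mk (v : A) : ∃ e f, mk ρ e f = v := by
  refine ⟨Xop ρ (ρ (slL 1) v + v), Xop ρ v, ?_⟩
  show ρ (slU (1 : F)) (ρ (slL 1) v + v) + (ρ (slL 1) v + v) +
    (ρ (slL (1 : F)) (ρ (slU 1) v + v) + (ρ (slU 1) v + v)) = v
  have h := rel ρ h3 (one_ne_zero : (1 : F) ≠ 0) v
  rw [inv_one] at h
  rw [map_add, map_add]
  calc ρ (slU 1) (ρ (slL 1) v) + ρ (slU 1) v + (ρ (slL 1) v + v) +
        (ρ (slL 1) (ρ (slU 1) v) + ρ (slL 1) v + (ρ (slU 1) v + v))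
      = (v + ρ (slL 1) (ρ (slU 1) v) + ρ (slU 1) (ρ (slL 1) v)) +
          (v + (ρ (slU 1) v + ρ (slU 1) v) + (ρ (slL 1) v + ρ (slL 1) v)) := by abel
    _ = v := by rw [h, h2, h2, zero_add, add_zero, add_zero]

/-- `u_a - 1` on the fixed points of `u_1`. -/
def opA (a : F) : W0 ρ →+ W0 ρ where
  toFun e := ⟨ρ (slU a) e + e, add_mem (slU_mem ρ a e) e.2⟩
  map_zero' := Subtype.ext (by simp)
  map_add' x y := Subtype.ext (by simp [add_add_add_comm])

/-- The upper right block of `u_a`. -/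
def opB (a : F) : W0 ρ →+ W0 ρ where
  toFun e := Xop ρ (ρ (slL 1) (ρ (slU a) (Yop ρ e)) + ρ (slU a) (Yop ρ e))
  map_zero' := by simp
  map_add' x y := by
    rw [← map_add]
    congr 1
    simp [add_add_add_comm]

include h2 in
theorem slU_coe (a : F) (e : W0 ρ) : ρ (slU a) (e : A) = mk ρ (opA ρ a e + e) 0 := by
  simp only [mk, map_zero, add_zero, AddSubgroup.coe_add]
  exact (add_cancel_self h2 _ _).symm

include h2 h3 in
theorem slU_Yop (a : F) (e : W0 ρ) :
    ρ (slU a) (Yop ρ e) = mk ρ (opB ρ a e) (opA ρ a e + e) := by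
  obtain ⟨x, y, h⟩ := exists_mk ρ h2 h3 (ρ (slU a) (Yop ρ e))
  have hy : y = opA ρ a e + e := by
    have h1 := congrArg (Xop ρ) h
    simp only [mk, map_add, Xop_coe ρ h2, Xop_Yop ρ h2 h3, zero_add] at h1
    rw [h1]
    refine Subtype.ext ?_
    have h4 := congrArg (fun w : W0 ρ => ρ (slU a) (w : A)) (Xop_Yop ρ h2 h3 e)
    show ρ (slU (1 : F)) (ρ (slU a) (Yop ρ e)) + ρ (slU a) (Yop ρ e) = ρ (slU a) e + e + e
    rw [add_cancel_self h2, ← h4]
    show _ = ρ (slU a) (ρ (slU 1) (Yop ρ e) + Yop ρ e)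
    rw [map_add, ← map_mul_apply, ← map_mul_apply, ← slU_add, ← slU_add, add_comm (1 : F) a,
      add_comm]
  have hx : x = opB ρ a e := by
    have h5 : Xop ρ (ρ (slL 1) (ρ (slU a) (Yop ρ e)) + ρ (slU a) (Yop ρ e)) = x := by
      rw [← h, mk, map_add (ρ (slL (1 : F)))]
      have e1 : ρ (slL (1 : F)) (Yop ρ y) = Yop ρ y := by
        show ρ (slL (1 : F)) (ρ (slL 1) y + y) = ρ (slL 1) y + y
        rw [map_add, ← map_mul_apply, slL_sq, map_one_apply, add_comm]
      rw [e1, show ρ (slL (1 : F)) (x : A) + Yop ρ y + ((x : A) + Yop ρ y) =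
        (ρ (slL (1 : F)) (x : A) + x) + (Yop ρ y + Yop ρ y) by abel, h2, add_zero]
      exact Xop_Yop ρ h2 h3 x
    exact h5.symm
  rw [← h, hx, hy]

include h2 h3 in
theorem slU_mk (a : F) (e f : W0 ρ) :
    ρ (slU a) (mk ρ e f) = mk ρ (opA ρ a e + e + opB ρ a f) (opA ρ a f + f) := by
  conv_lhs => rw [mk]
  rw [map_add, slU_coe ρ h2, slU_Yop ρ h2 h3, mk_add, zero_add]

include h2 h3 in
theorem slW_one_mk (e f : W0 ρ) : ρ (slW 1) (mk ρ e f) = mk ρ f e := by
  have hl : ∀ x : W0 ρ, ρ (slL (1 : F)) (x : A) = Yop ρ x + x := fun x =>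
    (add_cancel_self h2 _ _).symm
  have hu : ∀ x : W0 ρ, ρ (slU (1 : F)) (Yop ρ x) = x + Yop ρ x := by
    intro x
    have := congrArg Subtype.val (Xop_Yop ρ h2 h3 x)
    conv_rhs => rw [← this]
    exact (add_cancel_self h2 _ _).symm
  have e1 : ∀ x : W0 ρ, ρ (slW (1 : F)) (x : A) = Yop ρ x := by
    intro x
    rw [slW_eq, inv_one, map_mul_apply, map_mul_apply, coe_fixed, hl, map_add, coe_fixed, hu]
    abel_nf
    simp [two_zsmul, h2]
  have hlY : ∀ x : W0 ρ, ρ (slL (1 : F)) (Yop ρ x) = Yop ρ x := by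
    intro x
    show ρ (slL (1 : F)) (ρ (slL 1) x + x) = ρ (slL 1) x + x
    rw [map_add, ← map_mul_apply, slL_sq, map_one_apply, add_comm]
  have e2 : ∀ x : W0 ρ, ρ (slW (1 : F)) (Yop ρ x) = x := by
    intro x
    rw [slW_eq, inv_one, map_mul_apply, map_mul_apply, hu, map_add (ρ (slL (1 : F))), hlY, hl,
      add_comm (Yop ρ x) (x : A), add_cancel_self h2, coe_fixed]
  rw [mk, map_add, e1, e2, mk, add_comm]

include h2 h3 in
theorem slL_mk (a : F) (e f : W0 ρ) :
    ρ (slL a) (mk ρ e f) = mk ρ (opA ρ a e + e) (opA ρ a f + f + opB ρ a e) := by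
  rw [← slL_eq, map_mul_apply, map_mul_apply, slW_one_mk ρ h2 h3, slU_mk ρ h2 h3,
    slW_one_mk ρ h2 h3]

include h2 h3 in
theorem exists_data : ∃ D : Data F (W0 ρ), D.A = opA ρ ∧ D.B = opB ρ := by
  have w2 : ∀ w : W0 ρ, w + w = 0 := fun w => Subtype.ext (h2 _)
  have hinj := @mk_inj F _ _ _ A _ ρ h2 h3
  have hU := slU_mk ρ h2 h3
  have hL := slL_mk ρ h2 h3
  obtain ⟨α, hα⟩ : ∃ α : F → W0 ρ →+ W0 ρ, ∀ a e, α a e = opA ρ a e + e :=
    ⟨fun a => opA ρ a + AddMonoidHom.id _, fun a e => rfl⟩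
  simp only [← hα] at hU hL
  have hA0 : ∀ w, opA ρ 0 w = 0 := fun w => Subtype.ext (by
    show ρ (slU (0 : F)) (w : A) + w = 0
    rw [slU_zero, map_one_apply, h2])
  have hA1 : ∀ w, opA ρ 1 w = 0 := fun w => Subtype.ext (by
    show ρ (slU (1 : F)) (w : A) + w = 0
    rw [coe_fixed, h2])
  have hB0 : ∀ w, opB ρ 0 w = 0 := by
    intro w
    have h := hU 0 0 w
    simp only [slU_zero, map_one_apply, hα, hA0, map_zero, zero_add] at h
    exact (hinj h).1.symm
  have hB1 : ∀ w, opB ρ 1 w = w := fun w => by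
    have h := hU 1 0 w
    have e : mk ρ 0 w = Yop ρ w := by simp [mk]
    rw [e] at h
    have h1 : ρ (slU (1 : F)) (Yop ρ w) = mk ρ w w := by
      have := congrArg Subtype.val (Xop_Yop ρ h2 h3 w)
      rw [mk]; conv_rhs => rw [← this]
      exact (add_cancel_self h2 _ _).symm
    simp only [h1, hα, hA1, map_zero, zero_add] at h
    exact (hinj h).1.symm
  have hmul : ∀ a b e f, mk ρ (α (a + b) e + opB ρ (a + b) f) (α (a + b) f) =
      mk ρ (α a (α b e + opB ρ b f) + opB ρ a (α b f)) (α a (α b f)) := by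
    intro a b e f
    rw [← hU, ← hU, ← hU, slU_add, map_mul_apply]
  have hαadd : ∀ a b e, α (a + b) e = α a (α b e) := fun a b e => by
    have h := (hinj (hmul a b 0 e)).2
    exact h
  have hβadd : ∀ a b f, opB ρ (a + b) f = α a (opB ρ b f) + opB ρ a (α b f) := fun a b f => by
    have h := (hinj (hmul a b 0 f)).1
    simpa [hα] using h
  have hαsq : ∀ a e, α a (α a e) = e := fun a e => by
    rw [← hαadd, CharTwo.add_self_eq_zero]
    simp [hα, hA0]
  have hαcomm : ∀ a b e, α a (α b e) = α b (α a e) := fun a b e => by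
    rw [← hαadd, ← hαadd, add_comm]
  -- the relation of the element of order three
  have hrel : ∀ s, s ≠ 0 → ∀ e, opB ρ s (opB ρ s⁻¹ e) = e ∧
      α s (opB ρ s⁻¹ e) = opB ρ s⁻¹ (α s e) := by
    intro s hs e
    have h := rel ρ h3 hs (mk ρ e 0)
    rw [hU, hL, hL, hU] at h
    simp only [mk_add] at h
    have h0 : (0 : A) = mk ρ 0 0 := by simp [mk]
    rw [h0] at h
    obtain ⟨r1, r2⟩ := hinj h
    simp only [map_zero, zero_add, add_zero] at r1 r2
    change e + α s⁻¹ (α s e) + (α s (α s⁻¹ e) + opB ρ s (opB ρ s⁻¹ e)) = 0 at r1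
    change opB ρ s⁻¹ (α s e) + α s (opB ρ s⁻¹ e) = 0 at r2
    constructor
    · rw [hαcomm s⁻¹, show e + α s (α s⁻¹ e) + (α s (α s⁻¹ e) + opB ρ s (opB ρ s⁻¹ e)) =
        (α s (α s⁻¹ e) + α s (α s⁻¹ e)) + (e + opB ρ s (opB ρ s⁻¹ e)) by abel, w2, zero_add] at r1
      rw [← zero_add (opB ρ s (opB ρ s⁻¹ e)), ← w2 e, add_assoc, r1, add_zero]
    · rw [← zero_add (α s (opB ρ s⁻¹ e)), ← w2 (opB ρ s⁻¹ (α s e)), add_assoc, r2, add_zero]
  have hci : ∀ s, s ≠ 0 → ∀ e, α s⁻¹ (opB ρ s e) = opB ρ s (α s⁻¹ e) := fun s hs e => by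
    have h := (hrel s⁻¹ (inv_ne_zero hs) e).2
    rwa [inv_inv] at h
  have hinv' : ∀ s, s ≠ 0 → ∀ e, opB ρ s⁻¹ (opB ρ s e) = e := fun s hs e => by
    have h := (hrel s⁻¹ (inv_ne_zero hs) e).1
    rwa [inv_inv] at h
  have hcs : ∀ s e, α s (opB ρ s e) = opB ρ s (α s e) := fun s e => by
    have h := hβadd s s e
    rw [CharTwo.add_self_eq_zero, hB0] at h
    rw [← zero_add (opB ρ s (α s e)), ← w2 (α s (opB ρ s e)), add_assoc, ← h, add_zero]
  -- the monomial elements
  have hW : ∀ s, s ≠ 0 → ∀ e f, ρ (slW s) (mk ρ e f) =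
      mk ρ (α s e + α s⁻¹ e + opB ρ s f) (opB ρ s⁻¹ e + (α s f + α s⁻¹ f)) := by
    intro s hs e f
    rw [slW_eq, map_mul_apply, map_mul_apply, hU, hL, hU]
    change mk ρ (α s (α s⁻¹ (α s e + opB ρ s f)) +
        opB ρ s (α s⁻¹ (α s f) + opB ρ s⁻¹ (α s e + opB ρ s f)))
      (α s (α s⁻¹ (α s f) + opB ρ s⁻¹ (α s e + opB ρ s f))) = _
    have hadd : ∀ a x y, α a (x + y) = α a x + α a y := fun a x y => by
      simp only [hα, map_add]; abel
    congr 1
    · rw [hadd, hadd, map_add, map_add, map_add, (hrel s hs _).1, (hrel s hs _).1,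
        hαcomm s s⁻¹ (α s e), hαsq, hci s hs, hcs s, hαcomm s s⁻¹ f,
        show α s⁻¹ e + opB ρ s (α s⁻¹ (α s f)) + (opB ρ s (α s⁻¹ (α s f)) + (α s e + opB ρ s f)) =
          (opB ρ s (α s⁻¹ (α s f)) + opB ρ s (α s⁻¹ (α s f))) + (α s e + α s⁻¹ e + opB ρ s f) by abel,
        w2, zero_add]
    · rw [hadd, map_add, hadd, hαcomm s s⁻¹ (α s f), hαsq, hinv' s hs, (hrel s hs _).2, hαsq]
      abel
  have hD : ∀ s a, s ≠ 0 → ∀ e f,
      mk ρ (α s (α a f) + α s⁻¹ (α a f) + opB ρ s (α a e + opB ρ a f))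
        (opB ρ s⁻¹ (α a f) + (α s (α a e + opB ρ a f) + α s⁻¹ (α a e + opB ρ a f))) =
      mk ρ (α (s * s * a) (α s f + α s⁻¹ f + opB ρ s e) +
          opB ρ (s * s * a) (opB ρ s⁻¹ f + (α s e + α s⁻¹ e)))
        (α (s * s * a) (opB ρ s⁻¹ f + (α s e + α s⁻¹ e))) := by
    intro s a hs e f
    have h := congrArg (fun g => ρ g (mk ρ e f)) (slW_mul_slU hs a)
    simp only [map_mul_apply, hU, slW_one_mk ρ h2 h3, hW s hs] at h
    exact h
  have hαC : ∀ s e, α s e + α s⁻¹ e = opA ρ s e + opA ρ s⁻¹ e := fun s e => by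
    rw [hα, hα]
    rw [show opA ρ s e + e + (opA ρ s⁻¹ e + e) = opA ρ s e + opA ρ s⁻¹ e + (e + e) by abel, w2,
      add_zero]
  have weq : ∀ {x y : W0 ρ}, x + y = 0 → x = y := fun {x y} h => by
    rw [← zero_add y, ← h, add_assoc, w2, add_zero]
  refine ⟨{ A := opA ρ
            B := opB ρ
            two := w2
            A0 := hA0
            A1 := hA1
            B0 := hB0
            B1 := hB1
            A_add := fun a b w => ?_
            A_comm := fun a b w => ?_
            A_sq := fun a w => ?_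
            B_add := fun a b w => ?_
            comm := fun a b w => ?_
            inv := fun s w hs => (hrel s hs w).1
            commInv := fun s w hs => ?_
            id11 := fun s a w hs => ?_
            id12 := fun s a w hs => ?_
            id22 := fun s a w hs => ?_ }, rfl, rfl⟩
  · have h := hαadd a b w
    simp only [hα, map_add] at h
    refine add_right_cancel (b := w) (h.trans ?_)
    abel
  · have h := hαcomm a b w
    simp only [hα, map_add] at h
    refine add_right_cancel (b := opA ρ a w + (opA ρ b w + w)) (Eq.trans ?_ (h.trans ?_)) <;> abel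
  · have h := hαsq a w
    simp only [hα, map_add] at h
    rw [show opA ρ a (opA ρ a w) + opA ρ a w + (opA ρ a w + w) =
      opA ρ a (opA ρ a w) + (opA ρ a w + opA ρ a w) + w by abel, w2, add_zero] at h
    exact add_eq_right.1 h
  · rw [hβadd]
    simp only [hα, map_add]
    abel
  · have h1 := hβadd a b w
    rw [add_comm a b, hβadd b a w] at h1
    simp only [hα, map_add] at h1
    refine add_right_cancel (b := opB ρ a w + opB ρ b w) (Eq.trans ?_ (h1.symm.trans ?_)) <;> abel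
  · have h := hci s hs w
    simp only [hα, map_add] at h
    exact add_right_cancel h
  · obtain ⟨h1, -⟩ := hinj (hD s a hs w 0)
    simp only [map_zero, add_zero, zero_add, hαC] at h1
    simp only [hα, map_add] at h1 ⊢
    refine add_right_cancel (b := opB ρ s w) (h1.trans ?_)
    abel
  · obtain ⟨h1, -⟩ := hinj (hD s a hs 0 w)
    simp only [map_zero, add_zero, zero_add, hαC] at h1
    simp only [hα, map_add] at h1 ⊢
    refine add_right_cancel (b := opA ρ s w + opA ρ s⁻¹ w) (Eq.trans ?_ (h1.trans ?_)) <;> abel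
  · obtain ⟨-, h1⟩ := hinj (hD s a hs 0 w)
    simp only [map_zero, add_zero, zero_add, hαC] at h1
    simp only [hα, map_add] at h1 ⊢
    refine add_right_cancel (b := opB ρ s⁻¹ w) (Eq.trans ?_ (h1.trans ?_)) <;> abel

include h2 h3 in
/-- A module of exponent two is a sum of natural modules. -/
theorem exists_natural [Finite A] : ∃ (k : ℕ) (ψ : A ≃+ (Fin k → Fin 2 → F)),
    ∀ g v i, ψ (ρ g v) i = (g : Matrix (Fin 2) (Fin 2) F).mulVec (ψ v i) := by
  obtain ⟨D, hA, hB⟩ := exists_data ρ h2 h3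
  have hA0 : ∀ a w, opA ρ a w = 0 := fun a w => hA ▸ D.A_eq_zero a w
  have hfix : ∀ w, w ∈ D.fix := fun w a => D.A_eq_zero a w
  let f : F →+* AddMonoid.End (W0 ρ) :=
    { toFun := D.B
      map_one' := AddMonoidHom.ext D.B1
      map_mul' := fun a b => AddMonoidHom.ext fun w => D.B_mul (D.fix_le (hfix w)) a b
      map_zero' := AddMonoidHom.ext D.B0
      map_add' := fun a b => AddMonoidHom.ext fun w => D.B_add' (hfix w) a b }
  letI : Module F (W0 ρ) := Module.compHom (W0 ρ) f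
  have hsmul : ∀ (a : F) (w : W0 ρ), a • w = opB ρ a w := fun a w => by
    show D.B a w = _
    rw [hB]
  haveI : Module.Finite F (W0 ρ) := Module.Finite.of_finite
  let b := Module.finBasis F (W0 ρ)
  let φ : (Fin (Module.finrank F (W0 ρ)) → Fin 2 → F) →+ A :=
    { toFun := fun z => mk ρ (b.equivFun.symm fun i => z i 0) (b.equivFun.symm fun i => z i 1)
      map_zero' := by
        show mk ρ (b.equivFun.symm 0) (b.equivFun.symm 0) = 0
        rw [map_zero, mk, map_zero, ZeroMemClass.coe_zero, add_zero]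
      map_add' := fun x y => by
        rw [mk_add, ← map_add, ← map_add]
        rfl }
  have hbij : Function.Bijective φ := by
    constructor
    · intro x y h
      obtain ⟨h0, h1⟩ := mk_inj ρ h2 h3 h
      funext i j
      fin_cases j
      · exact congrFun (b.equivFun.symm.injective h0) i
      · exact congrFun (b.equivFun.symm.injective h1) i
    · intro v
      obtain ⟨e, e', rfl⟩ := exists_mk ρ h2 h3 v
      exact ⟨fun i => ![b.equivFun e i, b.equivFun e' i],
        congrArg₂ (mk ρ) (b.equivFun.symm_apply_apply e) (b.equivFun.symm_apply_apply e')⟩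
  refine ⟨_, (AddEquiv.ofBijective φ hbij).symm, ?_⟩
  suffices h : ∀ g z, ρ g (φ z) = φ fun i => (g : Matrix (Fin 2) (Fin 2) F).mulVec (z i) by
    intro g v i
    obtain ⟨z, rfl⟩ := hbij.2 v
    rw [h]
    exact (congrFun ((AddEquiv.ofBijective φ hbij).symm_apply_apply _) i).trans
      (congrArg _ (congrFun ((AddEquiv.ofBijective φ hbij).symm_apply_apply z).symm i))
  intro g
  have hg : g ∈ Subgroup.closure (Set.range (slU : F → _) ∪ {slW 1}) := by
    rw [closure_slU_slW]; trivial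
  induction hg using Subgroup.closure_induction with
  | mem x hx =>
    intro z
    rcases hx with ⟨t, rfl⟩ | hx
    · show ρ (slU t) (mk ρ _ _) = mk ρ _ _
      rw [slU_mk ρ h2 h3, hA0, hA0, zero_add, zero_add, ← hsmul, ← map_smul, ← map_add]
      congr 2
      · funext i
        simp [slU_val, Matrix.mulVec, dotProduct, Fin.sum_univ_two]
      · funext i
        simp [slU_val, Matrix.mulVec, dotProduct, Fin.sum_univ_two]
    · rw [Set.mem_singleton_iff] at hx
      subst hx
      show ρ (slW 1) (mk ρ _ _) = mk ρ _ _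
      rw [slW_one_mk ρ h2 h3]
      congr 2
      · funext i
        simp [slW_val (one_ne_zero : (1 : F) ≠ 0), Matrix.mulVec, dotProduct, Fin.sum_univ_two]
      · funext i
        simp [slW_val (one_ne_zero : (1 : F) ≠ 0), CharTwo.neg_eq, Matrix.mulVec, dotProduct,
          Fin.sum_univ_two]
  | one =>
    intro z
    rw [map_one_apply]
    simp
  | mul a c _ _ iha ihc =>
    intro z
    rw [map_mul_apply, ihc, iha]
    congr 1
    funext i
    show a.1 *ᵥ (c.1 *ᵥ z i) = (a.1 * c.1) *ᵥ z i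
    rw [Matrix.mulVec_mulVec]
  | inv a _ iha =>
    intro z
    have h := congrArg (ρ a⁻¹) (iha fun i => ((a⁻¹ : SpecialLinearGroup (Fin 2) F) :
      Matrix (Fin 2) (Fin 2) F).mulVec (z i))
    rw [← map_mul_apply, inv_mul_cancel, map_one_apply] at h
    have e : a.1 * (a⁻¹).1 = 1 := congrArg Subtype.val (mul_inv_cancel a)
    simp only [Matrix.mulVec_mulVec, e, Matrix.one_mulVec] at h
    exact h.symm

end Exp2

end CfsgLib.Case.SL2Fpf
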