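import Cfsg.Agent.Lib.Case.HSubgroups
import Cfsg.Agent.Lib.Supersolvable.Criteria
import Cfsg.Agent.Lib.Solvable.CoprimeAction
import Mathlib.FieldTheory.Finite.Basic
import Mathlib.LinearAlgebra.Eigenspace.Basic

/-!
A normal `p`-subgroup on which the `p'`-part of `G' G^(p-1)` acts trivially is supersolvably embedded.
-/

set_option autoImplicit false
set_option linter.style.haveILetI false

namespace CfsgLib.Case

open Subgroup Cfsg
open scoped commutatorElement

/-- `G' G^n`. -/
def derivedPow (G : Type*) [Group G] (n : ℕ) : Subgroup G :=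
  commutator G ⊔ closure (Set.range fun g : G => g ^ n)

theorem derivedPow_map {G K : Type*} [Group G] [Group K] {f : G →* K} (hf : Function.Surjective f)
    (n : ℕ) : (derivedPow G n).map f = derivedPow K n := by
  rw [derivedPow, derivedPow, Subgroup.map_sup, MonoidHom.map_closure, _root_.commutator_def,
    _root_.commutator_def, Subgroup.map_commutator, Subgroup.map_top_of_surjective f hf]
  congr 2
  ext x
  constructor
  · rintro ⟨_, ⟨g, rfl⟩, rfl⟩
    exact ⟨f g, (map_pow f g n).symm⟩
  · rintro ⟨g, rfl⟩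
    obtain ⟨g, rfl⟩ := hf g
    exact ⟨g ^ n, ⟨g, rfl⟩, map_pow f g n⟩

instance derivedPow_normal (G : Type*) [Group G] (n : ℕ) : (derivedPow G n).Normal :=
  ⟨fun x hx g => by
    have e : g * x * g⁻¹ = ⁅g, x⁆ * x := by rw [commutatorElement_def, inv_mul_cancel_right]
    rw [e]
    exact mul_mem (mem_sup_left (by
      rw [_root_.commutator_def]
      exact commutator_mem_commutator (mem_top _) (mem_top _))) hx⟩

variable {p : ℕ} [hp : Fact p.Prime]

/-- `G' G^(p-1)` induces only `p`-automorphisms on normal cyclic `p`-subgroups. -/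
theorem commute_derivedPow_cyclic {X : Type*} [Group X] [Finite X] {x y : X} {a : ℕ}
    (hx : x ^ p ^ a = 1) (hn : (zpowers x).Normal) (hy : y ∈ derivedPow X (p - 1))
    (hyp : (orderOf y).Coprime p) : y * x * y⁻¹ = x := by
  haveI := hn
  let φ : X →* MulAut (zpowers x) := MulAut.conjNormal
  let ψ : X →* (ZMod (Nat.card (zpowers x)))ˣ :=
    (IsCyclic.mulAutMulEquiv (zpowers x)).toMonoidHom.comp φ
  obtain ⟨b, -, hb⟩ := (Nat.dvd_prime_pow hp.out).1 (orderOf_dvd_of_pow_eq_one hx)
  haveI : NeZero (Nat.card (zpowers x)) := ⟨Nat.card_pos.ne'⟩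
  let χ := (powMonoidHom (p ^ b)).comp ψ
  have htot : ∀ u : (ZMod (Nat.card (zpowers x)))ˣ, u ^ ((p - 1) * p ^ b) = 1 := by
    intro u
    refine orderOf_dvd_iff_pow_eq_one.1
      ((orderOf_dvd_of_pow_eq_one (ZMod.pow_totient u)).trans ?_)
    rw [Nat.card_zpowers, hb, mul_comm]
    rcases Nat.eq_zero_or_pos b with rfl | hb0
    · rw [pow_zero, Nat.totient_one]
      exact one_dvd _
    · rw [Nat.totient_prime_pow hp.out hb0]
      exact mul_dvd_mul_right (Nat.pow_dvd_pow p (Nat.sub_le b 1)) _
  have hker : derivedPow X (p - 1) ≤ χ.ker := by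
    refine sup_le (Abelianization.commutator_subset_ker χ) ((closure_le _).2 ?_)
    rintro _ ⟨g, rfl⟩
    show χ (g ^ (p - 1)) = 1
    show (ψ (g ^ (p - 1))) ^ p ^ b = 1
    rw [map_pow, ← pow_mul, htot]
  have h1 : orderOf (ψ y) ∣ Nat.gcd (orderOf y) (p ^ b) :=
    Nat.dvd_gcd (orderOf_map_dvd ψ y) (orderOf_dvd_of_pow_eq_one (hker hy))
  rw [show Nat.gcd (orderOf y) (p ^ b) = 1 from hyp.pow_right b, Nat.dvd_one,
    orderOf_eq_one_iff] at h1
  have h2 : φ y = 1 := (IsCyclic.mulAutMulEquiv (zpowers x)).injective (h1.trans (map_one _).symm)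
  exact congrArg Subtype.val (DFunLike.congr_fun h2 ⟨x, mem_zpowers x⟩)

/-- An endomorphism fixed by `X ^ p - X` has an eigenvalue. -/
theorem exists_eigenvector {V : Type*} [AddCommGroup V] [Module (ZMod p) V] [Nontrivial V]
    (f : V →ₗ[ZMod p] V) (hf : f ^ p = f) : ∃ c : ZMod p, ∃ v : V, v ≠ 0 ∧ f v = c • v := by
  classical
  by_contra hne
  push Not at hne
  have key : ∀ s : Finset (ZMod p), Function.Injective
      (Polynomial.aeval f (∏ c ∈ s, (Polynomial.X - Polynomial.C c))) := by
    intro s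
    induction s using Finset.induction with
    | empty =>
      rw [Finset.prod_empty, map_one]
      exact fun a b h => h
    | insert c s hcs ih =>
      rw [Finset.prod_insert hcs, map_mul, Module.End.mul_eq_comp, LinearMap.coe_comp]
      refine Function.Injective.comp ?_ ih
      rw [map_sub, Polynomial.aeval_X, Polynomial.aeval_C]
      intro u v huv
      by_contra hne'
      refine hne c (u - v) (sub_ne_zero.2 hne') ?_
      simp only [LinearMap.sub_apply, Module.algebraMap_end_apply] at huv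
      rw [map_sub, smul_sub]
      linear_combination (norm := module) huv
  have h := key Finset.univ
  have hp1 := hp.out.one_lt
  have hprod : ∏ c : ZMod p, (Polynomial.X - Polynomial.C c) =
      Polynomial.X ^ p - Polynomial.X := by
    have hr := FiniteField.roots_X_pow_card_sub_X (ZMod p)
    rw [ZMod.card] at hr
    have hm : (Polynomial.X ^ p - Polynomial.X : Polynomial (ZMod p)).Monic :=
      Polynomial.monic_X_pow_sub (by rw [Polynomial.degree_X]; exact_mod_cast hp1)
    have := Polynomial.prod_multiset_X_sub_C_of_monic_of_roots_card_eq hm (by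
      rw [hr, FiniteField.X_pow_card_sub_X_natDegree_eq _ hp1, ← Finset.card_def,
        Finset.card_univ, ZMod.card])
    rw [hr] at this
    exact this
  rw [hprod, map_sub, map_pow, Polynomial.aeval_X, hf, sub_self] at h
  obtain ⟨v, hv⟩ := exists_ne (0 : V)
  exact hv (h (by rw [LinearMap.zero_apply, LinearMap.zero_apply]))

/-- The criterion. -/
theorem supersolvable_of_derivedPow_centralizes {G : Type*} [Group G] [Finite G] (Q : Subgroup G)
    [Q.Normal] (hQ : IsPGroup p Q) (hGQ : Cfsg.IsSupersolvable (G ⧸ Q))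
    (h : ∀ y ∈ derivedPow G (p - 1), (orderOf y).Coprime p → ∀ x ∈ Q, y * x * y⁻¹ = x) :
    Cfsg.IsSupersolvable G := by
  revert Q
  refine CfsgLib.Supersolvable.groupInduction (P := fun G _ _ => ∀ (Q : Subgroup G) [Q.Normal],
    IsPGroup p Q → Cfsg.IsSupersolvable (G ⧸ Q) →
    (∀ y ∈ derivedPow G (p - 1), (orderOf y).Coprime p → ∀ x ∈ Q, y * x * y⁻¹ = x) →
    Cfsg.IsSupersolvable G) (fun G _ _ ih Q _ hQ hGQ h => ?_) G
  classical
  by_cases hQb : Q = ⊥
  · subst hQb
    exact CfsgLib.Supersolvable.of_mulEquiv QuotientGroup.quotientBot hGQ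
  -- a minimal normal subgroup inside `Q`
  obtain ⟨N, hNmin⟩ := (Set.toFinite {N : Subgroup G | N.Normal ∧ N ≤ Q ∧ N ≠ ⊥}).exists_minimal
    ⟨Q, inferInstance, le_rfl, hQb⟩
  obtain ⟨hNn, hNQ, hNb⟩ := hNmin.prop
  haveI := hNn
  have hmin : ∀ K : Subgroup G, K.Normal → K ≤ N → K ≠ ⊥ → K = N := fun K hK hKN hKb =>
    le_antisymm hKN (hNmin.le_of_le ⟨hK, hKN.trans hNQ, hKb⟩ hKN)
  set H := derivedPow G (p - 1) with hH
  -- `H` centralizes `N`
  have hNH : N ≤ centralizer (H : Set G) := by
    let S : Sylow p H := default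
    set T := (S : Subgroup H).map H.subtype ⊔ N with hT
    have hTp : IsPGroup p T :=
      IsPGroup.to_sup_of_normal_right (S.isPGroup'.map _) (hQ.to_le hNQ)
    haveI : (N.subgroupOf T).Normal := inferInstance
    obtain ⟨⟨u, huT⟩, huN, hcen, huo⟩ := CfsgLib.PGroup.exists_central_orderOf_eq hTp
      (N.subgroupOf T) (fun hb => hNb (by
        have := congrArg (Subgroup.map T.subtype) hb
        rwa [map_subgroupOf_eq_of_le le_sup_right, Subgroup.map_bot] at this))
    have huH : u ∈ centralizer (H : Set G) := by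
      have hle : (⊤ : Subgroup H) ≤ (centralizer ({u} : Set G)).subgroupOf H := by
        rw [← CfsgLib.Transfer.sylow_sup_pResidual S, sup_le_iff]
        refine ⟨fun s hs => ?_, ?_⟩
        · rw [mem_subgroupOf, mem_centralizer_singleton_iff]
          exact congrArg Subtype.val (mem_center_iff.1 hcen ⟨(s : G), mem_sup_left ⟨s, hs, rfl⟩⟩)
        · rw [pResidual, closure_le]
          intro s hs
          rw [SetLike.mem_coe, mem_subgroupOf, mem_centralizer_singleton_iff]
          exact mul_inv_eq_iff_eq_mul.1 (h s s.2 (by rwa [orderOf_coe]) u (hNQ huN))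
      intro s hs
      exact mem_centralizer_singleton_iff.1 (hle (mem_top (⟨s, hs⟩ : H)))
    haveI : H.Normal := derivedPow_normal G _
    have hK := hmin (N ⊓ centralizer (H : Set G)) inferInstance inf_le_left fun hb => by
      have h1 : u ∈ N ⊓ centralizer (H : Set G) := ⟨huN, huH⟩
      rw [hb, mem_bot] at h1
      subst h1
      rw [orderOf_mk, orderOf_one] at huo
      exact hp.out.ne_one huo.symm
    exact hK ▸ inf_le_right
  -- `N` is elementary abelian
  haveI : Nontrivial N := (nontrivial_iff_ne_bot N).2 hNb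
  have hNp : IsPGroup p N := hQ.to_le hNQ
  set Z := (center N).map N.subtype with hZ
  have hZN : Z = N := by
    refine hmin Z inferInstance (map_subtype_le _) ?_
    haveI := hNp.center_nontrivial
    rw [hZ, Ne, map_eq_bot_iff_of_injective _ N.subtype_injective]
    exact (nontrivial_iff_ne_bot _).1 inferInstance
  have hNcomm : ∀ a b : N, a * b = b * a := by
    intro a b
    obtain ⟨c, hc, hca⟩ : (a : G) ∈ Z := hZN.symm ▸ a.2
    obtain rfl : c = a := Subtype.ext hca
    exact (mem_center_iff.1 hc b).symm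
  letI : CommGroup N := { (inferInstance : Group N) with mul_comm := hNcomm }
  have hel : ∀ a : N, a ^ p = 1 := by
    set O : Subgroup N := (powMonoidHom p : N →* N).ker with hO
    have hchar : O.Characteristic := characteristic_iff_comap_eq.2 fun e => by
      ext a
      show (e a) ^ p = 1 ↔ a ^ p = 1
      rw [← map_pow, map_eq_one_iff _ e.injective]
    have hOb : O ≠ ⊥ := by
      obtain ⟨k, hk⟩ := IsPGroup.iff_card.1 hNp
      have hk0 : k ≠ 0 := fun h0 => by
        rw [h0, pow_zero] at hk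
        exact (Finite.one_lt_card (α := N)).ne' hk
      obtain ⟨a, ha⟩ := exists_prime_orderOf_dvd_card' p (hk ▸ dvd_pow_self p hk0)
      intro hb
      have h1 : a ∈ O := show a ^ p = 1 from ha ▸ pow_orderOf_eq_one a
      rw [hb, mem_bot] at h1
      rw [h1, orderOf_one] at ha
      exact hp.out.ne_one ha.symm
    have hON := hmin (O.map N.subtype) inferInstance (map_subtype_le _) (by
      rwa [Ne, map_eq_bot_iff_of_injective _ N.subtype_injective])
    intro a
    obtain ⟨c, hc, hca⟩ : (a : G) ∈ O.map N.subtype := hON.symm ▸ a.2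
    obtain rfl : c = a := Subtype.ext hca
    exact hc
  haveI : Module (ZMod p) (Additive N) := AddCommGroup.zmodModule fun x => congrArg Additive.ofMul (hel x.toMul)
  -- every element acts on `N` as a scalar
  have hscal : ∀ g : G, ∃ c : ℕ, ∀ a ∈ N, g * a * g⁻¹ = a ^ c := by
    intro g
    let f : Additive N →ₗ[ZMod p] Additive N :=
      (MonoidHom.toAdditive (MulAut.conjNormal g : MulAut N).toMonoidHom).toZModLinearMap p
    have hfn : ∀ (n : ℕ) (a : N), (f ^ n) (Additive.ofMul a) =
        Additive.ofMul ((MulAut.conjNormal (g ^ n) : MulAut N) a) := by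
      intro n
      induction n with
      | zero => intro a; simp
      | succ n ih =>
        intro a
        rw [pow_succ, Module.End.mul_apply]
        show (f ^ n) (Additive.ofMul ((MulAut.conjNormal g : MulAut N) a)) = _
        rw [ih, pow_succ g n, map_mul, MulAut.mul_apply]
    have hf : f ^ p = f := by
      refine LinearMap.ext fun x => ?_
      rw [← ofMul_toMul x, hfn]
      show _ = Additive.ofMul ((MulAut.conjNormal g : MulAut N) x.toMul)
      congr 1
      refine Subtype.ext ?_
      rw [MulAut.conjNormal_apply, MulAut.conjNormal_apply]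
      have hg : g ^ (p - 1) ∈ H := mem_sup_right (subset_closure ⟨g, rfl⟩)
      have hc := hNH x.toMul.2 _ hg
      rw [show g ^ p = g * g ^ (p - 1) by rw [← pow_succ', Nat.sub_add_cancel hp.out.one_le],
        mul_inv_rev]
      calc g * g ^ (p - 1) * (x.toMul : G) * ((g ^ (p - 1))⁻¹ * g⁻¹)
          = g * (g ^ (p - 1) * (x.toMul : G)) * (g ^ (p - 1))⁻¹ * g⁻¹ := by group
        _ = _ := by rw [hc]; group
    obtain ⟨c, v, hv, hcv⟩ := exists_eigenvector f hf
    refine ⟨c.val, ?_⟩
    let E : Subgroup G :=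
      { carrier := {a | a ∈ N ∧ g * a * g⁻¹ = a ^ c.val}
        one_mem' := ⟨one_mem _, by simp⟩
        mul_mem' := fun {a b} ha hb => ⟨mul_mem ha.1 hb.1, by
          rw [← conj_mul, ha.2, hb.2, (show Commute a b from
            congrArg Subtype.val (hNcomm ⟨a, ha.1⟩ ⟨b, hb.1⟩)).mul_pow]⟩
        inv_mem' := fun {a} ha => ⟨inv_mem ha.1, by rw [← conj_inv, ha.2, inv_pow]⟩ }
    have hEn : E.Normal := ⟨fun a ha k => by
      refine ⟨hNn.conj_mem a ha.1 k, ?_⟩
      have hk : k * g * k⁻¹ * g⁻¹ ∈ H := mem_sup_left (by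
        rw [← commutatorElement_def, _root_.commutator_def]
        exact commutator_mem_commutator (mem_top _) (mem_top _))
      have hc : (k * g * k⁻¹ * g⁻¹) * (g * (k * a * k⁻¹) * g⁻¹) =
          (g * (k * a * k⁻¹) * g⁻¹) * (k * g * k⁻¹ * g⁻¹) :=
        hNH (hNn.conj_mem _ (hNn.conj_mem a ha.1 k) g) _ hk
      show g * (k * a * k⁻¹) * g⁻¹ = (k * a * k⁻¹) ^ c.val
      rw [conj_pow, ← ha.2]
      calc g * (k * a * k⁻¹) * g⁻¹
          = (k * g * k⁻¹ * g⁻¹) * (g * (k * a * k⁻¹) * g⁻¹) * (k * g * k⁻¹ * g⁻¹)⁻¹ := by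
            rw [hc, mul_inv_cancel_right]
        _ = _ := by group⟩
    have hE : E = N := hmin E hEn (fun a ha => ha.1) fun hb => hv (by
      have h1 : ((v.toMul : N) : G) ∈ E := by
        refine ⟨v.toMul.2, ?_⟩
        rw [← ZMod.natCast_zmod_val c, Nat.cast_smul_eq_nsmul, ← ofMul_toMul v, ← ofMul_pow] at hcv
        have := congrArg Subtype.val (Additive.ofMul.injective hcv :
          (MulAut.conjNormal g : MulAut N) v.toMul = v.toMul ^ c.val)
        rwa [MulAut.conjNormal_apply, SubmonoidClass.coe_pow] at this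
      rw [hb, mem_bot] at h1
      have h2 : (v.toMul : N) = 1 := Subtype.ext h1
      rw [← ofMul_toMul v, h2]
      rfl)
    intro a ha
    exact (hE.symm ▸ ha : a ∈ E).2
  -- so `N` has order `p`
  obtain ⟨u, hu⟩ := exists_ne (1 : N)
  have hcyc : zpowers (u : G) = N := by
    refine hmin _ ⟨fun a ha k => ?_⟩ (zpowers_le.2 u.2) (by
      rw [Ne, zpowers_eq_bot]; exact fun h1 => hu (Subtype.ext h1))
    obtain ⟨c, hc⟩ := hscal k
    rw [hc a (zpowers_le.2 u.2 ha)]
    exact pow_mem ha _
  have hNprime : Nat.card N = p := by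
    rw [← hcyc, Nat.card_zpowers]
    exact orderOf_eq_prime (congrArg Subtype.val (hel u)) fun h1 => hu (Subtype.ext h1)
  refine CfsgLib.Supersolvable.of_quotient_prime N (hNprime ▸ hp.out) ?_
  haveI : (Q.map (QuotientGroup.mk' N)).Normal :=
    Subgroup.Normal.map inferInstance _ (QuotientGroup.mk'_surjective N)
  refine ih (G ⧸ N) (CfsgLib.Supersolvable.card_quotient_lt hNb) (Q.map (QuotientGroup.mk' N))
    (hQ.map _) (CfsgLib.Supersolvable.of_mulEquiv
      (QuotientGroup.quotientQuotientEquivQuotient N Q hNQ).symm hGQ) ?_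
  intro y hy hyp x hx
  rw [← derivedPow_map (QuotientGroup.mk'_surjective N)] at hy
  obtain ⟨y₀, hy₀, rfl⟩ := hy
  obtain ⟨x, hx, rfl⟩ := hx
  -- a `p'`-part of `y₀` with the same image
  obtain ⟨k, m, hm, he⟩ := Nat.exists_eq_pow_mul_and_not_dvd (orderOf_pos y₀).ne' p hp.out.ne_one
  have hcop : (p ^ k).Coprime m := Nat.Coprime.pow_left _ ((hp.out.coprime_iff_not_dvd).2 hm)
  obtain ⟨i, hi⟩ : ∃ i : ℕ, QuotientGroup.mk' N (y₀ ^ (p ^ k * i)) = QuotientGroup.mk' N y₀ := by
    set z := QuotientGroup.mk' N y₀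
    have hz : orderOf z ∣ m := (Nat.Coprime.dvd_mul_left (hyp.pow_right k)).1
      (he ▸ orderOf_map_dvd _ y₀)
    obtain ⟨i, hi⟩ := exists_pow_eq_self_of_coprime (hcop.coprime_dvd_right hz)
    exact ⟨i, by rw [map_pow, pow_mul, hi]⟩
  have hy1 : (orderOf (y₀ ^ (p ^ k * i))).Coprime p := by
    refine Nat.Coprime.coprime_dvd_left (orderOf_dvd_of_pow_eq_one ?_)
      ((hp.out.coprime_iff_not_dvd).2 hm).symm
    rw [← pow_mul, mul_right_comm, ← he, pow_mul, pow_orderOf_eq_one, one_pow]
  rw [← hi, ← map_inv, ← map_mul, ← map_mul, h _ (pow_mem hy₀ _) hy1 x hx]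

end CfsgLib.Case
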