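import Cfsg.Prelude.Def_SubgroupEmbedding
import Cfsg.Prelude.Def_Local
import Cfsg.Agent.Lib.LocalEven.Cores
import Cfsg.Agent.Lib.LocalEven.CharP
import Cfsg.Agent.Lib.Components.GenFitting

/-!
Minimal counterexample reduction for the Sidki pair problem.
-/

set_option autoImplicit false
set_option linter.style.haveILetI false

namespace CfsgLib.Case.Sidki

open Subgroup Cfsg
open scoped Pointwise

universe u

variable {G : Type u} [Group G] [Finite G]

/-- `M` has no nontrivial normal 2-subgroup. -/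
def Free (M : Subgroup G) : Prop :=
  ∀ R : Subgroup G, R ≤ M → IsPGroup 2 R → M ≤ normalizer (R : Set G) → R = ⊥

theorem free_of_normal {X M : Subgroup G} (hMX : M ≤ X) (hXM : X ≤ normalizer (M : Set G))
    (hX : Free X) : Free M := by
  intro R hR hRp hRn
  haveI : Fact (Nat.Prime 2) := ⟨Nat.prime_two⟩
  set O := (pCore 2 M).map M.subtype with hO
  have hRO : R ≤ O := by
    rw [hO, ← map_subgroupOf_eq_of_le hR]
    exact map_mono (CfsgLib.LocalEven.le_core_of_normal
      ((normal_subgroupOf_iff_le_normalizer hR).2 hRn) hRp.comap_subtype)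
  have hOn : X ≤ normalizer (O : Set G) := by
    rw [le_normalizer_iff]
    intro x hx o ho
    obtain ⟨o, ho, rfl⟩ := ho
    haveI := CfsgLib.LocalEven.core_characteristic 2 M
    have h := characteristic_iff_map_eq.1 (inferInstance : (pCore 2 M).Characteristic)
      (M.normalizerMonoidHom ⟨x, hXM hx⟩)
    exact ⟨M.normalizerMonoidHom ⟨x, hXM hx⟩ o, h ▸ mem_map_of_mem _ ho, rfl⟩
  have hOb := hX O ((map_subtype_le _).trans hMX)
    ((CfsgLib.LocalEven.core_isPGroup 2 M).map _) hOn
  exact eq_bot_iff.2 (hOb ▸ hRO)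

theorem free_top (hO : pCore 2 G = ⊥) : Free (⊤ : Subgroup G) := fun R _ hRp hRn =>
  eq_bot_iff.2 (hO ▸ CfsgLib.LocalEven.le_core_of_normal
    (normalizer_eq_top_iff.1 (top_le_iff.1 hRn)) hRp)

theorem odd_eq_one_of_pow_two {α : Type*} [Group α] {x : α} (h : Odd (orderOf x)) {j : ℕ}
    (hj : x ^ 2 ^ j = 1) : x = 1 := by
  rw [← orderOf_eq_one_iff]
  exact Nat.eq_one_of_dvd_coprimes ((Nat.coprime_two_right.2 h).pow_right j) dvd_rfl
    (orderOf_dvd_of_pow_eq_one hj)

/-- An element of odd order in `M ⊔ W` lies in `M`, for a 2-group `W` normalizing `M`. -/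
theorem odd_mem {M W : Subgroup G} (hW : IsPGroup 2 W) (hWn : W ≤ normalizer (M : Set G)) {h : G}
    (hh : h ∈ M ⊔ W) (ho : Odd (orderOf h)) : h ∈ M := by
  set K := M ⊔ W with hK
  have hKn : K ≤ normalizer (M : Set G) := sup_le le_normalizer hWn
  haveI : (M.subgroupOf K).Normal := (normal_subgroupOf_iff_le_normalizer le_sup_left).2 hKn
  obtain ⟨j, hj⟩ : ∃ j, (M.subgroupOf K).index ∣ 2 ^ j := by
    haveI : Fact (Nat.Prime 2) := ⟨Nat.prime_two⟩
    obtain ⟨j, hj⟩ := IsPGroup.iff_card.1 hW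
    refine ⟨j, hj ▸ ?_⟩
    show M.relIndex (M ⊔ W) ∣ Nat.card W
    have hsurj : Function.Surjective
        ((QuotientGroup.mk' (M.subgroupOf K)).comp (inclusion (le_sup_right : W ≤ K))) := by
      intro x
      obtain ⟨⟨x, hx⟩, rfl⟩ := QuotientGroup.mk'_surjective _ x
      have hx' : x ∈ ((M : Set G) * (W : Set G)) := by
        rwa [← Subgroup.coe_mul_of_right_le_normalizer_left M W hWn]
      obtain ⟨m, hm, w, hw, rfl⟩ := hx'
      refine ⟨⟨w, hw⟩, QuotientGroup.eq.2 ?_⟩
      show w⁻¹ * (m * w) ∈ M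
      rw [← mul_assoc]
      simpa using (mem_normalizer_iff.1 (hWn (inv_mem hw)) m).1 hm
    exact card_dvd_of_surjective _ hsurj
  obtain ⟨c, hc⟩ := hj
  have h1 : (⟨h, hh⟩ : K) ^ 2 ^ j ∈ M.subgroupOf K := by
    rw [hc, pow_mul]
    exact pow_mem (pow_index_mem _ _) _
  have h2 : QuotientGroup.mk' (M.subgroupOf K) ⟨h, hh⟩ = 1 := by
    refine odd_eq_one_of_pow_two (j := j) ?_ ?_
    · refine Odd.of_dvd_nat ?_ (orderOf_map_dvd _ _)
      rwa [orderOf_mk]
    · rw [← map_pow]
      exact (QuotientGroup.eq_one_iff _).2 h1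
  exact (QuotientGroup.eq_one_iff (⟨h, hh⟩ : K)).1 h2

section Minimal

variable (hminG : ∀ (H : Type u) [Group H] [Finite H] (W : Subgroup H),
  Nat.card H < Nat.card G → Cfsg.IsElementaryAbelian 2 W → W ≠ ⊥ → Cfsg.IsSidkiPair W →
    W ⊓ Cfsg.pCore 2 H ≠ ⊥)

include hminG

/-- Minimality inside a proper subgroup. -/
theorem exists_mem_core {K W : Subgroup G} (hK : K ≠ ⊤) (hWK : W ≤ K)
    (hW : Cfsg.IsElementaryAbelian 2 W) (hW1 : W ≠ ⊥)
    (hS : ∀ (h v : G), h ∈ K → v ∈ W → Odd (orderOf h) → v * h * v⁻¹ = h⁻¹ →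
      ∃ w ∈ W, w ≠ 1 ∧ w * h = h * w) :
    ∃ w : K, (w : G) ∈ W ∧ w ≠ 1 ∧ w ∈ pCore 2 K := by
  obtain ⟨hWc, hW2⟩ := hW
  haveI := hWc
  have hlt : Nat.card K < Nat.card G := by
    refine lt_of_le_of_ne K.card_le_card_group fun h => hK ?_
    exact eq_top_of_card_eq K h
  have h := hminG K (W.subgroupOf K) hlt ⟨⟨⟨fun a b => Subtype.ext (Subtype.ext
      (congrArg Subtype.val (mul_comm' (⟨((a : K) : G), a.2⟩ : W) ⟨((b : K) : G), b.2⟩) :))⟩⟩, fun a ha =>
      Subtype.ext (hW2 (a : G) ha)⟩ ?_ ?_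
  · obtain ⟨w, hw, hw1⟩ := (bot_or_exists_ne_one _).resolve_left h
    exact ⟨w, hw.1, hw1, hw.2⟩
  · intro hb
    refine hW1 ?_
    rw [← map_subgroupOf_eq_of_le hWK, hb, Subgroup.map_bot]
  · intro h v hv ho he
    obtain ⟨w, hw, hw1, hwh⟩ := hS h v h.2 hv (by rwa [orderOf_coe])
      (by simpa using congrArg Subtype.val he)
    exact ⟨⟨w, hWK hw⟩, hw, fun e => hw1 (congrArg Subtype.val e), Subtype.ext hwh⟩

/-- A free subgroup normalized by a faithful `W` has an element inverted without a witness. -/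
theorem exists_no_witness {M W : Subgroup G} (hM : Free M) (hW : Cfsg.IsElementaryAbelian 2 W)
    (hW1 : W ≠ ⊥) (hWn : W ≤ normalizer (M : Set G)) (hK : M ⊔ W ≠ ⊤)
    (hf : W ⊓ centralizer (M : Set G) = ⊥) :
    ∃ u ∈ W, ∃ h ∈ M, Odd (orderOf h) ∧ u * h * u⁻¹ = h⁻¹ ∧ ∀ w ∈ W, w * h = h * w → w = 1 := by
  by_contra hcon
  push Not at hcon
  have hWp : IsPGroup 2 W := fun a => ⟨1, Subtype.ext (by simpa using hW.2 a a.2)⟩
  set K := M ⊔ W with hKdef
  obtain ⟨w, hwW, hw1, hwO⟩ := exists_mem_core hminG hK le_sup_right hW hW1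
    fun h v hh hv ho he => hcon v hv h (odd_mem hWp hWn hh ho) ho he |>.imp fun w h => ⟨h.1, h.2.2, h.2.1⟩
  have hKn : K ≤ normalizer (M : Set G) := sup_le le_normalizer hWn
  have hwC : (w : G) ∈ W ⊓ centralizer (M : Set G) := by
    refine ⟨hwW, fun m hm => ?_⟩
    set O := (pCore 2 K).map K.subtype with hO
    have hOn : K ≤ normalizer (O : Set G) := by
      rw [le_normalizer_iff]
      intro x hx o ho
      obtain ⟨o, ho, rfl⟩ := ho
      exact ⟨⟨x, hx⟩ * o * ⟨x, hx⟩⁻¹,
        (CfsgLib.LocalEven.core_normal 2 K).conj_mem o ho _, rfl⟩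
    have hb : O ⊓ M = ⊥ := by
      refine hM _ inf_le_right (((CfsgLib.LocalEven.core_isPGroup 2 K).map _).to_le inf_le_left) ?_
      intro x hx
      refine mem_normalizer_iff.2 fun z => ?_
      show z ∈ O ∧ z ∈ M ↔ x * z * x⁻¹ ∈ O ∧ x * z * x⁻¹ ∈ M
      rw [mem_normalizer_iff.1 (hOn (mem_sup_left hx)) z, mem_normalizer_iff.1 (le_normalizer hx) z]
    have h1 : (w : G) * m * (w : G)⁻¹ * m⁻¹ ∈ O ⊓ M := by
      refine ⟨?_, show (w : G) * m * (w : G)⁻¹ * m⁻¹ ∈ M from
        mul_mem ((mem_normalizer_iff.1 (hKn w.2) m).1 hm) (inv_mem (show m ∈ M from hm))⟩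
      have hwO' : (w : G) ∈ O := ⟨w, hwO, rfl⟩
      have h2 := (mem_normalizer_iff.1 (hOn (mem_sup_left hm)) _).1 (inv_mem hwO')
      simpa [mul_assoc] using mul_mem hwO' h2
    rw [hb, mem_bot, mul_inv_eq_one, mul_inv_eq_iff_eq_mul] at h1
    exact h1.symm
  rw [hf, mem_bot] at hwC
  exact hw1 (Subtype.ext hwC)

variable (V : Subgroup G) (hV : Cfsg.IsElementaryAbelian 2 V) (hV1 : V ≠ ⊥)
  (hS : Cfsg.IsSidkiPair V) (hVO : V ⊓ Cfsg.pCore 2 G = ⊥)

include hV hV1 hS

/-- Minimality in a quotient meeting `V` trivially. -/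
theorem exists_mem_core_quotient (R : Subgroup G) [R.Normal] (hR : R ≠ ⊥)
    (hinj : ∀ a ∈ V, a ∈ R → a = 1) :
    ∃ v ∈ V, v ≠ 1 ∧ QuotientGroup.mk' R v ∈ pCore 2 (G ⧸ R) := by
  set π := QuotientGroup.mk' R with hπ
  have hlt : Nat.card (G ⧸ R) < Nat.card G := by
    rw [card_eq_card_quotient_mul_card_subgroup R]
    exact lt_mul_of_one_lt_right Nat.card_pos ((one_lt_card_iff_ne_bot R).mpr hR)
  have hinj' : ∀ a ∈ V, π a = 1 → a = 1 := fun a ha h1 =>
    hinj a ha ((QuotientGroup.eq_one_iff a).1 h1)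
  obtain ⟨hVc, hV2⟩ := hV
  haveI := hVc
  have h := hminG (G ⧸ R) (V.map π) hlt ⟨⟨⟨?_⟩⟩, ?_⟩ ?_ ?_
  · obtain ⟨x, ⟨⟨v, hv, rfl⟩, hx⟩, hx1⟩ := (bot_or_exists_ne_one _).resolve_left h
    exact ⟨v, hv, fun e => hx1 (by rw [e, map_one]), hx⟩
  · rintro ⟨_, a, ha, rfl⟩ ⟨_, b, hb, rfl⟩
    refine Subtype.ext ?_
    show π a * π b = π b * π a
    rw [← map_mul, ← map_mul, show a * b = b * a from
      congrArg Subtype.val (mul_comm' (⟨a, ha⟩ : V) ⟨b, hb⟩)]
  · rintro _ ⟨a, ha, rfl⟩
    rw [← map_pow, hV2 a ha, map_one]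
  · intro hb
    refine hV1 (eq_bot_iff.2 fun a ha => mem_bot.2 (hinj' a ha ?_))
    rw [← mem_bot, ← hb]
    exact mem_map_of_mem π ha
  · intro x y hy ho he
    obtain ⟨v, hv, rfl⟩ := hy
    obtain ⟨x₀, rfl⟩ := QuotientGroup.mk'_surjective R x
    have hv2 : v * v = 1 := by rw [← sq]; exact hV2 v hv
    have hv' : v⁻¹ = v := inv_eq_of_mul_eq_one_right hv2
    -- a lift of `π x₀` inverted by `v`
    obtain ⟨k, hk⟩ := ho
    set c := x₀ ^ (k + 1) with hc
    set h0 := v * (c⁻¹ * v * c) with hh0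
    have hinv : v * h0 * v⁻¹ = h0⁻¹ := by
      rw [hh0, mul_inv_rev, mul_inv_rev, mul_inv_rev, inv_inv, hv', ← mul_assoc v v, hv2, one_mul]
      group
    have himg : π h0 = π x₀ := by
      have hvc : π v * (π c)⁻¹ * (π v)⁻¹ = π c := by
        rw [← conj_inv, hc, map_pow, ← conj_pow, he, inv_pow, inv_inv]
      calc π h0 = π v * (π c)⁻¹ * π v * π c := by
            rw [hh0, map_mul, map_mul, map_mul, map_inv]; group
        _ = π v * (π c)⁻¹ * (π v)⁻¹ * π c := by
            rw [show (π v)⁻¹ = π v by rw [← map_inv, hv']]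
        _ = π c * π c := by rw [hvc]
        _ = π x₀ ^ (orderOf (π x₀) + 1) := by
            rw [hc, map_pow, ← pow_add, hk]; congr 1; omega
        _ = π x₀ := by rw [pow_succ, pow_orderOf_eq_one, one_mul]
    obtain ⟨a, m, hm, hcard⟩ := Nat.exists_eq_pow_mul_and_not_dvd (orderOf_pos h0).ne' 2 (by norm_num)
    have hcop : (2 ^ a).Coprime (orderOf (π x₀)) :=
      ((Nat.coprime_two_right.2 ⟨k, hk⟩).pow_right a).symm
    obtain ⟨i, hi⟩ := exists_pow_eq_self_of_coprime hcop
    have hodd : Odd (orderOf (h0 ^ (2 ^ a * i))) := by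
      refine Odd.of_dvd_nat (show Odd m by rw [Nat.odd_iff]; omega) (orderOf_dvd_of_pow_eq_one ?_)
      rw [← pow_mul, mul_right_comm, ← hcard, pow_mul, pow_orderOf_eq_one, one_pow]
    obtain ⟨w, hw, hw1, hwh⟩ := hS (h0 ^ (2 ^ a * i)) v hv hodd
      (by rw [← conj_pow, hinv, inv_pow])
    refine ⟨π w, mem_map_of_mem π hw, fun e => hw1 (hinj' w hw e), ?_⟩
    have hπh : π (h0 ^ (2 ^ a * i)) = π x₀ := by rw [map_pow, himg, pow_mul, hi]
    rw [← hπh, ← map_mul, ← map_mul, hwh]

include hVO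

theorem pCore_eq_bot : pCore 2 G = ⊥ := by
  by_contra hR
  haveI : Fact (Nat.Prime 2) := ⟨Nat.prime_two⟩
  set R := pCore 2 G with hRdef
  haveI : R.Normal := CfsgLib.LocalEven.core_normal 2 G
  obtain ⟨v, hv, hv1, hx⟩ := exists_mem_core_quotient hminG V hV hV1 hS R hR fun a ha haR => by
    have : a ∈ V ⊓ R := ⟨ha, haR⟩
    rwa [hVO, mem_bot] at this
  have hP : IsPGroup 2 ((pCore 2 (G ⧸ R)).comap (QuotientGroup.mk' R)) :=
    (CfsgLib.LocalEven.core_isPGroup 2 (G ⧸ R)).comap_of_ker_isPGroup _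
      ((QuotientGroup.ker_mk' R).symm ▸ CfsgLib.LocalEven.core_isPGroup 2 G)
  have h1 : v ∈ V ⊓ R := ⟨hv, CfsgLib.LocalEven.le_core_of_normal
    ((CfsgLib.LocalEven.core_normal 2 (G ⧸ R)).comap _) hP hx⟩
  rw [hVO, mem_bot] at h1
  exact hv1 h1

variable (N : Subgroup G) [hNn : N.Normal] (hNb : N ≠ ⊥)
  (hNmin : ∀ K : Subgroup G, K.Normal → K ≤ N → K = ⊥ ∨ K = N)

include hNb hNmin

theorem sup_eq_top_and_faithful : N ⊔ V = ⊤ ∧ V ⊓ centralizer (N : Set G) = ⊥ := by
  haveI : Fact (Nat.Prime 2) := ⟨Nat.prime_two⟩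
  have hO : pCore 2 G = ⊥ := pCore_eq_bot hminG V hV hV1 hS hVO
  have hfN : Free N := free_of_normal le_top (by rw [normalizer_eq_top]) (free_top hO)
  set C := centralizer (N : Set G) with hC
  haveI : C.Normal := inferInstance
  set W := V ⊓ C with hW
  have hVn : V ≤ normalizer (N : Set G) := by rw [normalizer_eq_top]; exact le_top
  obtain ⟨hVc, hV2⟩ := hV
  haveI := hVc
  have hcomm : ∀ a ∈ V, ∀ b ∈ V, a * b = b * a := fun a ha b hb =>
    congrArg Subtype.val (mul_comm' (⟨a, ha⟩ : V) ⟨b, hb⟩)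
  have helem : ∀ U : Subgroup G, U ≤ V → Cfsg.IsElementaryAbelian 2 U := fun U hU =>
    ⟨⟨⟨fun a b => Subtype.ext (hcomm a (hU a.2) b (hU b.2))⟩⟩, fun a ha => hV2 a (hU ha)⟩
  -- `O₂(C)` is trivial
  have hOC : ∀ w : C, w ∈ pCore 2 C → w = 1 := by
    intro w hw
    have hfC : Free C := free_of_normal le_top (by rw [normalizer_eq_top]) (free_top hO)
    have := hfC ((pCore 2 C).map C.subtype) (map_subtype_le _)
      ((CfsgLib.LocalEven.core_isPGroup 2 C).map _) (by
        rw [le_normalizer_iff]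
        intro x hx o ho
        obtain ⟨o, ho, rfl⟩ := ho
        exact ⟨⟨x, hx⟩ * o * ⟨x, hx⟩⁻¹,
          (CfsgLib.LocalEven.core_normal 2 C).conj_mem o ho _, rfl⟩)
    have h1 : (w : G) ∈ (⊥ : Subgroup G) := this ▸ mem_map_of_mem C.subtype hw
    exact Subtype.ext h1
  -- `V` does not centralize `N`
  have hVC : ¬ V ≤ C := by
    intro hle
    by_cases hCtop : C = ⊤
    · -- `N` is central of odd order
      have hZ : N ≤ center G := fun n hn => mem_center_iff.2 fun g =>
        ((hCtop ▸ mem_top g : g ∈ C) n hn).symm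
      have hodd : Odd (Nat.card N) := by
        rw [Nat.odd_iff]
        by_contra hev
        obtain ⟨t, ht⟩ := exists_prime_orderOf_dvd_card' (G := N) 2 (by omega)
        have hb := hfN (zpowers (t : G)) (zpowers_le.2 t.2)
          (IsPGroup.of_card (n := 1) (by rw [Nat.card_zpowers, orderOf_coe, ht, pow_one]))
          fun m hm => mem_normalizer_iff.2 fun z => by
            have := mem_center_iff.1 (hZ hm) z
            rw [← this, mul_inv_cancel_right]
        rw [zpowers_eq_bot, OneMemClass.coe_eq_one] at hb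
        rw [hb, orderOf_one] at ht
        norm_num at ht
      obtain ⟨v, hv, hv1, hx⟩ := exists_mem_core_quotient hminG V ⟨hVc, hV2⟩ hV1 hS N hNb
        fun a ha haN => by
          rw [← orderOf_eq_one_iff]
          refine Nat.eq_one_of_dvd_coprimes (Nat.coprime_two_left.2 hodd)
            (orderOf_dvd_of_pow_eq_one (hV2 a ha)) ?_
          rw [← orderOf_mk a haN]; exact _root_.orderOf_dvd_natCard _
      refine hv1 ?_
      set π := QuotientGroup.mk' N with hπ
      -- the preimage of `O₂(G/N)` is nilpotent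
      set P := (pCore 2 (G ⧸ N)).comap π with hP
      haveI hPn : P.Normal := (CfsgLib.LocalEven.core_normal 2 (G ⧸ N)).comap π
      have hnil : Group.IsNilpotent P := by
        let f : P →* pCore 2 (G ⧸ N) := (π.comp P.subtype).codRestrict _ fun a => a.2
        haveI := (CfsgLib.LocalEven.core_isPGroup 2 (G ⧸ N)).isNilpotent
        refine Subgroup.isNilpotent_of_ker_le_center f ?_
        intro a ha
        have haN : (a : G) ∈ N := (QuotientGroup.eq_one_iff _).1 (congrArg Subtype.val ha)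
        exact mem_center_iff.2 fun b => Subtype.ext (mem_center_iff.1 (hZ haN) b)
      have hvp : IsPGroup 2 (zpowers (⟨v, hx⟩ : P)) := by
        obtain ⟨i, -, hi⟩ := (Nat.dvd_prime_pow Nat.prime_two).1
          (orderOf_dvd_of_pow_eq_one (show (⟨v, hx⟩ : P) ^ 2 ^ 1 = 1 from
            Subtype.ext (by simpa using hV2 v hv)))
        exact IsPGroup.of_card (n := i) (by rw [Nat.card_zpowers, hi])
      obtain ⟨S, hS'⟩ := hvp.exists_le_sylow
      haveI : (S : Subgroup P).Normal := by
        have h := (Group.isNilpotent_of_finite_tfae (G := P)).out 0 3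
        exact (h.1 hnil) 2 inferInstance S
      haveI := S.characteristic_of_normal inferInstance
      have hle' := CfsgLib.LocalEven.le_core_of_normal (p := 2)
        (N := (S : Subgroup P).map P.subtype) inferInstance (S.isPGroup'.map _)
      have hv1' : v ∈ pCore 2 G := hle' ⟨⟨v, hx⟩, hS' (mem_zpowers _), rfl⟩
      rwa [hO, mem_bot] at hv1'
    · obtain ⟨w, -, hw1, hwO⟩ := exists_mem_core hminG hCtop hle (helem V le_rfl) hV1
        fun h v _ hv ho he => hS h v hv ho he
      exact hw1 (hOC w hwO)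
  have hCtop : C ≠ ⊤ := fun h => hVC (h ▸ le_top)
  -- `V` is faithful, given properness
  have key : ∀ U : Subgroup G, U ≤ V → ¬ U ≤ C → (∀ U' : Subgroup G, U' ≤ U → U' ⊓ C = ⊥ → N ⊔ U' ≠ ⊤) →
      ∃ u ∈ U, ∃ n ∈ N, Odd (orderOf n) ∧ u * n * u⁻¹ = n⁻¹ ∧ ∀ w ∈ U, w * n = n * w → w ∈ C := by
    intro U hU hUC hprop
    obtain ⟨U', hU'⟩ := (Set.toFinite {U' : Subgroup G | U' ≤ U ∧ U' ⊓ C = ⊥}).exists_maximal
      ⟨⊥, bot_le, bot_inf_eq _⟩
    obtain ⟨hU'le, hU'C⟩ := hU'.prop
    have hgen : ∀ x ∈ U, ∃ a ∈ U', a * x ∈ C := by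
      intro x hx
      by_contra hne
      push Not at hne
      let T : Subgroup G :=
        { carrier := {y | y ∈ U' ∨ ∃ a ∈ U', y = a * x}
          one_mem' := Or.inl (one_mem _)
          mul_mem' := by
            rintro y y' (hy | ⟨a, ha, rfl⟩) (hy' | ⟨b, hb, rfl⟩)
            · exact Or.inl (mul_mem hy hy')
            · exact Or.inr ⟨y * b, mul_mem hy hb, (mul_assoc _ _ _).symm⟩
            · refine Or.inr ⟨a * y', mul_mem ha hy', ?_⟩
              rw [mul_assoc, hcomm x (hU hx) y' (hU (hU'le hy')), mul_assoc]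
            · refine Or.inl ?_
              have : a * x * (b * x) = a * b * (x * x) := by
                rw [mul_assoc, ← mul_assoc x b, hcomm x (hU hx) b (hU (hU'le hb))]
                simp only [mul_assoc]
              rw [this, ← sq, hV2 x (hU hx), mul_one]
              exact mul_mem ha hb
          inv_mem' := by
            rintro y (hy | ⟨a, ha, rfl⟩)
            · exact Or.inl (inv_mem hy)
            · refine Or.inr ⟨a⁻¹, inv_mem ha, ?_⟩
              rw [mul_inv_rev, inv_eq_of_mul_eq_one_right (by rw [← sq]; exact hV2 x (hU hx) : x * x = 1),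
                hcomm x (hU hx) a⁻¹ (hU (hU'le (inv_mem ha)))] }
      have hTle : T ≤ U := by
        rintro y (hy | ⟨a, ha, rfl⟩)
        · exact hU'le hy
        · exact mul_mem (hU'le ha) hx
      have hTC : T ⊓ C = ⊥ := by
        rw [eq_bot_iff]
        rintro y ⟨hy | ⟨a, ha, rfl⟩, hyC⟩
        · exact hU'C ▸ ⟨hy, hyC⟩
        · exact absurd hyC (hne a ha)
      have hxU' : x ∈ U' := hU'.le_of_ge (y := T) ⟨hTle, hTC⟩ (fun y hy => Or.inl hy)
        (Or.inr ⟨1, one_mem _, (one_mul x).symm⟩)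
      exact hne x⁻¹ (inv_mem hxU') (by rw [inv_mul_cancel]; exact one_mem _)
    have hU'b : U' ≠ ⊥ := by
      intro hb
      refine hUC fun x hx => ?_
      obtain ⟨a, ha, hax⟩ := hgen x hx
      rw [hb, mem_bot] at ha
      rwa [ha, one_mul] at hax
    obtain ⟨u, hu, n, hn, ho, he, hw⟩ := exists_no_witness hminG hfN (helem U' (hU'le.trans hU))
      hU'b ((hU'le.trans hU).trans hVn) (hprop U' hU'le hU'C) hU'C
    refine ⟨u, hU'le hu, n, hn, ho, he, fun w hw' hwn => ?_⟩
    obtain ⟨a, ha, hax⟩ := hgen w hw'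
    have h1 : a * w * n = n * (a * w) := (hax n hn).symm
    have h2 : a * n = n * a := by
      rw [mul_assoc, hwn] at h1
      refine mul_right_cancel (b := w) ?_
      simpa [mul_assoc] using h1
    have h3 : a = 1 := hw a ha h2
    rwa [h3, one_mul] at hax
  have hWbot : W = ⊥ := by
    by_contra hW1
    -- faithful subgroups do not supplement `N`
    have hproper : ∀ U' : Subgroup G, U' ≤ V → U' ⊓ C = ⊥ → N ⊔ U' ≠ ⊤ := by
      intro U' hU' hU'C htop
      obtain ⟨w, hw, hw1⟩ := (bot_or_exists_ne_one _).resolve_left hW1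
      haveI : (N ⊓ C).Normal := inferInstance
      rcases hNmin (N ⊓ C) inferInstance inf_le_left with hz | hz
      · -- `C` embeds into `G ⧸ N`, so is a 2-group
        refine hw1 ?_
        have hU'p : IsPGroup 2 U' := fun a => ⟨1, Subtype.ext (by simpa using hV2 a (hU' a.2))⟩
        have hCp : IsPGroup 2 C := by
          let f : C →* G ⧸ N := (QuotientGroup.mk' N).comp C.subtype
          have hQ : IsPGroup 2 (G ⧸ N) := by
            refine hU'p.of_surjective ((QuotientGroup.mk' N).comp U'.subtype) fun x => ?_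
            obtain ⟨x, rfl⟩ := QuotientGroup.mk'_surjective N x
            obtain ⟨m, hm, b, hb, rfl⟩ :=
              mem_sup_of_normal_left.1 (htop ▸ mem_top x : x ∈ N ⊔ U')
            refine ⟨⟨b, hb⟩, ?_⟩
            show QuotientGroup.mk' N b = QuotientGroup.mk' N (m * b)
            rw [map_mul, show QuotientGroup.mk' N m = 1 from (QuotientGroup.eq_one_iff m).2 hm, one_mul]
          refine hQ.of_injective f ((injective_iff_map_eq_one f).2 fun a ha => ?_)
          have : (a : G) ∈ N ⊓ C := ⟨(QuotientGroup.eq_one_iff _).1 ha, a.2⟩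
          rw [hz, mem_bot] at this
          exact Subtype.ext this
        have h1 := CfsgLib.LocalEven.le_core_of_normal (p := 2) (N := C) inferInstance hCp hw.2
        rwa [hO, mem_bot] at h1
      · -- `N` is abelian and equals `C`
        refine hw1 ?_
        have hNC : N ≤ C := hz ▸ inf_le_right
        have hwN : w ∈ N := by
          obtain ⟨m, hm, b, hb, hmb⟩ := mem_sup_of_normal_left.1 (htop ▸ mem_top w : w ∈ N ⊔ U')
          have hbC : b ∈ U' ⊓ C := ⟨hb, by
            have : b = m⁻¹ * w := by rw [← hmb, inv_mul_cancel_left]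
            rw [this]; exact (mul_mem (inv_mem (hNC hm)) (show w ∈ C from hw.2) : m⁻¹ * w ∈ C)⟩
          rw [hU'C, mem_bot] at hbC
          rw [hbC, mul_one] at hmb
          exact hmb ▸ hm
        have hb := hfN (zpowers w) (zpowers_le.2 hwN) (by
          obtain ⟨i, -, hi⟩ := (Nat.dvd_prime_pow Nat.prime_two).1
            (orderOf_dvd_of_pow_eq_one (show w ^ 2 ^ 1 = 1 by simpa using hV2 w hw.1))
          exact IsPGroup.of_card (n := i) (by rw [Nat.card_zpowers, hi]))
          fun m hm => mem_normalizer_iff.2 fun z => by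
            refine ⟨fun hz' => ?_, fun hz' => ?_⟩
            · have h1 : z * m = m * z := ((hNC (zpowers_le.2 hwN hz')) m hm).symm
              rwa [← h1, mul_inv_cancel_right]
            · have hzN : m * z * m⁻¹ ∈ N := zpowers_le.2 hwN hz'
              have h1 : m * (m * z * m⁻¹) = (m * z * m⁻¹) * m := hNC hzN m hm
              have h2 : m * z * m⁻¹ = z := by
                have := congrArg (fun y => m⁻¹ * y) h1
                simpa [mul_assoc] using this
              rwa [h2] at hz'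
        rwa [zpowers_eq_bot] at hb
    obtain ⟨w, hwW, hw1, hwO⟩ := exists_mem_core hminG hCtop inf_le_right (helem W inf_le_left)
      hW1 fun h v hhC hvW ho he => by
        let U : Subgroup G := V ⊓ centralizer ({h} : Set G)
        obtain ⟨u, hu, hu1, huh⟩ := hS h v hvW.1 ho he
        by_cases hUW : U ≤ W
        · exact ⟨u, hUW ⟨hu, mem_centralizer_singleton_iff.2 huh⟩, hu1, huh⟩
        -- combine with an element of `N`
        obtain ⟨u', hu', n, hn, hno, hne', hnw⟩ := key U inf_le_left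
          (fun hle => hUW (le_inf inf_le_left hle))
          fun U' hU'U hU'C => hproper U' (hU'U.trans inf_le_left) hU'C
        have hnh : Commute n h := hhC n hn
        have hvn : Commute v n := (hvW.2 n hn).symm
        have hu'h : u' * h = h * u' := mem_centralizer_singleton_iff.1 hu'.2
        have hodd : Odd (orderOf (h * n)) :=
          Odd.of_dvd_nat (ho.mul hno) hnh.symm.orderOf_mul_dvd_mul_orderOf
        obtain ⟨w, hw, hw1, hwhn⟩ := hS (h * n) (v * u') (mul_mem hvW.1 hu'.1) hodd (by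
          calc v * u' * (h * n) * (v * u')⁻¹
              = v * ((u' * h * u'⁻¹) * (u' * n * u'⁻¹)) * v⁻¹ := by group
            _ = v * (h * n⁻¹) * v⁻¹ := by rw [hu'h, mul_inv_cancel_right, hne']
            _ = (v * h * v⁻¹) * (v * n⁻¹ * v⁻¹) := by group
            _ = h⁻¹ * n⁻¹ := by rw [he, hvn.inv_right.eq, mul_inv_cancel_right]
            _ = (h * n)⁻¹ := by rw [← mul_inv_rev, hnh.eq])
        -- conjugate the witness relation by `v`
        have hwv : Commute w v := hcomm w hw v hvW.1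
        have h2 : Commute w (h⁻¹ * n) := by
          have e : v * (h * n) * v⁻¹ = h⁻¹ * n := by
            rw [← conj_mul, he, hvn.eq, mul_inv_cancel_right]
          rw [← e]
          exact (hwv.mul_right hwhn).mul_right hwv.inv_right
        have h3 : Commute w (n ^ 2) := by
          have e : (h * n) * (h⁻¹ * n) = n ^ 2 := by
            rw [mul_assoc h n, ← mul_assoc n h⁻¹, hnh.inv_right.eq, mul_assoc h⁻¹, ← mul_assoc h,
              mul_inv_cancel, one_mul, sq]
          rw [← e]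
          exact (show Commute w (h * n) from hwhn).mul_right h2
        have h4 : Commute w n := by
          obtain ⟨k, hk⟩ := hno
          have e : n = (n ^ 2) ^ (k + 1) := by
            rw [← pow_mul, show 2 * (k + 1) = orderOf n + 1 by omega, pow_succ, pow_orderOf_eq_one,
              one_mul]
          rw [e]
          exact h3.pow_right _
        have h5 : Commute w h := by
          have e : h = (h * n) * n⁻¹ := by group
          rw [e]
          exact (show Commute w (h * n) from hwhn).mul_right h4.inv_right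
        exact ⟨w, ⟨hw, hnw w ⟨hw, mem_centralizer_singleton_iff.2 h5.eq⟩ h4.eq⟩, hw1, h5.eq⟩
    exact hw1 (hOC w hwO)
  refine ⟨?_, hWbot⟩
  by_contra hprop
  obtain ⟨u, hu, n, hn, ho, he, hw⟩ := key V le_rfl hVC fun U' hU' _ htop =>
    hprop (top_le_iff.1 (htop ▸ sup_le_sup_left hU' N))
  obtain ⟨w, hwV, hw1, hwn⟩ := hS n u hu ho he
  exact hw1 (mem_bot.1 (hWbot ▸ (⟨hwV, hw w hwV hwn⟩ : w ∈ W)))

theorem nonabelian : ¬ IsMulCommutative N := by
  intro hab
  obtain ⟨htop, hf⟩ := sup_eq_top_and_faithful hminG V hV hV1 hS hVO N hNb hNmin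
  haveI : Fact (Nat.Prime 2) := ⟨Nat.prime_two⟩
  have hfN : Free N := free_of_normal le_top (by rw [normalizer_eq_top])
    (free_top (pCore_eq_bot hminG V hV hV1 hS hVO))
  obtain ⟨hVc, hV2⟩ := hV
  haveI := hVc
  haveI := hab
  have hNc : ∀ a ∈ N, ∀ b ∈ N, a * b = b * a := fun a ha b hb =>
    congrArg Subtype.val (mul_comm' (⟨a, ha⟩ : N) ⟨b, hb⟩)
  -- a nontrivial element of `V` inverts `N`
  have hinv : ∀ w ∈ V, w ≠ 1 → ∀ n ∈ N, w * n * w⁻¹ = n⁻¹ := by
    intro w hw hw1
    have hE : (N ⊓ centralizer ({w} : Set G)).Normal := by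
      rw [← normalizer_eq_top_iff, eq_top_iff, ← htop]
      refine sup_le (fun x hx => mem_normalizer_iff.2 fun z => ?_) (fun x hx => mem_normalizer_iff.2 fun z => ?_)
      · constructor
        · intro hz
          rwa [hNc x hx z hz.1, mul_inv_cancel_right]
        · intro hz
          have hzN : z ∈ N := by
            have h := mul_mem (mul_mem (inv_mem hx) hz.1) hx
            simpa [mul_assoc] using h
          rwa [hNc x hx z hzN, mul_inv_cancel_right] at hz
      · have hxw : x * w = w * x := congrArg Subtype.val (mul_comm' (⟨x, hx⟩ : V) ⟨w, hw⟩)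
        show z ∈ N ∧ z ∈ centralizer ({w} : Set G) ↔
          x * z * x⁻¹ ∈ N ∧ x * z * x⁻¹ ∈ centralizer ({w} : Set G)
        rw [mem_centralizer_singleton_iff, mem_centralizer_singleton_iff]
        constructor
        · rintro ⟨h1, h2⟩
          refine ⟨hNn.conj_mem z h1 x, ?_⟩
          have : Commute w (x * z * x⁻¹) :=
            ((show Commute w x from hxw.symm).mul_right h2.symm).mul_right
              (show Commute w x from hxw.symm).inv_right
          exact this.eq.symm
        · rintro ⟨h1, h2⟩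
          have e : z = x⁻¹ * (x * z * x⁻¹) * x := by group
          refine ⟨e ▸ by simpa using hNn.conj_mem _ h1 x⁻¹, ?_⟩
          have : Commute w (x⁻¹ * (x * z * x⁻¹) * x) :=
            ((show Commute w x from hxw.symm).inv_right.mul_right h2.symm).mul_right
              (show Commute w x from hxw.symm)
          rw [← e] at this
          exact this.eq.symm
    rcases hNmin _ hE inf_le_left with h | h
    · intro n hn
      have hw2 : w * w = 1 := by rw [← sq]; exact hV2 w hw
      have hw' : w⁻¹ = w := inv_eq_of_mul_eq_one_right hw2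
      have hnw : w * n * w⁻¹ ∈ N := hNn.conj_mem n hn w
      have hm : n * (w * n * w⁻¹) ∈ N ⊓ centralizer ({w} : Set G) := by
        refine ⟨mul_mem hn hnw, mem_centralizer_singleton_iff.2 ?_⟩
        refine (mul_inv_eq_iff_eq_mul.1 ?_).symm
        calc w * (n * (w * n * w⁻¹)) * w⁻¹ = (w * n * w⁻¹) * ((w * w) * n * (w * w)⁻¹) := by group
          _ = n * (w * n * w⁻¹) := by rw [hw2, one_mul, inv_one, mul_one]; exact hNc _ hnw _ hn
      rw [h, mem_bot] at hm
      exact eq_inv_of_mul_eq_one_right hm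
    · refine absurd ?_ hw1
      have : w ∈ V ⊓ centralizer (N : Set G) := ⟨hw, fun n hn => by
        have h1 : n ∈ N ⊓ centralizer ({w} : Set G) := h.symm ▸ hn
        exact mem_centralizer_singleton_iff.1 h1.2⟩
      rwa [hf, mem_bot] at this
  obtain ⟨v, hv, hv1⟩ := (bot_or_exists_ne_one _).resolve_left hV1
  obtain ⟨n, hn, hn1⟩ := (bot_or_exists_ne_one _).resolve_left hNb
  have hodd : Odd (orderOf n) := by
    rw [Nat.odd_iff]
    by_contra hev
    have h2 : 2 ∣ orderOf n := by omega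
    have ho := orderOf_pow_orderOf_div (orderOf_pos n).ne' h2
    set t := n ^ (orderOf n / 2) with ht
    have htN : t ∈ N := pow_mem hn _
    have hb := hfN (zpowers t) (zpowers_le.2 htN)
      (IsPGroup.of_card (n := 1) (by rw [Nat.card_zpowers, ho, pow_one]))
      fun m hm => mem_normalizer_iff.2 fun z => by
        refine ⟨fun hz => ?_, fun hz => ?_⟩
        · rwa [hNc m hm z (zpowers_le.2 htN hz), mul_inv_cancel_right]
        · have hzN : m * z * m⁻¹ ∈ N := zpowers_le.2 htN hz
          have h1 := hNc m hm _ hzN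
          have h3 : m * z * m⁻¹ = z := by
            have := congrArg (fun y => m⁻¹ * y) h1
            simpa [mul_assoc] using this
          rwa [h3] at hz
    rw [zpowers_eq_bot] at hb
    rw [hb, orderOf_one] at ho
    norm_num at ho
  obtain ⟨w, hw, hw1, hwn⟩ := hS n v hv hodd (hinv v hv hv1 n hn)
  have h := hinv w hw hw1 n hn
  rw [hwn, mul_inv_cancel_right] at h
  refine hn1 (odd_eq_one_of_pow_two hodd (j := 1) ?_)
  rw [pow_one, sq]
  nth_rw 2 [h]
  rw [mul_inv_cancel]

theorem isSimpleGroup : IsSimpleGroup N := by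
  obtain ⟨htop, hf⟩ := sup_eq_top_and_faithful hminG V hV hV1 hS hVO N hNb hNmin
  have hna := nonabelian hminG V hV hV1 hS hVO N hNb hNmin
  haveI : Fact (Nat.Prime 2) := ⟨Nat.prime_two⟩
  have hfN : Free N := free_of_normal le_top (by rw [normalizer_eq_top])
    (free_top (pCore_eq_bot hminG V hV hV1 hS hVO))
  obtain ⟨hVc, hV2⟩ := hV
  haveI := hVc
  have hcomm : ∀ a ∈ V, ∀ b ∈ V, a * b = b * a := fun a ha b hb =>
    congrArg Subtype.val (mul_comm' (⟨a, ha⟩ : V) ⟨b, hb⟩)
  have hself : ∀ a ∈ V, a⁻¹ = a := fun a ha =>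
    inv_eq_of_mul_eq_one_right (by rw [← sq]; exact hV2 a ha)
  haveI : Nontrivial N := (nontrivial_iff_ne_bot N).2 hNb
  refine ⟨fun H hH => ?_⟩
  by_contra hne
  push Not at hne
  obtain ⟨hHb, hHt⟩ := hne
  -- a minimal `N`-invariant subgroup below `H`
  obtain ⟨L, hL⟩ := (Set.toFinite {L : Subgroup G | L ≤ H.map N.subtype ∧ L ≠ ⊥ ∧
      N ≤ normalizer (L : Set G)}).exists_minimal ⟨H.map N.subtype, le_rfl, by
        rwa [Ne, map_eq_bot_iff_of_injective _ N.subtype_injective], by
        have h := (normal_subgroupOf_iff_le_normalizer (map_subtype_le H)).1 (by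
          rw [subgroupOf, comap_map_eq_self_of_injective N.subtype_injective]; exact hH)
        exact h⟩
  obtain ⟨hLH, hLb, hLn⟩ := hL.prop
  have hLN : L ≤ N := hLH.trans (map_subtype_le _)
  have hmin : ∀ K : Subgroup G, K ≤ L → K ≠ ⊥ → N ≤ normalizer (K : Set G) → K = L := fun K hK hKb hKn =>
    le_antisymm hK (hL.le_of_le ⟨hK.trans hLH, hKb, hKn⟩ hK)
  have hLne : L ≠ N := fun h => hHt (by
    refine eq_top_iff.2 fun x _ => ?_
    obtain ⟨y, hy, hyx⟩ : (x : G) ∈ H.map N.subtype := hLH (h.symm ▸ x.2)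
    exact (Subtype.ext hyx : y = x) ▸ hy)
  have hV1ne : ¬ V ≤ normalizer (L : Set G) := fun h => by
    have hLnormal : L.Normal := by
      rw [← normalizer_eq_top_iff, eq_top_iff, ← htop]
      exact sup_le hLn h
    rcases hNmin L hLnormal hLN with h1 | h1
    · exact hLb h1
    · exact hLne h1
  have hLf : Free L := free_of_normal hLN hLn hfN
  -- different conjugates meet trivially and commute
  have hdisj : ∀ a ∈ V, a ∉ normalizer (L : Set G) → ∀ x ∈ L, a * x * a⁻¹ ∈ L → x = 1 := by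
    intro a ha haL x hx hax
    set K := L ⊓ L.map (MulAut.conj a).toMonoidHom with hK
    have hKn : N ≤ normalizer (K : Set G) := by
      rw [le_normalizer_iff]
      rintro n hn y ⟨hy1, z, hz, hzy⟩
      refine ⟨le_normalizer_iff.1 hLn n hn y hy1, (a⁻¹ * n * a) * z * (a⁻¹ * n * a)⁻¹, ?_, ?_⟩
      · refine le_normalizer_iff.1 hLn _ ?_ z hz
        simpa using hNn.conj_mem n hn a⁻¹
      · show a * ((a⁻¹ * n * a) * z * (a⁻¹ * n * a)⁻¹) * a⁻¹ = n * y * n⁻¹
        rw [← hzy]
        show _ = n * (a * z * a⁻¹) * n⁻¹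
        group
    by_contra hx1
    have hKb : K ≠ ⊥ := fun hb => hx1 (by
      have h1 : a * x * a⁻¹ ∈ K := ⟨hax, x, hx, rfl⟩
      rw [hb, mem_bot, conj_eq_one_iff] at h1
      exact h1)
    have hKL := hmin K inf_le_left hKb hKn
    refine haL (mem_normalizer_iff.2 fun y => ?_)
    have hsub : ∀ y ∈ L, a * y * a⁻¹ ∈ L := by
      intro y hy
      obtain ⟨z, hz, hzy⟩ : y ∈ L.map (MulAut.conj a).toMonoidHom := (hKL.symm ▸ hy : y ∈ K).2
      have : a * y * a⁻¹ = z := by
        rw [← hzy]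
        show a * (a * z * a⁻¹) * a⁻¹ = z
        have h2 : a * a = 1 := by rw [← sq]; exact hV2 a ha
        calc a * (a * z * a⁻¹) * a⁻¹ = (a * a) * z * (a * a)⁻¹ := by group
          _ = z := by rw [h2, one_mul, inv_one, mul_one]
      exact this ▸ hz
    refine ⟨hsub y, fun hy => ?_⟩
    have h2 : a * a = 1 := by rw [← sq]; exact hV2 a ha
    have h3 := hsub _ hy
    have e : a * (a * y * a⁻¹) * a⁻¹ = y := by
      calc a * (a * y * a⁻¹) * a⁻¹ = (a * a) * y * (a * a)⁻¹ := by group
        _ = y := by rw [h2, one_mul, inv_one, mul_one]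
    rwa [e] at h3
  have hcommL : ∀ a ∈ V, a ∉ normalizer (L : Set G) → ∀ x ∈ L, ∀ m ∈ L,
      Commute (a * x * a⁻¹) m := by
    intro a ha haL x hx m hm
    have hanN : a * x * a⁻¹ ∈ N := hNn.conj_mem x (hLN hx) a
    set c := m * (a * x * a⁻¹) * m⁻¹ * (a * x * a⁻¹)⁻¹ with hc
    have h1 : c ∈ L := by
      have := mul_mem hm (le_normalizer_iff.1 hLn _ hanN _ (inv_mem hm))
      rw [hc]
      simpa [mul_assoc] using this
    have hmN : a⁻¹ * m * a ∈ N := by simpa using hNn.conj_mem m (hLN hm) a⁻¹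
    have h2 : a⁻¹ * c * a ∈ L := by
      have e : a⁻¹ * c * a = (a⁻¹ * m * a) * x * (a⁻¹ * m * a)⁻¹ * x⁻¹ := by rw [hc]; group
      rw [e]
      exact mul_mem (le_normalizer_iff.1 hLn _ hmN x hx) (inv_mem hx)
    have hc1 : c = 1 := by
      refine hdisj a ha haL c h1 ?_
      rwa [hself a ha] at h2 ⊢
    rw [hc, mul_inv_eq_one, mul_inv_eq_iff_eq_mul] at hc1
    exact hc1.symm
  -- the join of the conjugates of `L` is `N`
  set K := ⨆ a : V, L.map (MulAut.conj (a : G)).toMonoidHom with hKdef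
  have hKN : K = N := by
    have hKn : K.Normal := by
      rw [← normalizer_eq_top_iff, eq_top_iff, ← htop]
      refine sup_le ?_ ?_
      · rw [le_normalizer_iff]
        intro n hn k hk
        have : K ≤ K.comap (MulAut.conj n).toMonoidHom := iSup_le fun a => by
          rintro _ ⟨z, hz, rfl⟩
          refine mem_iSup_of_mem a ⟨((a : G)⁻¹ * n * a) * z * ((a : G)⁻¹ * n * a)⁻¹, ?_, ?_⟩
          · refine le_normalizer_iff.1 hLn _ ?_ z hz
            simpa using hNn.conj_mem n hn (a : G)⁻¹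
          · show (a : G) * (((a : G)⁻¹ * n * a) * z * ((a : G)⁻¹ * n * a)⁻¹) * (a : G)⁻¹ =
              n * ((a : G) * z * (a : G)⁻¹) * n⁻¹
            group
        exact this hk
      · rw [le_normalizer_iff]
        intro b hb k hk
        have : K ≤ K.comap (MulAut.conj b).toMonoidHom := iSup_le fun a => by
          rintro _ ⟨z, hz, rfl⟩
          refine mem_iSup_of_mem (⟨b, hb⟩ * a) ⟨z, hz, ?_⟩
          show b * (a : G) * z * (b * (a : G))⁻¹ = b * ((a : G) * z * (a : G)⁻¹) * b⁻¹
          group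
        exact this hk
    refine (hNmin K hKn (iSup_le fun a => ?_)).resolve_left fun hb => hLb (eq_bot_iff.2 ?_)
    · rintro _ ⟨z, hz, rfl⟩
      exact hNn.conj_mem z (hLN hz) _
    · intro z hz
      rw [← hb]
      refine mem_iSup_of_mem (1 : V) ⟨z, hz, ?_⟩
      show (1 : G) * z * (1 : G)⁻¹ = z
      group
  -- elements of `V` normalizing and centralizing `L` are trivial
  have hfL : (V ⊓ normalizer (L : Set G)) ⊓ centralizer (L : Set G) = ⊥ := by
    rw [eq_bot_iff]
    rintro a ⟨⟨ha, -⟩, hac⟩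
    rw [← hf]
    refine ⟨ha, ?_⟩
    have : N ≤ centralizer ({a} : Set G) := by
      rw [← hKN]
      refine iSup_le fun b => ?_
      rintro _ ⟨z, hz, rfl⟩
      refine mem_centralizer_singleton_iff.2 ?_
      have hab : Commute a (b : G) := hcomm a ha b b.2
      have haz : Commute a z := (hac z hz).symm
      exact ((hab.mul_right haz).mul_right hab.inv_right).eq.symm
    exact fun n hn => mem_centralizer_singleton_iff.1 (this hn)
  by_cases hW : V ⊓ normalizer (L : Set G) = ⊥
  · -- `L` has trivial centre and two factors give a bad element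
    have hZ : ∀ x ∈ L, (∀ m ∈ L, Commute x m) → x = 1 := by
      intro x hx hxc
      by_contra hx1
      set Z := L ⊓ centralizer (L : Set G) with hZdef
      have hZn : N ≤ normalizer (Z : Set G) := by
        rw [le_normalizer_iff]
        rintro n hn y ⟨hy1, hy2⟩
        refine ⟨le_normalizer_iff.1 hLn n hn y hy1, fun m hm => ?_⟩
        have hm' : n⁻¹ * m * n ∈ L := by simpa using le_normalizer_iff.1 hLn n⁻¹ (inv_mem hn) m hm
        have := hy2 _ hm'
        calc m * (n * y * n⁻¹) = n * ((n⁻¹ * m * n) * y) * n⁻¹ := by group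
          _ = n * (y * (n⁻¹ * m * n)) * n⁻¹ := by rw [this]
          _ = n * y * n⁻¹ * m := by group
      have hZb : Z ≠ ⊥ := fun hb => hx1 (by
        have : x ∈ Z := ⟨hx, fun m hm => (hxc m hm).eq.symm⟩
        rwa [hb, mem_bot] at this)
      have hZL := hmin Z inf_le_left hZb hZn
      refine hna ?_
      have hLab : ∀ y ∈ L, ∀ m ∈ L, Commute y m := fun y hy m hm => ((hZL.symm ▸ hy : y ∈ Z).2 m hm).symm
      have hKab : K ≤ centralizer (K : Set G) := by
        refine iSup_le fun a => ?_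
        rintro _ ⟨y, hy, rfl⟩
        rw [mem_centralizer_iff]
        intro k hk
        have hle : K ≤ centralizer ({(a : G) * y * (a : G)⁻¹} : Set G) := by
          refine iSup_le fun b => ?_
          rintro _ ⟨m, hm, rfl⟩
          refine mem_centralizer_singleton_iff.2 ?_
          show (b : G) * m * (b : G)⁻¹ * ((a : G) * y * (a : G)⁻¹) = (a : G) * y * (a : G)⁻¹ * ((b : G) * m * (b : G)⁻¹)
          have key : Commute ((b : G)⁻¹ * (a : G) * y * ((b : G)⁻¹ * (a : G))⁻¹) m := by
            have hba : (b : G)⁻¹ * (a : G) ∈ V := mul_mem (inv_mem b.2) a.2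
            by_cases hn : (b : G)⁻¹ * (a : G) ∈ normalizer (L : Set G)
            · exact hLab _ ((mem_normalizer_iff.1 hn y).1 hy) m hm
            · exact hcommL _ hba hn y hy m hm
          calc (b : G) * m * (b : G)⁻¹ * ((a : G) * y * (a : G)⁻¹)
              = (b : G) * (m * ((b : G)⁻¹ * (a : G) * y * ((b : G)⁻¹ * (a : G))⁻¹)) * (b : G)⁻¹ := by group
            _ = (b : G) * (((b : G)⁻¹ * (a : G) * y * ((b : G)⁻¹ * (a : G))⁻¹) * m) * (b : G)⁻¹ := by
              rw [key.eq]
            _ = _ := by group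
        exact mem_centralizer_singleton_iff.1 (hle hk)
      exact ⟨⟨fun x y => Subtype.ext ((hKab (hKN.symm ▸ y.2) x (hKN.symm ▸ x.2)))⟩⟩
    -- an element of odd order in `L`
    obtain ⟨l, hl, hl1, hlo⟩ : ∃ l ∈ L, l ≠ 1 ∧ Odd (orderOf l) := by
      by_contra hcon
      push Not at hcon
      refine hLb (hLf L le_rfl ?_ le_normalizer)
      rw [IsPGroup.iff_card]
      refine ⟨(Nat.card L).primeFactorsList.length, Nat.eq_prime_pow_of_unique_prime_dvd
        Nat.card_pos.ne' fun {q} hq hqd => ?_⟩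
      by_contra hq2
      haveI := Fact.mk hq
      obtain ⟨t, ht⟩ := exists_prime_orderOf_dvd_card' q hqd
      refine hcon t t.2 (fun h => ?_) ?_
      · rw [OneMemClass.coe_eq_one] at h
        rw [h, orderOf_one] at ht
        exact hq.ne_one ht.symm
      · rw [orderOf_coe, ht]
        exact hq.odd_of_ne_two hq2
    obtain ⟨v, hv, hv1⟩ := (bot_or_exists_ne_one _).resolve_left hV1
    have hout : ∀ a ∈ V, a ≠ 1 → a ∉ normalizer (L : Set G) := fun a ha ha1 han => ha1 (by
      have : a ∈ V ⊓ normalizer (L : Set G) := ⟨ha, han⟩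
      rwa [hW, mem_bot] at this)
    set l' := v * l * v⁻¹ with hl'
    have hll : Commute l' l := hcommL v hv (hout v hv hv1) l hl l hl
    have hodd : Odd (orderOf (l * l'⁻¹)) := by
      refine Odd.of_dvd_nat (hlo.mul hlo) ?_
      have := hll.symm.inv_right.orderOf_mul_dvd_mul_orderOf
      rwa [orderOf_inv, hl', show v * l * v⁻¹ = MulAut.conj v l from rfl, MulEquiv.orderOf_eq] at this
    have hv2 : v * v = 1 := by rw [← sq]; exact hV2 v hv
    have hvl' : v * l' * v⁻¹ = l := by
      rw [hl']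
      calc v * (v * l * v⁻¹) * v⁻¹ = (v * v) * l * (v * v)⁻¹ := by group
        _ = l := by rw [hv2, one_mul, inv_one, mul_one]
    obtain ⟨w, hw, hw1, hwh⟩ := hS (l * l'⁻¹) v hv hodd (by
      rw [← conj_mul, ← conj_inv, hvl', ← hl', mul_inv_rev, inv_inv])
    by_cases hwv : w = v
    · subst hwv
      have h1 : w * (l * l'⁻¹) * w⁻¹ = l' * l⁻¹ := by rw [← conj_mul, ← conj_inv, hvl', ← hl']
      rw [hwh, mul_inv_cancel_right] at h1
      have h2 : (l * l'⁻¹) ^ 2 ^ 1 = 1 := by
        rw [pow_one, sq]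
        nth_rw 2 [h1]
        group
      have h3 := odd_eq_one_of_pow_two hodd h2
      rw [mul_inv_eq_one] at h3
      refine hl1 (hdisj w hw (hout w hw hw1) l hl ?_)
      rw [← hl', ← h3]; exact hl
    · refine hl1 (hZ l hl fun m hm => ?_)
      have hwv1 : w * v ≠ 1 := fun h => hwv (by
        have := eq_inv_of_mul_eq_one_left h
        rwa [hself v hv] at this)
      have h1 : Commute (w * (l * l'⁻¹) * w⁻¹) m := by
        rw [← conj_mul, ← conj_inv]
        refine (hcommL w hw (hout w hw hw1) l hl m hm).mul_left (Commute.inv_left ?_)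
        have := hcommL (w * v) (mul_mem hw hv) (hout _ (mul_mem hw hv) hwv1) l hl m hm
        have e : w * l' * w⁻¹ = w * v * l * (w * v)⁻¹ := by rw [hl']; group
        rwa [e]
      rw [hwh, mul_inv_cancel_right] at h1
      have h2 : Commute l' m := hcommL v hv (hout v hv hv1) l hl m hm
      have e : l = (l * l'⁻¹) * l' := by group
      rw [e]
      exact h1.mul_left h2
  · -- minimality in `L ⊔ N_V(L)`
    obtain ⟨u, hu, h, hh, ho, he, hw⟩ := exists_no_witness hminG hLf
      (⟨⟨⟨fun a b => Subtype.ext (hcomm a a.2.1 b b.2.1)⟩⟩, fun a ha => hV2 a ha.1⟩ :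
        Cfsg.IsElementaryAbelian 2 (V ⊓ normalizer (L : Set G)))
      hW inf_le_right (fun htop' => hV1ne (le_top.trans (htop' ▸ sup_le le_normalizer inf_le_right))) hfL
    have hh1 : h ≠ 1 := fun h1 => hW (eq_bot_iff.2 fun a ha => mem_bot.2 (hw a ha (by rw [h1]; simp)))
    obtain ⟨w, hwV, hw1, hwh⟩ := hS h u hu.1 ho he
    have hwL : w ∈ normalizer (L : Set G) := by
      by_contra hwn
      refine hh1 (hdisj w hwV hwn h hh ?_)
      rwa [hwh, mul_inv_cancel_right]
    exact hw1 (hw w ⟨hwV, hwL⟩ hwh)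

end Minimal

theorem reduction {G : Type u} [Group G] [Finite G] (V : Subgroup G)
    (hV : Cfsg.IsElementaryAbelian 2 V) (hV1 : V ≠ ⊥) (hS : Cfsg.IsSidkiPair V)
    (hVO : V ⊓ Cfsg.pCore 2 G = ⊥)
    (hminG : ∀ (H : Type u) [Group H] [Finite H] (W : Subgroup H), Nat.card H < Nat.card G →
      Cfsg.IsElementaryAbelian 2 W → W ≠ ⊥ → Cfsg.IsSidkiPair W → W ⊓ Cfsg.pCore 2 H ≠ ⊥) :
    IsSimpleGroup ↥(Cfsg.generalizedFittingSubgroup G) ∧
      ¬ IsMulCommutative ↥(Cfsg.generalizedFittingSubgroup G) ∧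
      V ⊔ Cfsg.generalizedFittingSubgroup G = ⊤ := by
  haveI : Fact (Nat.Prime 2) := ⟨Nat.prime_two⟩
  have hGnt : (⊤ : Subgroup G) ≠ ⊥ := fun h => hV1 (eq_bot_iff.2 (h ▸ le_top))
  obtain ⟨N, hN⟩ := (Set.toFinite {N : Subgroup G | N.Normal ∧ N ≠ ⊥}).exists_minimal
    ⟨⊤, inferInstance, hGnt⟩
  obtain ⟨hNn, hNb⟩ := hN.prop
  haveI := hNn
  have hNmin : ∀ K : Subgroup G, K.Normal → K ≤ N → K = ⊥ ∨ K = N := fun K hK hKN => by
    by_cases hKb : K = ⊥
    · exact Or.inl hKb
    · exact Or.inr (le_antisymm hKN (hN.le_of_le ⟨hK, hKb⟩ hKN))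
  obtain ⟨htop, hf⟩ := sup_eq_top_and_faithful hminG V hV hV1 hS hVO N hNb hNmin
  have hna := nonabelian hminG V hV hV1 hS hVO N hNb hNmin
  have hsimp := isSimpleGroup hminG V hV hV1 hS hVO N hNb hNmin
  have hO := pCore_eq_bot hminG V hV hV1 hS hVO
  have hVp : IsPGroup 2 V := fun a => ⟨1, Subtype.ext (by simpa using hV.2 a a.2)⟩
  have hQp : IsPGroup 2 (G ⧸ N) := by
    refine hVp.of_surjective ((QuotientGroup.mk' N).comp V.subtype) fun x => ?_
    obtain ⟨x, rfl⟩ := QuotientGroup.mk'_surjective N x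
    obtain ⟨m, hm, b, hb, rfl⟩ := mem_sup_of_normal_left.1 (htop ▸ mem_top x : x ∈ N ⊔ V)
    refine ⟨⟨b, hb⟩, ?_⟩
    show QuotientGroup.mk' N b = QuotientGroup.mk' N (m * b)
    rw [map_mul, show QuotientGroup.mk' N m = 1 from (QuotientGroup.eq_one_iff m).2 hm, one_mul]
  -- every nontrivial normal subgroup contains `N`
  have hle : ∀ M : Subgroup G, M.Normal → M ≠ ⊥ → N ≤ M := by
    intro M hM hMb
    haveI := hM
    rcases hNmin (N ⊓ M) inferInstance inf_le_left with h | h
    · refine absurd ?_ hMb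
      have hMp : IsPGroup 2 M := by
        let f : M →* G ⧸ N := (QuotientGroup.mk' N).comp M.subtype
        refine hQp.of_injective f ((injective_iff_map_eq_one f).2 fun a ha => ?_)
        have : (a : G) ∈ N ⊓ M := ⟨(QuotientGroup.eq_one_iff _).1 ha, a.2⟩
        rw [h, mem_bot] at this
        exact Subtype.ext this
      exact eq_bot_iff.2 (hO ▸ CfsgLib.LocalEven.le_core_of_normal hM hMp)
    · exact h ▸ inf_le_right
  have hfit : Cfsg.fittingSubgroup G = ⊥ := by
    refine eq_bot_iff.2 (sSup_le ?_)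
    rintro M ⟨hM, hMnil⟩
    by_contra hMb
    have hMb' : M ≠ ⊥ := fun h => hMb (le_of_eq h)
    haveI := hMnil
    haveI : Group.IsNilpotent N :=
      Subgroup.isNilpotent_of_ker_le_center (subgroupOfEquivOfLe (hle M hM hMb')).symm.toMonoidHom
        (by rw [(MonoidHom.ker_eq_bot_iff _).2 (MulEquiv.injective _)]; exact bot_le)
    haveI : Nontrivial N := (nontrivial_iff_ne_bot N).2 hNb
    rcases hsimp.eq_bot_or_eq_top_of_normal (center N) inferInstance with h | h
    · exact Group.IsNilpotent.center_ne_bot (G := N) h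
    · exact hna ⟨⟨fun a b => mem_center_iff.1 (h ▸ mem_top b : b ∈ center N) a⟩⟩
  have hF : Cfsg.generalizedFittingSubgroup G = N := by
    refine le_antisymm ?_ ?_
    · refine sup_le (sSup_le ?_) (hfit ▸ bot_le)
      rintro K ⟨-, hKperf, -⟩
      haveI := hKperf
      haveI := hQp.isNilpotent
      let f : K →* G ⧸ N := (QuotientGroup.mk' N).comp K.subtype
      have htriv : f.range = ⊥ := by
        by_contra hne
        haveI : Nontrivial f.range := (nontrivial_iff_ne_bot _).2 hne
        haveI : Group.IsSolvable f.range := inferInstance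
        have hlt := Group.IsSolvable.commutator_lt_top_of_nontrivial f.range
        refine hlt.ne ?_
        have hperf : commutator K = ⊤ := Group.IsPerfect.commutator_eq_top
        rw [← Subgroup.map_top_of_surjective f.rangeRestrict f.rangeRestrict_surjective, ← hperf,
          _root_.commutator_def, _root_.commutator_def, Subgroup.map_commutator,
          Subgroup.map_top_of_surjective f.rangeRestrict f.rangeRestrict_surjective]
      intro k hk
      have h1 : f ⟨k, hk⟩ ∈ f.range := ⟨_, rfl⟩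
      rw [htriv, mem_bot] at h1
      exact (QuotientGroup.eq_one_iff _).1 h1
    · refine hle _ inferInstance fun h => ?_
      haveI : Nontrivial G := by
        obtain ⟨x, -, hx⟩ := (bot_or_exists_ne_one (⊤ : Subgroup G)).resolve_left hGnt
        exact ⟨⟨x, 1, hx⟩⟩
      exact CfsgLib.Components.genFitting_ne_bot h
  rw [hF]
  exact ⟨hsimp, hna, sup_comm N V ▸ htop⟩

end CfsgLib.Case.Sidki
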