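import Cfsg.Agent.Lib.OddOrder.Transitivity
import Cfsg.Agent.Lib.Case.CoprimeConstrained
import Cfsg.Agent.Lib.Solvable.CoprimeGeneration
import Cfsg.Agent.Lib.Solvable.InvariantHall

set_option autoImplicit false
set_option linter.style.haveILetI false

/-!
The transitivity theorem for an abelian p-subgroup with an elementary subgroup of order at least
p^3, given that invariant p'-subgroups of the local subgroups lie in the p'-cores.
-/

open scoped Pointwise commutatorElement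

namespace CfsgLib.Case

open Subgroup CfsgLib.OddOrder

variable {G : Type*} [Group G] [Finite G] {p q : ℕ} [hp : Fact p.Prime] [hq : Fact q.Prime]

omit hq in
/-- In an elementary abelian group of order at least `p ^ 3` two subgroups with cyclic quotient
meet nontrivially. -/
theorem exists_common_ne_one {E0 F₁ F₂ : Subgroup G} [IsMulCommutative E0]
    (hel : ∀ e ∈ E0, e ^ p = 1) (hcard : p ^ 3 ≤ Nat.card E0)
    (h₁ : F₁ ≤ E0) (h₂ : F₂ ≤ E0) (c₁ : ∃ a ∈ E0, E0 ≤ F₁ ⊔ zpowers a)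
    (c₂ : ∃ a ∈ E0, E0 ≤ F₂ ⊔ zpowers a) : ∃ e ∈ F₁, e ∈ F₂ ∧ e ≠ 1 := by
  have hp0 : 0 < p := hp.out.pos
  have hn : ∀ F H : Subgroup G, F ≤ E0 → H ≤ E0 → H ≤ normalizer (F : Set G) :=
    fun F H hF hH x hx => centralizer_le_normalizer _ fun y hy =>
      congr_arg Subtype.val (mul_comm' (⟨y, hF hy⟩ : E0) ⟨x, hH hx⟩)
  have hbig : ∀ F ≤ E0, (∃ a ∈ E0, E0 ≤ F ⊔ zpowers a) →
      Nat.card E0 ≤ Nat.card F * p := by
    rintro F hF ⟨a, ha, hle⟩
    have h := Nat.le_of_dvd (Nat.mul_pos Nat.card_pos Nat.card_pos)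
      (Solvable.card_sup_dvd (hn F (zpowers a) hF (zpowers_le.2 ha)))
    refine ((card_le_of_le hle).trans h).trans (Nat.mul_le_mul_left _ ?_)
    rw [Nat.card_zpowers]
    exact Nat.le_of_dvd hp0 (orderOf_dvd_of_pow_eq_one (hel a ha))
  by_contra h
  push Not at h
  have hdis : Disjoint F₁ F₂ := Subgroup.disjoint_def.2 fun h1 h2 => h _ h1 h2
  have h3 := Solvable.card_sup_of_disjoint (hn F₁ F₂ h₁ h₂) hdis
  have h4 : Nat.card F₁ * Nat.card F₂ ≤ Nat.card E0 := h3 ▸ card_le_of_le (sup_le h₁ h₂)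
  have hb1 := hbig F₁ h₁ c₁
  have hb2 := hbig F₂ h₂ c₂
  have h5 : Nat.card F₂ ≤ p := Nat.le_of_mul_le_mul_left (h4.trans hb1) Nat.card_pos
  have h6 : p ^ 3 ≤ p * p := hcard.trans (hb2.trans (Nat.mul_le_mul_right _ h5))
  have : p * p < p ^ 3 := by
    calc p * p = p * p * 1 := by ring
      _ < p * p * p := Nat.mul_lt_mul_of_pos_left hp.out.one_lt (Nat.mul_pos hp0 hp0)
      _ = p ^ 3 := by ring
  omega

theorem transitivity (hqp : q ≠ p) {E E0 : Subgroup G} (hEp : IsPGroup p E) [IsMulCommutative E]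
    (hE0 : E0 ≤ E) (hel : ∀ e ∈ E0, e ^ p = 1) (hcard : p ^ 3 ≤ Nat.card E0)
    (hloc : ∀ e ∈ E, e ≠ 1 → ∀ K ≤ normalizer ((zpowers e : Subgroup G) : Set G),
      (Nat.card K).Coprime p → E ≤ normalizer (K : Set G) →
      K ≤ (Cfsg.pPrimeCore p ↥(normalizer ((zpowers e : Subgroup G) : Set G))).map
        (normalizer ((zpowers e : Subgroup G) : Set G)).subtype) :
    ∀ Q₁ ∈ Cfsg.maxInvSubgroups ⊤ E {q}, ∀ Q₂ ∈ Cfsg.maxInvSubgroups ⊤ E {q},
      ConjBy (Cfsg.piCoreOf (Cfsg.primesNotDvd p) (centralizer (E : Set G))) Q₁ Q₂ := by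
  set π := Cfsg.primesNotDvd p
  haveI : IsMulCommutative E0 := ⟨⟨fun x y => Subtype.ext
    (congr_arg Subtype.val (mul_comm' (⟨x, hE0 x.2⟩ : E) ⟨y, hE0 y.2⟩) :)⟩⟩
  have hEsol : Group.IsSolvable E := by haveI := hEp.isNilpotent; infer_instance
  have hqcop : ∀ Q : Subgroup G, IsPGroup q Q → (Nat.card Q).Coprime p := by
    intro Q hQ
    obtain ⟨i, hi⟩ := hQ.exists_card_eq
    rw [hi]
    exact ((Nat.coprime_primes hq.out hp.out).2 hqp).pow_left i
  have hEcop : ∀ Q : Subgroup G, (Nat.card Q).Coprime p → (Nat.card E).Coprime (Nat.card Q) := by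
    intro Q hQ
    obtain ⟨i, hi⟩ := hEp.exists_card_eq
    rw [hi]
    exact (hQ.pow_right i).symm
  intro Q₁ hQ₁ Q₂
  revert hQ₁
  induction hn : Nat.card G - Nat.card ↥(Q₁ ⊓ Q₂) using Nat.strong_induction_on
    generalizing Q₁ Q₂ with
  | _ n IH =>
  intro hQ₁ hQ₂
  by_cases heq : Q₁ = Q₂
  · exact heq ▸ ConjBy.refl _ _
  set D := Q₁ ⊓ Q₂ with hD
  have hp₁ : IsPGroup q Q₁ := isPiSubgroup_singleton.1 hQ₁.1.2.1
  have hp₂ : IsPGroup q Q₂ := isPiSubgroup_singleton.1 hQ₂.1.2.1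
  have hlt₁ : D < Q₁ := lt_of_le_of_ne inf_le_left fun h =>
    heq (hQ₁.2 Q₂ hQ₂.1 (inf_eq_left.1 h)).symm
  have hlt₂ : D < Q₂ := lt_of_le_of_ne inf_le_right fun h =>
    heq (hQ₂.2 Q₁ hQ₁.1 (inf_eq_right.1 h))
  have hED : E ≤ normalizer (D : Set G) := le_normalizer_inf_of_le hQ₁.1.2.2 hQ₂.1.2.2
  set N := normalizer (D : Set G) with hN
  have hgen : ∀ Q : Subgroup G, IsPGroup q Q → E ≤ normalizer (Q : Set G) → D < Q →
      ∃ F ≤ E0, (∃ a ∈ E0, E0 ≤ F ⊔ zpowers a) ∧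
        ¬ (Q ⊓ N) ⊓ centralizer (F : Set G) ≤ D := by
    intro Q hQ hEQ hDQ
    by_contra h
    push Not at h
    refine (lt_inf_normalizer hQ hDQ).not_ge (Solvable.le_of_cyclic_quotient_centralizer_le
      (A := E0) (hE0.trans (le_normalizer_inf_of_le hEQ (hED.trans le_normalizer)))
      ((hEcop _ (hqcop _ (hQ.to_le inf_le_left))).coprime_dvd_left (card_dvd_of_le hE0)) h)
  obtain ⟨F₁, hF₁, hc₁, hn₁⟩ := hgen Q₁ hp₁ hQ₁.1.2.2 hlt₁
  obtain ⟨F₂, hF₂, hc₂, hn₂⟩ := hgen Q₂ hp₂ hQ₂.1.2.2 hlt₂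
  obtain ⟨e, he₁, he₂, he⟩ := exists_common_ne_one hel hcard hF₁ hF₂ hc₁ hc₂
  have heE : e ∈ E := hE0 (hF₁ he₁)
  set H := normalizer ((zpowers e : Subgroup G) : Set G) with hH
  set L := (Cfsg.pPrimeCore p ↥H).map H.subtype with hL
  have hCH : centralizer ({e} : Set G) ≤ H := by
    rw [← centralizer_closure, ← zpowers_eq_closure]
    exact centralizer_le_normalizer _
  have hEC : E ≤ centralizer ({e} : Set G) := fun x hx => mem_centralizer_singleton_iff.2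
    (congr_arg Subtype.val (mul_comm' (⟨x, hx⟩ : E) ⟨e, heE⟩))
  have hEH : E ≤ H := hEC.trans hCH
  have hHL : H ≤ normalizer (L : Set G) := by
    haveI := Solvable.pPrimeCore_characteristic p ↥H
    exact le_normalizer.trans (Solvable.normalizer_le_of_characteristic_map (Cfsg.pPrimeCore p ↥H))
  have hLcop : (Nat.card L).Coprime p := by
    rw [hL, card_subtype]
    exact Solvable.pPrimeCore_card_coprime p ↥H
  set M := L ⊓ N with hM
  have hEM : E ≤ normalizer (M : Set G) :=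
    le_normalizer_inf_of_le (hEH.trans hHL) (hED.trans le_normalizer)
  have hMcop : (Nat.card M).Coprime p := hLcop.coprime_dvd_left (card_dvd_of_le inf_le_left)
  set R : Subgroup G → Subgroup G := fun Q => (Q ⊓ N) ⊓ centralizer ({e} : Set G) with hR
  have hRq : ∀ Q : Subgroup G, IsPGroup q Q → IsPGroup q (R Q) := fun Q hQ =>
    hQ.to_le (inf_le_left.trans inf_le_left)
  have hRinv : ∀ Q : Subgroup G, E ≤ normalizer (Q : Set G) →
      E ≤ normalizer ((R Q : Subgroup G) : Set G) := fun Q hQ =>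
    le_normalizer_inf_of_le (le_normalizer_inf_of_le hQ (hED.trans le_normalizer))
      (hEC.trans le_normalizer)
  have hRM : ∀ Q : Subgroup G, IsPGroup q Q → E ≤ normalizer (Q : Set G) → R Q ≤ M :=
    fun Q hQ hEQ => le_inf (hloc e heE he _ (inf_le_right.trans hCH) (hqcop _ (hRq Q hQ))
      (hRinv Q hEQ)) (inf_le_left.trans inf_le_right)
  have hRD : ∀ (Q F : Subgroup G), e ∈ F → ¬ (Q ⊓ N) ⊓ centralizer (F : Set G) ≤ D →
      ¬ R Q ≤ D := fun Q F heF hQ h => hQ (le_trans (inf_le_inf_left _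
        (centralizer_le (Set.singleton_subset_iff.2 heF))) h)
  obtain ⟨S₁, hS₁, hES₁⟩ := Solvable.exists_invariant_sylow_ge hEM (hEcop _ hMcop)
    (Or.inl hEsol) q (hRM Q₁ hp₁ hQ₁.1.2.2) (hRq Q₁ hp₁) (hRinv Q₁ hQ₁.1.2.2)
  obtain ⟨S₂, hS₂, hES₂⟩ := Solvable.exists_invariant_sylow_ge hEM (hEcop _ hMcop)
    (Or.inl hEsol) q (hRM Q₂ hp₂ hQ₂.1.2.2) (hRq Q₂ hp₂) (hRinv Q₂ hQ₂.1.2.2)
  obtain ⟨c, hc, hS⟩ := Solvable.exists_invariant_sylow_conj hEM (hEcop _ hMcop)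
    (Or.inl hEsol) S₁ S₂ hES₁ hES₂
  set T := (S₂ : Subgroup M).map M.subtype with hT
  have hTN : T ≤ N := (map_subtype_le _).trans inf_le_right
  have hTD : T ⊔ D ∈ Cfsg.invSubgroups ⊤ E {q} := by
    refine ⟨le_top, isPiSubgroup_singleton.2 ?_, ?_⟩
    · exact IsPGroup.to_sup_of_normal_right' (S₂.2.map _) (hp₁.to_le inf_le_left) hTN
    · intro x hx
      rw [mem_normalizer_iff_map_conj_eq, Subgroup.map_sup,
        mem_normalizer_iff_map_conj_eq.1 (hES₂ hx), mem_normalizer_iff_map_conj_eq.1 (hED hx)]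
  obtain ⟨Q₃, hQ₃, hTQ⟩ := exists_maxInvSubgroup_ge hTD
  have hcC : (c : G) ∈ centralizer (E : Set G) := hc
  have hLE : L ⊓ centralizer (E : Set G) ≤ Cfsg.piCoreOf π (centralizer (E : Set G)) := by
    refine le_piCoreOf inf_le_right ?_
      (isPiSubgroup_primesNotDvd.2 (hLcop.coprime_dvd_left (card_dvd_of_le inf_le_left)))
    refine le_normalizer_inf_of_le ?_ le_normalizer
    exact (centralizer_le (Set.singleton_subset_iff.2 heE)).trans (hCH.trans hHL)
  have hck : (c : G) ∈ Cfsg.piCoreOf π (centralizer (E : Set G)) :=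
    hLE ⟨(inf_le_left : M ≤ L) c.2, hcC⟩
  set φ := (MulAut.conj (c : G)).toMonoidHom with hφ
  have hφD : D.map φ = D := mem_normalizer_iff_map_conj_eq.1 ((inf_le_right : M ≤ N) c.2)
  have hφR : (R Q₁).map φ ≤ T := by
    refine le_trans (Subgroup.map_mono hS₁) (le_of_eq ?_)
    rw [hT, ← hS]
    change _ = (MulAut.conj c • (S₁ : Subgroup M)).map M.subtype
    rw [Solvable.map_conj_smul, Solvable.conj_smul_eq_map]
    rfl
  have step : ∀ (A B : Subgroup G), Nat.card D < Nat.card ↥(A ⊓ B) →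
      A ∈ Cfsg.maxInvSubgroups ⊤ E {q} → B ∈ Cfsg.maxInvSubgroups ⊤ E {q} →
      ConjBy (Cfsg.piCoreOf π (centralizer (E : Set G))) A B := by
    intro A B hlt hA hB
    have h1 := Subgroup.card_le_card_group (A ⊓ B)
    exact IH _ (by omega) A B rfl hA hB
  refine ConjBy.trans ⟨c, hck, rfl⟩ (ConjBy.trans (step (Q₁.map φ) Q₃ ?_
    (mem_maxInv_map_conj hcC hQ₁) hQ₃) (step Q₂ Q₃ ?_ hQ₂ hQ₃).symm)
  · refine lt_of_lt_of_le (Set.Finite.card_lt_card (Set.toFinite _)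
      (show D < R Q₁ ⊔ D from right_lt_sup.2 (hRD Q₁ F₁ he₁ hn₁))) ?_
    refine le_of_eq_of_le (card_map_of_injective (K := R Q₁ ⊔ D) (f := φ)
      (MulAut.conj (c : G)).injective).symm ?_
    refine card_le_of_le (le_inf (Subgroup.map_mono (sup_le (inf_le_left.trans inf_le_left)
      inf_le_left)) ?_)
    rw [Subgroup.map_sup, hφD]
    exact (sup_le_sup_right hφR D).trans hTQ
  · refine lt_of_lt_of_le (Set.Finite.card_lt_card (Set.toFinite _)
      (show D < R Q₂ ⊔ D from right_lt_sup.2 (hRD Q₂ F₂ he₂ hn₂))) (card_le_of_le ?_)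
    exact le_inf (sup_le (inf_le_left.trans inf_le_left) inf_le_right)
      ((sup_le_sup_right hS₂ D).trans hTQ)

omit hq in
/-- In a p-constrained subgroup `H ≥ E`, invariant p'-subgroups lie in `O_{p'}(H)`. -/
theorem invariant_le_core_of_constrained {E H K : Subgroup G} (hH : Cfsg.IsPConstrained p ↥H)
    (hEp : IsPGroup p E) [IsMulCommutative E]
    (hfull : ∀ x ∈ centralizer (E : Set G), IsPGroup p (zpowers x) → x ∈ E)
    (h2 : p = 2 → ∀ S : Subgroup G, IsPGroup p S →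
      ∀ a ∈ S, ∀ b ∈ S, ∀ c ∈ S, Commute ⁅a, b⁆ c)
    (hEH : E ≤ H) (hKH : K ≤ H) (hK : (Nat.card K).Coprime p)
    (hEK : E ≤ normalizer (K : Set G)) :
    K ≤ (Cfsg.pPrimeCore p ↥H).map H.subtype := by
  haveI : IsMulCommutative (E.subgroupOf H) := ⟨⟨fun x y => Subtype.ext (Subtype.ext
    (congr_arg Subtype.val (mul_comm' (⟨_, x.2⟩ : E) ⟨_, y.2⟩) :))⟩⟩
  rw [← map_subgroupOf_eq_of_le hKH]
  refine map_mono (invariant_le_pPrimeCore hH (A := E.subgroupOf H)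
    (hEp.comap_of_injective H.subtype H.subtype_injective) ?_ ?_ ?_ ?_)
  · intro x hx hxp
    refine hfull _ (fun e he => congr_arg Subtype.val (hx ⟨e, hEH he⟩ he)) ?_
    exact MonoidHom.map_zpowers H.subtype x ▸ hxp.map H.subtype
  · intro hp2 S hS a ha b hb c hc
    have h := h2 hp2 (S.map H.subtype) (hS.map _) _ (mem_map_of_mem _ ha) _ (mem_map_of_mem _ hb)
      _ (mem_map_of_mem _ hc)
    rw [← map_commutatorElement] at h
    exact Subtype.ext h.eq
  · rwa [Nat.card_congr (subgroupOfEquivOfLe hKH).toEquiv]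
  · exact fun x hx => mem_normalizer_iff.2 fun y =>
      (mem_normalizer_iff.1 (hEK hx) (y : G))

end CfsgLib.Case
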