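import Mathlib.GroupTheory.PGroup
import Mathlib.GroupTheory.Sylow
import Mathlib.GroupTheory.Commutator.Basic
import Mathlib.Algebra.Group.Subgroup.Pointwise
import Mathlib.GroupTheory.OrderOfElement
import Mathlib.Tactic.Group

set_option autoImplicit false

/-!
Two p-elements of an odd order group that act on an elementary abelian self-centralizing normal
subgroup `W` like transvections generate a p-group modulo `W`.
-/

namespace CfsgLib.Case

variable {Y : Type*} [Group Y]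

theorem isPGroup_zpowers_of_pow {p : ℕ} {g : Y} {k : ℕ} (h : g ^ (p ^ k) = 1) :
    IsPGroup p (Subgroup.zpowers g) := by
  rintro ⟨x, hx⟩
  obtain ⟨i, rfl⟩ := Subgroup.mem_zpowers_iff.1 hx
  refine ⟨k, Subtype.ext ?_⟩
  show (g ^ i) ^ (p ^ k) = 1
  rw [← zpow_natCast, ← zpow_mul, mul_comm, zpow_mul, zpow_natCast, h, one_zpow]

/-- Two p-elements whose commutator commutes with both generate a p-group. -/
theorem isPGroup_closure_pair_of_central {p : ℕ} [Fact p.Prime] {a b : Y} {k l : ℕ}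
    (ha : a ^ (p ^ k) = 1) (hb : b ^ (p ^ l) = 1)
    (hca : Commute (a * b * a⁻¹ * b⁻¹) a) (hcb : Commute (a * b * a⁻¹ * b⁻¹) b) :
    IsPGroup p (Subgroup.closure ({a, b} : Set Y)) := by
  obtain ⟨c, hc⟩ : ∃ c, c = a * b * a⁻¹ * b⁻¹ := ⟨_, rfl⟩
  rw [← hc] at hca hcb
  have h1 : a * b * a⁻¹ = c * b := by rw [hc]; group
  have hpow : ∀ n : ℕ, a ^ n * b * (a ^ n)⁻¹ = c ^ n * b := by
    intro n
    induction n with
    | zero => simp
    | succ n ih =>
      calc a ^ (n + 1) * b * (a ^ (n + 1))⁻¹ = a * (a ^ n * b * (a ^ n)⁻¹) * a⁻¹ := by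
            rw [pow_succ']; group
        _ = (a * c ^ n) * b * a⁻¹ := by rw [ih]; group
        _ = c ^ n * (a * b * a⁻¹) := by rw [← (hca.pow_left n).eq]; group
        _ = c ^ (n + 1) * b := by rw [h1, pow_succ, mul_assoc]
  have hcp : c ^ (p ^ k) = 1 := by
    have h := hpow (p ^ k)
    rw [ha, one_mul, inv_one, mul_one] at h
    exact (mul_eq_right).1 h.symm
  obtain ⟨A, hA⟩ : ∃ A, A = Subgroup.zpowers c ⊔ Subgroup.zpowers a := ⟨_, rfl⟩
  have hnorm : Subgroup.zpowers a ≤ Subgroup.normalizer (Subgroup.zpowers c : Set Y) := by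
    rw [Subgroup.zpowers_le]
    refine Subgroup.centralizer_le_normalizer _ ?_
    intro x hx
    obtain ⟨i, rfl⟩ := Subgroup.mem_zpowers_iff.1 hx
    exact (hca.zpow_left i).eq
  have hAp : IsPGroup p A := hA ▸
    IsPGroup.to_sup_of_normal_left' (isPGroup_zpowers_of_pow hcp) (isPGroup_zpowers_of_pow ha) hnorm
  have haA : a ∈ A := hA ▸ Subgroup.mem_sup_right (Subgroup.mem_zpowers a)
  have hcA : c ∈ A := hA ▸ Subgroup.mem_sup_left (Subgroup.mem_zpowers c)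
  have h2 : b * a * b⁻¹ = c⁻¹ * a := by rw [hc]; group
  have h3 : b⁻¹ * a * b = c * a := by
    calc b⁻¹ * a * b = b⁻¹ * (a * b * a⁻¹) * a := by group
      _ = b⁻¹ * (b * c) * a := by rw [h1, hcb.eq]
      _ = c * a := by group
  have hle : ∀ g : Y, g * c * g⁻¹ ∈ A → g * a * g⁻¹ ∈ A → ∀ x ∈ A, g * x * g⁻¹ ∈ A := by
    intro g hgc hga x hx
    have : A ≤ A.comap (MulAut.conj g).toMonoidHom := by
      conv_lhs => rw [hA]
      rw [sup_le_iff, Subgroup.zpowers_le, Subgroup.zpowers_le]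
      exact ⟨hgc, hga⟩
    exact this hx
  have hb' : b ∈ Subgroup.normalizer (A : Set Y) := by
    rw [Subgroup.mem_normalizer_iff]
    intro x
    constructor
    · refine hle b ?_ (h2 ▸ mul_mem (inv_mem hcA) haA) x
      rw [← hcb.eq, mul_inv_cancel_right]; exact hcA
    · intro hx
      have := hle b⁻¹ (by
        rw [inv_inv, mul_assoc, hcb.eq, inv_mul_cancel_left]; exact hcA)
        (by rw [inv_inv, h3]; exact mul_mem hcA haA) _ hx
      simpa [mul_assoc] using this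
  refine IsPGroup.to_le (IsPGroup.to_sup_of_normal_left' hAp (isPGroup_zpowers_of_pow hb)
    (Subgroup.zpowers_le.2 hb')) ?_
  rw [Subgroup.closure_le]
  rintro x (rfl | rfl)
  · exact Subgroup.mem_sup_left haA
  · exact Subgroup.mem_sup_right (Subgroup.mem_zpowers x)

variable [Finite Y]

section Transvection

variable (W : Subgroup Y) [hWn : W.Normal]

/-- `a` acts trivially on `W / L` and on `L`. -/
structure IsShear (L : Subgroup Y) (a : Y) : Prop where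
  le : L ≤ W
  shift : ∀ u ∈ W, a * u * a⁻¹ * u⁻¹ ∈ L
  fix : ∀ l ∈ L, a * l * a⁻¹ = l

theorem IsShear.eq_mul {L : Subgroup Y} {a u : Y} (h : IsShear W L a) (hu : u ∈ W) :
    ∃ l ∈ L, a * u * a⁻¹ = l * u :=
  ⟨_, h.shift u hu, by group⟩

variable {W}

/-- If `a` and `b` act with different axes and each fixes the other's centre they commute on `W`. -/
theorem shear_commute (hWc : ∀ u ∈ W, ∀ v ∈ W, u * v = v * u) {L L' : Subgroup Y} {a b : Y}
    (ha : IsShear W L a) (hb : IsShear W L' b) (h1 : ∀ f ∈ L', a * f * a⁻¹ = f)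
    (h2 : ∀ e ∈ L, b * e * b⁻¹ = e) :
    ∀ u ∈ W, (a * b) * u * (a * b)⁻¹ = (b * a) * u * (b * a)⁻¹ := by
  intro u hu
  obtain ⟨l, hl, hlu⟩ := ha.eq_mul W hu
  obtain ⟨m, hm, hmu⟩ := hb.eq_mul W hu
  calc (a * b) * u * (a * b)⁻¹ = a * (b * u * b⁻¹) * a⁻¹ := by group
    _ = (a * m * a⁻¹) * (a * u * a⁻¹) := by rw [hmu]; group
    _ = m * (l * u) := by rw [h1 m hm, hlu]
    _ = l * (m * u) := by rw [← mul_assoc, hWc m (hb.le hm) l (ha.le hl), mul_assoc]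
    _ = (b * l * b⁻¹) * (b * u * b⁻¹) := by rw [h2 l hl, hmu]
    _ = (b * a) * u * (b * a)⁻¹ := by rw [show (b * a) * u * (b * a)⁻¹ = b * (a * u * a⁻¹) * b⁻¹ by group, hlu]; group

theorem mem_of_trivial_action (hWC : Subgroup.centralizer (W : Set Y) ≤ W) {g : Y}
    (h : ∀ u ∈ W, g * u * g⁻¹ = u) : g ∈ W :=
  hWC fun u hu => (mul_inv_eq_iff_eq_mul.1 (h u hu)).symm

/-- the quotient image commutes when the conjugation actions on `W` agree -/
theorem quot_eq_of_action (hWC : Subgroup.centralizer (W : Set Y) ≤ W) {g h : Y}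
    (he : ∀ u ∈ W, g * u * g⁻¹ = h * u * h⁻¹) :
    QuotientGroup.mk' W g = QuotientGroup.mk' W h := by
  rw [QuotientGroup.mk'_apply, QuotientGroup.mk'_apply, QuotientGroup.eq]
  refine mem_of_trivial_action hWC fun u hu => ?_
  calc g⁻¹ * h * u * (g⁻¹ * h)⁻¹ = g⁻¹ * (h * u * h⁻¹) * g := by group
    _ = g⁻¹ * (g * u * g⁻¹) * g := by rw [he u hu]
    _ = u := by group

variable {p : ℕ}

/-- One centre fixed by the other element. -/
theorem isPGroup_pair_of_fix [Fact p.Prime] (hWc : ∀ u ∈ W, ∀ v ∈ W, u * v = v * u)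
    (hWC : Subgroup.centralizer (W : Set Y) ≤ W) {L L' : Subgroup Y} {a b : Y} {i j : ℕ}
    (hap : a ^ (p ^ i) = 1) (hbp : b ^ (p ^ j) = 1)
    (ha : IsShear W L a) (hb : IsShear W L' b) (h2 : ∀ e ∈ L, b * e * b⁻¹ = e) :
    IsPGroup p (Subgroup.closure ({QuotientGroup.mk' W a, QuotientGroup.mk' W b} : Set (Y ⧸ W))) := by
  obtain ⟨c, hc⟩ : ∃ c, c = a * b * a⁻¹ * b⁻¹ := ⟨_, rfl⟩
  -- c shifts W into L
  have hcu : ∀ u ∈ W, ∃ l ∈ L, c * u * c⁻¹ = l * u := by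
    intro u hu
    have hu1 : a⁻¹ * (b⁻¹ * u * b) * a ∈ W := by
      have h' := hWn.conj_mem _ (hWn.conj_mem u hu b⁻¹) a⁻¹
      rwa [inv_inv, inv_inv] at h'
    obtain ⟨v, hv, hveq⟩ : ∃ v ∈ W, v = a⁻¹ * (b⁻¹ * u * b) * a := ⟨_, hu1, rfl⟩
    have huv : u = (b * a) * v * (b * a)⁻¹ := by rw [hveq]; group
    obtain ⟨l, hl, hlv⟩ := ha.eq_mul W hv
    obtain ⟨m, hm, hmv⟩ := hb.eq_mul W hv
    obtain ⟨l', hl', hlm⟩ := ha.eq_mul W (hb.le hm)
    refine ⟨l', hl', ?_⟩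
    calc c * u * c⁻¹ = a * (b * v * b⁻¹) * a⁻¹ := by rw [huv, hc]; group
      _ = (a * m * a⁻¹) * (a * v * a⁻¹) := by rw [hmv]; group
      _ = (l' * m) * (l * v) := by rw [hlm, hlv]
      _ = l' * (l * (m * v)) := by
          rw [mul_assoc, ← mul_assoc m, hWc m (hb.le hm) l (ha.le hl), mul_assoc]
      _ = l' * ((b * l * b⁻¹) * (b * v * b⁻¹)) := by rw [h2 l hl, hmv]
      _ = l' * (b * (a * v * a⁻¹) * b⁻¹) := by rw [hlv]; group
      _ = l' * u := by rw [huv]; group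
  have hcL : ∀ e ∈ L, c * e * c⁻¹ = e := by
    intro e he
    have ha' : a⁻¹ * e * a = e := by (conv_lhs => rw [← ha.fix e he]); group
    have hb' : b⁻¹ * e * b = e := by (conv_lhs => rw [← h2 e he]); group
    calc c * e * c⁻¹ = a * (b * (a⁻¹ * (b⁻¹ * e * b) * a) * b⁻¹) * a⁻¹ := by rw [hc]; group
      _ = e := by rw [hb', ha', h2 e he, ha.fix e he]
  have hcL' : ∀ f ∈ L', c * f * c⁻¹ = f := by
    intro f hf
    obtain ⟨l, hl, hlf⟩ := ha.eq_mul W (hb.le hf)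
    have hb' : b⁻¹ * f * b = f := by (conv_lhs => rw [← hb.fix f hf]); group
    have hla : a⁻¹ * l * a = l := by (conv_lhs => rw [← ha.fix l hl]); group
    have ha' : a⁻¹ * f * a = l⁻¹ * f := by
      rw [eq_inv_mul_iff_mul_eq]
      calc l * (a⁻¹ * f * a) = (a⁻¹ * l * a) * (a⁻¹ * f * a) := by rw [hla]
        _ = a⁻¹ * (l * f) * a := by group
        _ = f := by rw [← hlf]; group
    calc c * f * c⁻¹ = a * (b * (a⁻¹ * (b⁻¹ * f * b) * a) * b⁻¹) * a⁻¹ := by rw [hc]; group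
      _ = a * ((b * l⁻¹ * b⁻¹) * (b * f * b⁻¹)) * a⁻¹ := by rw [hb', ha']; group
      _ = a * (a⁻¹ * f * a) * a⁻¹ := by rw [h2 _ (inv_mem hl), hb.fix f hf, ha']
      _ = f := by group
  have hcsh : IsShear W L c := ⟨ha.le, fun u hu => by
    obtain ⟨l, hl, h⟩ := hcu u hu
    rw [h, mul_inv_cancel_right]; exact hl, hcL⟩
  have hca := shear_commute hWc hcsh ha hcL ha.fix
  have hcb := shear_commute hWc hcsh hb hcL' h2
  refine isPGroup_closure_pair_of_central (k := i) (l := j)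
    (by rw [← map_pow, hap, map_one]) (by rw [← map_pow, hbp, map_one]) ?_ ?_
  all_goals
    rw [← map_inv, ← map_inv, ← map_mul, ← map_mul, ← map_mul, ← hc]
    show _ * _ = _ * _
    rw [← map_mul, ← map_mul]
  · exact quot_eq_of_action hWC hca
  · exact quot_eq_of_action hWC hcb

/-- Two shears in a group of odd order generate a p-group modulo `W`. -/
theorem isPGroup_pair [hp : Fact p.Prime] (hY : Odd (Nat.card Y)) (hp2 : p ≠ 2)
    (hWc : ∀ u ∈ W, ∀ v ∈ W, u * v = v * u) (hWp : ∀ u ∈ W, u ^ p = 1)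
    (hWC : Subgroup.centralizer (W : Set Y) ≤ W) {L L' : Subgroup Y} {a b : Y} {i j : ℕ}
    (hap : a ^ (p ^ i) = 1) (hbp : b ^ (p ^ j) = 1)
    (ha : IsShear W L a) (hb : IsShear W L' b)
    (hL : ∀ x ∈ L, x ≠ 1 → L ≤ Subgroup.zpowers x) (hL' : ∀ x ∈ L', x ≠ 1 → L' ≤ Subgroup.zpowers x) :
    IsPGroup p (Subgroup.closure ({QuotientGroup.mk' W a, QuotientGroup.mk' W b} : Set (Y ⧸ W))) := by
  by_cases h2 : ∀ e ∈ L, b * e * b⁻¹ = e
  · exact isPGroup_pair_of_fix hWc hWC hap hbp ha hb h2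
  by_cases h1 : ∀ f ∈ L', a * f * a⁻¹ = f
  · rw [Set.pair_comm]
    exact isPGroup_pair_of_fix hWc hWC hbp hap hb ha h1
  exfalso
  push Not at h1 h2
  obtain ⟨f, hf, hfa⟩ := h1
  obtain ⟨e, he, hef⟩ := ha.eq_mul W (hb.le hf)
  have he1 : e ≠ 1 := by
    rintro rfl
    exact hfa (by rw [hef, one_mul])
  -- b moves e
  obtain ⟨m, hm, hme⟩ := hb.eq_mul W (ha.le he)
  have hf1 : f ≠ 1 := by rintro rfl; exact hfa (by group)
  have hm1 : m ≠ 1 := by
    rintro rfl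
    obtain ⟨e0, he0, hbe⟩ := h2
    obtain ⟨t, ht⟩ := Subgroup.mem_zpowers_iff.1 (hL e he he1 he0)
    apply hbe
    rw [← ht, ← MulAut.conj_apply, map_zpow, MulAut.conj_apply, hme, one_mul]
  obtain ⟨t, ht⟩ := Subgroup.mem_zpowers_iff.1 (hL' m hm hm1 (inv_mem hf))
  have hmW := hb.le hm
  have hbpow : ∀ n : ℕ, b ^ n * e * (b ^ n)⁻¹ = m ^ n * e := by
    intro n
    induction n with
    | zero => simp
    | succ n ih =>
      calc b ^ (n + 1) * e * (b ^ (n + 1))⁻¹ = b * (b ^ n * e * (b ^ n)⁻¹) * b⁻¹ := by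
            rw [pow_succ']; group
        _ = (b * (m ^ n) * b⁻¹) * (b * e * b⁻¹) := by rw [ih]; group
        _ = m ^ n * (m * e) := by rw [hb.fix _ (pow_mem hm n), hme]
        _ = m ^ (n + 1) * e := by rw [pow_succ, mul_assoc]
  obtain ⟨n, hn⟩ : ∃ n : ℕ, m ^ n = f⁻¹ := by
    have hmem : f⁻¹ ∈ Submonoid.powers m := by
      rw [mem_powers_iff_mem_zpowers]; exact ⟨t, ht⟩
    exact hmem
  obtain ⟨b', hb'⟩ : ∃ b', b' = b ^ n := ⟨_, rfl⟩
  have hb'e : b' * e * b'⁻¹ = f⁻¹ * e := by rw [hb', hbpow, hn]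
  have hb'f : b' * f * b'⁻¹ = f := by
    rw [hb']
    have hcom : Commute b f := mul_inv_eq_iff_eq_mul.1 (hb.fix f hf)
    rw [(hcom.pow_left n).eq, mul_inv_cancel_right]
  have hfe : f * e = e * f := hWc f (hb.le hf) e (ha.le he)
  have hae : a * e * a⁻¹ = e := ha.fix e he
  obtain ⟨h, hh⟩ : ∃ h, h = a * b' * a := ⟨_, rfl⟩
  have hhe : h * e * h⁻¹ = f⁻¹ := by
    calc h * e * h⁻¹ = a * (b' * (a * e * a⁻¹) * b'⁻¹) * a⁻¹ := by rw [hh]; group
      _ = (a * f * a⁻¹)⁻¹ * (a * e * a⁻¹) := by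
          conv_lhs => rw [hae, hb'e]
          group
      _ = (e * f)⁻¹ * e := by rw [hef, hae]
      _ = f⁻¹ := by group
  have hhf : h * f * h⁻¹ = e := by
    calc h * f * h⁻¹ = a * (b' * (a * f * a⁻¹) * b'⁻¹) * a⁻¹ := by rw [hh]; group
      _ = a * ((b' * e * b'⁻¹) * (b' * f * b'⁻¹)) * a⁻¹ := by rw [hef]; group
      _ = a * (f⁻¹ * (e * f)) * a⁻¹ := by rw [hb'e, hb'f, mul_assoc f⁻¹ e f]
      _ = e := by rw [← hfe, inv_mul_cancel_left, hae]
  have hh2 : ∀ k : ℕ, (h ^ 2) ^ (2 * k + 1) * e * ((h ^ 2) ^ (2 * k + 1))⁻¹ = e⁻¹ := by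
    have h2e : h ^ 2 * e * (h ^ 2)⁻¹ = e⁻¹ := by
      calc h ^ 2 * e * (h ^ 2)⁻¹ = h * (h * e * h⁻¹) * h⁻¹ := by rw [sq]; group
        _ = (h * f * h⁻¹)⁻¹ := by rw [hhe]; group
        _ = e⁻¹ := by rw [hhf]
    intro k
    induction k with
    | zero => simpa using h2e
    | succ k ih =>
      calc (h ^ 2) ^ (2 * (k + 1) + 1) * e * ((h ^ 2) ^ (2 * (k + 1) + 1))⁻¹
          = h ^ 2 * (h ^ 2 * ((h ^ 2) ^ (2 * k + 1) * e * ((h ^ 2) ^ (2 * k + 1))⁻¹) * (h ^ 2)⁻¹) *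
              (h ^ 2)⁻¹ := by
            rw [show 2 * (k + 1) + 1 = 1 + (1 + (2 * k + 1)) by ring, pow_add, pow_add, pow_one]
            group
        _ = h ^ 2 * (h ^ 2 * e * (h ^ 2)⁻¹)⁻¹ * (h ^ 2)⁻¹ := by rw [ih]; group
        _ = e⁻¹ := by rw [h2e, inv_inv, h2e]
  obtain ⟨k, hk⟩ : Odd (orderOf h) := hY.of_dvd_nat (orderOf_dvd_natCard h)
  have hnh := hh2 k
  rw [← pow_mul, mul_comm, pow_mul, ← hk, pow_orderOf_eq_one, one_pow, one_mul, inv_one,
    mul_one] at hnh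
  have he2 : e ^ 2 = 1 := by
    rw [sq]
    nth_rw 2 [hnh]
    exact mul_inv_cancel e
  have hep := hWp e (ha.le he)
  apply he1
  have hdvd : orderOf e ∣ Nat.gcd 2 p :=
    Nat.dvd_gcd (orderOf_dvd_of_pow_eq_one he2) (orderOf_dvd_of_pow_eq_one hep)
  rw [(Nat.coprime_primes Nat.prime_two hp.out).2 (Ne.symm hp2) |>.gcd_eq_one, Nat.dvd_one,
    orderOf_eq_one_iff] at hdvd
  exact hdvd

end Transvection

end CfsgLib.Case
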